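import Mathlib.GroupTheory.Sylow
import Mathlib.GroupTheory.PGroup
import Mathlib.GroupTheory.Nilpotent
import Mathlib.GroupTheory.Subgroup.Simple

/-!
Sylow subgroups of almost simple groups and the maximal subgroups containing them.
-/

set_option autoImplicit false

namespace Cfsg.Agent.FG38

open Subgroup

variable {G : Type*} [Group G] [Finite G] {r : ℕ} [Fact r.Prime]

theorem not_le_of_pgroup (T : Subgroup G) (hT : IsSimpleGroup T) (hna : ¬ IsMulCommutative T)
    (Q : Subgroup G) (hQ : IsPGroup r Q) : ¬ T ≤ Q := by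
  intro h
  apply hna
  haveI := (hQ.to_le h).isNilpotent
  haveI := hT
  exact ⟨⟨IsSimpleGroup.comm_iff_isSolvable.mpr inferInstance⟩⟩

theorem normalizer_inf_ne_top (T : Subgroup G) [T.Normal] (hT : IsSimpleGroup T)
    (hna : ¬ IsMulCommutative T) (R : Sylow r G) (hR0 : (R : Subgroup G) ⊓ T ≠ ⊥) :
    normalizer (((R : Subgroup G) ⊓ T : Subgroup G) : Set G) ≠ ⊤ := by
  intro h
  haveI : ((R : Subgroup G) ⊓ T).Normal := normalizer_eq_top_iff.mp h
  haveI := hT
  rcases (inferInstance : (((R : Subgroup G) ⊓ T).subgroupOf T).Normal).eq_bot_or_eq_top with h1 | h1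
  · exact hR0 (by
      rw [eq_bot_iff]
      intro x hx
      have : (⟨x, hx.2⟩ : T) ∈ ((R : Subgroup G) ⊓ T).subgroupOf T := hx
      rw [h1, mem_bot] at this
      exact congrArg Subtype.val this)
  · exact not_le_of_pgroup T hT hna R R.isPGroup'
      ((subgroupOf_eq_top.mp h1).trans inf_le_left)

theorem normalizer_le_normalizer_inf (T : Subgroup G) [T.Normal] (R : Sylow r G) :
    normalizer ((R : Subgroup G) : Set G) ≤ normalizer (((R : Subgroup G) ⊓ T : Subgroup G) : Set G) := by
  intro g hg
  rw [mem_normalizer_iff] at hg ⊢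
  intro x
  simp only [mem_inf]
  have hTn : x ∈ T ↔ g * x * g⁻¹ ∈ T :=
    ⟨fun h => ‹T.Normal›.conj_mem x h g, fun h => by simpa [mul_assoc] using ‹T.Normal›.conj_mem _ h g⁻¹⟩
  rw [hg x, hTn]

theorem exists_coatom_ge_normalizer (T : Subgroup G) [T.Normal] (hT : IsSimpleGroup T)
    (hna : ¬ IsMulCommutative T) (R : Sylow r G) (hR0 : (R : Subgroup G) ⊓ T ≠ ⊥) :
    ∃ M : Subgroup G, IsCoatom M ∧ normalizer ((R : Subgroup G) : Set G) ≤ M := by
  rcases eq_top_or_exists_le_coatom (normalizer ((R : Subgroup G) : Set G)) with h | ⟨M, hM, hle⟩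
  · exact absurd (top_le_iff.mp (h ▸ normalizer_le_normalizer_inf T R))
      (normalizer_inf_ne_top T hT hna R hR0)
  · exact ⟨M, hM, hle⟩

theorem exists_conj_contains (R : Sylow r G) {M : Subgroup G} (hM : ¬ r ∣ M.index) :
    ∃ g : G, (R : Subgroup G) ≤ M.map (MulAut.conj g).toMonoidHom := by
  obtain ⟨Q⟩ : Nonempty (Sylow r M) := inferInstance
  have hcard : Nat.card ↥((Q : Subgroup M).map M.subtype) = r ^ (Nat.card G).factorization r := by
    rw [Subgroup.card_map_of_injective M.subtype_injective, Q.card_eq_multiplicity]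
    congr 1
    rw [← card_mul_index M, Nat.factorization_mul Nat.card_pos.ne' Subgroup.index_ne_zero_of_finite,
      Finsupp.add_apply, Nat.factorization_eq_zero_of_not_dvd hM, add_zero]
  set Q' := Sylow.ofCard _ hcard
  obtain ⟨g, hg⟩ := MulAction.exists_smul_eq G Q' R
  refine ⟨g, ?_⟩
  rw [← hg]
  exact Subgroup.map_mono (map_subtype_le (Q : Subgroup M))

theorem isPGroup_quotient (T : Subgroup G) [T.Normal] (hT : IsSimpleGroup T)
    (hna : ¬ IsMulCommutative T) (R : Sylow r G) (hR0 : (R : Subgroup G) ⊓ T ≠ ⊥)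
    (huniq : ∃! M : Subgroup G, IsCoatom M ∧ (R : Subgroup G) ≤ M) : IsPGroup r (G ⧸ T) := by
  obtain ⟨M, ⟨hM, hRM⟩, hu⟩ := huniq
  have hRT : (R : Subgroup G) ⊔ T = ⊤ := by
    rcases eq_top_or_exists_le_coatom ((R : Subgroup G) ⊔ T) with h | ⟨M', hM', hle⟩
    · exact h
    exfalso
    have hMM' : M' = M := hu M' ⟨hM', le_sup_left.trans hle⟩
    subst hMM'
    have hTM : T ≤ M' := le_sup_right.trans hle
    -- Frattini argument
    have hNM : normalizer (((R : Subgroup G) ⊓ T : Subgroup G) : Set G) ≤ M' := by
      rcases eq_top_or_exists_le_coatom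
        (normalizer (((R : Subgroup G) ⊓ T : Subgroup G) : Set G)) with h | ⟨M₁, hM₁, h1⟩
      · exact absurd h (normalizer_inf_ne_top T hT hna R hR0)
      · have : M₁ = M' := hu M₁ ⟨hM₁,
          (le_trans le_normalizer (normalizer_le_normalizer_inf T R)).trans h1⟩
        exact this ▸ h1
    have hS : ¬ r ∣ (((R : Subgroup G) ⊓ T).subgroupOf T).index := by
      rw [inf_subgroupOf_right]
      change ¬ r ∣ (R : Subgroup G).relIndex T
      intro hd
      apply R.not_dvd_index
      have hdvd : (R : Subgroup G).relIndex T ∣ (R : Subgroup G).index := by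
        have h1 : (R : Subgroup G).relIndex T = (R : Subgroup G).relIndex ((R : Subgroup G) ⊔ T) := by
          apply Nat.eq_of_mul_eq_mul_left (show 0 < Nat.card (R : Subgroup G) from Nat.card_pos)
          have e1 := relIndex_sup_right (H := (R : Subgroup G)) (K := T)
          have e2 := card_mul_index (T.subgroupOf ((R : Subgroup G) ⊔ T))
          have e3 := card_mul_index ((R : Subgroup G).subgroupOf T)
          have e4 := card_mul_index ((R : Subgroup G).subgroupOf ((R : Subgroup G) ⊔ T))
          have e5 := card_mul_index (T.subgroupOf (R : Subgroup G))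
          have c1 : Nat.card (T.subgroupOf ((R : Subgroup G) ⊔ T)) = Nat.card T :=
            Nat.card_congr (subgroupOfEquivOfLe le_sup_right).toEquiv
          have c2 : Nat.card ((R : Subgroup G).subgroupOf ((R : Subgroup G) ⊔ T)) = Nat.card (R : Subgroup G) :=
            Nat.card_congr (subgroupOfEquivOfLe le_sup_left).toEquiv
          have c3 : Nat.card (T.subgroupOf (R : Subgroup G)) = Nat.card ((R : Subgroup G).subgroupOf T) := by
            rw [← Subgroup.card_map_of_injective (R : Subgroup G).subtype_injective,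
              ← Subgroup.card_map_of_injective (K := (R : Subgroup G).subgroupOf T) T.subtype_injective,
              subgroupOf_map_subtype, subgroupOf_map_subtype, inf_comm]
          change _ * T.relIndex ((R : Subgroup G) ⊔ T) = _ at e2
          change _ * (R : Subgroup G).relIndex T = _ at e3
          change _ * (R : Subgroup G).relIndex ((R : Subgroup G) ⊔ T) = _ at e4
          change _ * T.relIndex (R : Subgroup G) = _ at e5
          rw [c1, e1] at e2
          rw [c2] at e4
          rw [c3] at e5
          calc Nat.card (R : Subgroup G) * (R : Subgroup G).relIndex T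
              = (Nat.card ((R : Subgroup G).subgroupOf T) * (R : Subgroup G).relIndex T) *
                  T.relIndex (R : Subgroup G) := by rw [← e5]; ring
            _ = Nat.card ↥((R : Subgroup G) ⊔ T) := by rw [e3, e2]
            _ = _ := e4.symm
        rw [h1, ← relIndex_mul_index (le_sup_left : (R : Subgroup G) ≤ (R : Subgroup G) ⊔ T)]
        exact dvd_mul_right _ _
      exact hd.trans hdvd
    set S : Sylow r T := ((R.isPGroup'.to_le inf_le_left).comap_subtype (K := T)).toSylow hS
    have hfr := Sylow.normalizer_sup_eq_top (N := T) S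
    have hmap : (S : Subgroup T).map T.subtype = (R : Subgroup G) ⊓ T := by
      simp [S, IsPGroup.toSylow_coe, subgroupOf_map_subtype, inf_assoc]
    rw [hmap] at hfr
    exact hM'.1 (top_le_iff.mp (hfr ▸ sup_le hNM hTM))
  have hmap : (R : Subgroup G).map (QuotientGroup.mk' T) = ⊤ := by
    have := congrArg (Subgroup.map (QuotientGroup.mk' T)) hRT
    rw [Subgroup.map_sup, QuotientGroup.map_mk'_self, sup_bot_eq,
      Subgroup.map_top_of_surjective _ (QuotientGroup.mk'_surjective T)] at this
    exact this
  have h2 := R.isPGroup'.map (QuotientGroup.mk' T)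
  rw [hmap] at h2
  exact h2.of_equiv Subgroup.topEquiv

end Cfsg.Agent.FG38
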