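import Cfsg.Agent.FG38.ConjAbSolvable
import Cfsg.Agent.Lib.Coprime.Generation
import Cfsg.Agent.S3742

/-!
In a solvable group in which abelian subgroups of equal order are conjugate, a non-cyclic Sylow subgroup of
prime exponent is normal and abelian.
-/

set_option autoImplicit false

namespace Cfsg.Agent.FG38

open Subgroup

theorem card_mulAut_quaternion : Nat.card (MulAut (QuaternionGroup 2)) = 24 := by
  obtain ⟨e⟩ := S3742.result
  rw [Nat.card_congr e.toEquiv, Nat.card_perm, Nat.card_fin]
  rfl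

/-- A group of order dividing four with at most one involution is cyclic. -/
theorem isCyclic_of_dvd_four {H : Type*} [Group H] [Finite H] (hd : Nat.card H ∣ 4)
    (hu : ∀ x y : H, orderOf x = 2 → orderOf y = 2 → x = y) : IsCyclic H := by
  by_cases hx : ∃ x : H, x ^ 2 ≠ 1
  · obtain ⟨x, hx⟩ := hx
    have h := orderOf_eq_four hx (orderOf_dvd_iff_pow_eq_one.mp ((orderOf_dvd_natCard x).trans hd))
    exact isCyclic_of_orderOf_eq_card x (h.trans (Nat.dvd_antisymm (h ▸ orderOf_dvd_natCard x) hd))
  · push Not at hx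
    by_cases h1 : ∃ x : H, x ≠ 1
    · obtain ⟨x, hx1⟩ := h1
      refine ⟨x, fun y => ?_⟩
      by_cases hy : y = 1
      · exact ⟨0, by simp [hy]⟩
      · exact ⟨1, by simp [hu y x (orderOf_eq_prime (hx y) hy) (orderOf_eq_prime (hx x) hx1)]⟩
    · push Not at h1
      exact ⟨1, fun y => ⟨0, by simp [h1 y]⟩⟩

variable {G : Type*} [Group G] [Finite G]

theorem sylow_le_of_exponent (hB : ConjAb G) (N : Subgroup G) [N.Normal] {r : ℕ} [Fact r.Prime]
    (R : Sylow r G) (hR : ∀ x ∈ (R : Subgroup G), x ^ r = 1) (h : r ∣ Nat.card N) : (R : Subgroup G) ≤ N := by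
  intro x hx
  by_cases hx1 : x = 1
  · rw [hx1]; exact one_mem N
  obtain ⟨m, hm⟩ := exists_prime_orderOf_dvd_card' (G := N) r h
  exact mem_of_orderOf hB N x ⟨m, m.2, by rw [Subgroup.orderOf_coe, hm, orderOf_eq_prime (hR x hx) hx1]⟩

/-- Core of the line-transitivity argument: `R` induces an abelian group on `M`, and an element of `R` whose
`r`-th power centralises `M` has non-trivial fixed points without centralising `M`. -/
theorem lines_core (hB : ConjAb G) {q r : ℕ} [Fact q.Prime] [Fact r.Prime] (hqr : q ≠ r)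
    (M : Subgroup G) [M.Normal] [IsMulCommutative ↥M] (hM : ∀ x ∈ M, x ^ q = 1)
    (R : Subgroup G)
    (hmod : ∀ s ∈ R, ∀ a ∈ R, ∀ m ∈ M, s * (a * m * a⁻¹) * s⁻¹ = a * (s * m * s⁻¹) * a⁻¹)
    (hK : (R ⊔ centralizer (M : Set G)).Normal) {a x m : G} (haR : a ∈ R)
    (har : ∀ v ∈ M, a ^ r * v * (a ^ r)⁻¹ = v) (hxM : x ∈ M) (hx1 : x ≠ 1) (hax : Commute a x)
    (hmM : m ∈ M) (hm : ¬ Commute a m) : False := by
  haveI := hK
  have hMc : ∀ {u v : G}, u ∈ M → v ∈ M → Commute u v := fun {u v} hu hv => by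
    have h := mul_comm' (⟨u, hu⟩ : M) ⟨v, hv⟩
    exact congrArg (fun t : M => (t : G)) h
  set IsDiff : G → Prop := fun u => ∃ m ∈ M, u = a * m * a⁻¹ * m⁻¹ with hDiff
  have hdM : ∀ {u}, IsDiff u → u ∈ M := fun {u} ⟨m, hm, e⟩ =>
    e ▸ mul_mem (‹M.Normal›.conj_mem m hm a) (inv_mem hm)
  have hd : ∀ {u}, IsDiff u → Commute a u → u = 1 := by
    intro u hu hau
    have huM := hdM hu
    obtain ⟨m, hm, e⟩ := hu
    have e1 : a * m * a⁻¹ = u * m := by rw [e, inv_mul_cancel_right]
    have hiter : ∀ i : ℕ, a ^ i * m * (a ^ i)⁻¹ = u ^ i * m := by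
      intro i
      induction i with
      | zero => simp
      | succ i ih =>
        rw [pow_succ' a, mul_inv_rev]
        calc a * a ^ i * m * ((a ^ i)⁻¹ * a⁻¹) = a * (a ^ i * m * (a ^ i)⁻¹) * a⁻¹ := by group
          _ = (a * u ^ i * a⁻¹) * (a * m * a⁻¹) := by rw [ih]; group
          _ = u ^ (i + 1) * m := by rw [(hau.pow_right i).eq, mul_inv_cancel_right, e1, pow_succ, mul_assoc]
    have h := hiter r
    rw [har m hm] at h
    have hur : u ^ r = 1 := right_eq_mul.mp h
    have h1 : orderOf u ∣ Nat.gcd r q :=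
      Nat.dvd_gcd (orderOf_dvd_of_pow_eq_one hur) (orderOf_dvd_of_pow_eq_one (hM u huM))
    rw [(Nat.coprime_primes Fact.out Fact.out).mpr hqr.symm, Nat.dvd_one] at h1
    exact orderOf_eq_one_iff.mp h1
  obtain ⟨y, hy⟩ : ∃ y, y = a * m * a⁻¹ * m⁻¹ := ⟨_, rfl⟩
  have hyd : IsDiff y := ⟨m, hmM, hy⟩
  have hy1 : y ≠ 1 := fun h => hm (mul_inv_eq_iff_eq_mul.mp (mul_inv_eq_one.mp (hy.symm.trans h)))
  have hyM := hdM hyd
  have hxy1 : x * y ≠ 1 := fun h => hy1 (hd hyd (by
    rw [eq_inv_of_mul_eq_one_right h]; exact hax.inv_right))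
  have hord : ∀ {z}, z ∈ M → z ≠ 1 → orderOf z = q := fun {z} hz hz1 => orderOf_eq_prime (hM z hz) hz1
  set K := R ⊔ centralizer (M : Set G) with hKdef
  have key : K ⊓ centralizer {x * y} ≤ K ⊓ centralizer {x} ⊓ centralizer {y} := by
    rintro k ⟨hk, hkc⟩
    obtain ⟨s, hs, c, hc, rfl⟩ := mem_sup_of_normal_right.mp hk
    have hcx := mem_centralizer_iff.mp hc x hxM
    have hcy := mem_centralizer_iff.mp hc y hyM
    have hfix : s * (x * y) * s⁻¹ = x * y := by
      have h1 := mem_centralizer_singleton_iff.mp hkc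
      have h2 : c * (x * y) = (x * y) * c := by
        rw [← mul_assoc, ← hcx, mul_assoc, ← hcy, ← mul_assoc]
      rw [mul_assoc s c, h2, ← mul_assoc, ← mul_assoc (x * y)] at h1
      rw [mul_inv_eq_iff_eq_mul]
      exact mul_right_cancel h1
    set u := x⁻¹ * (s * x * s⁻¹) with hu
    have hu_y : u = y * (s * y * s⁻¹)⁻¹ := by
      rw [hu, inv_mul_eq_iff_eq_mul, ← mul_assoc, eq_mul_inv_iff_mul_eq, ← hfix]
      group
    have hud : IsDiff u := by
      refine ⟨m * (s * m * s⁻¹)⁻¹, mul_mem hmM (inv_mem (‹M.Normal›.conj_mem m hmM s)), ?_⟩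
      have hm' : s * m * s⁻¹ ∈ M := ‹M.Normal›.conj_mem m hmM s
      have e : s * y * s⁻¹ = a * (s * m * s⁻¹) * a⁻¹ * (s * m * s⁻¹)⁻¹ := by
        rw [hy]
        calc s * (a * m * a⁻¹ * m⁻¹) * s⁻¹ = s * (a * m * a⁻¹) * s⁻¹ * (s * m * s⁻¹)⁻¹ := by group
          _ = _ := by rw [hmod s hs a haR m hmM]
      rw [hu_y, e, hy]
      set m' := s * m * s⁻¹
      have A1 : a * m * a⁻¹ ∈ M := ‹M.Normal›.conj_mem m hmM a
      have A2 : (a * m' * a⁻¹)⁻¹ ∈ M := inv_mem (‹M.Normal›.conj_mem m' hm' a)
      calc a * m * a⁻¹ * m⁻¹ * (a * m' * a⁻¹ * m'⁻¹)⁻¹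
          = (a * m * a⁻¹) * (m⁻¹ * m') * (a * m' * a⁻¹)⁻¹ := by group
        _ = (a * m * a⁻¹) * (a * m' * a⁻¹)⁻¹ * (m⁻¹ * m') := by
            rw [mul_assoc, (hMc (mul_mem (inv_mem hmM) hm') A2).eq, ← mul_assoc]
        _ = (a * m * a⁻¹) * (a * m' * a⁻¹)⁻¹ * (m' * m⁻¹) := by rw [(hMc (inv_mem hmM) hm').eq]
        _ = a * (m * m'⁻¹) * a⁻¹ * (m * m'⁻¹)⁻¹ := by group
    have hsx : Commute a (s * x * s⁻¹) := by
      have h := hmod s hs a haR x hxM
      rw [show a * x * a⁻¹ = x from mul_inv_eq_iff_eq_mul.mpr hax.eq] at h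
      exact (mul_inv_eq_iff_eq_mul.mp h.symm)
    have hu1 : u = 1 := hd hud (hax.inv_right.mul_right hsx)
    have e1 : s * x * s⁻¹ = x := (inv_mul_eq_one.mp hu1).symm
    have e2 : s * y * s⁻¹ = y := by
      rw [hu_y, mul_inv_eq_one] at hu1
      exact hu1.symm
    refine ⟨⟨hk, mem_centralizer_singleton_iff.mpr ?_⟩, mem_centralizer_singleton_iff.mpr ?_⟩
    · rw [mul_assoc, ← hcx, ← mul_assoc, ← mul_assoc, mul_inv_eq_iff_eq_mul.mp e1]
    · rw [mul_assoc, ← hcy, ← mul_assoc, ← mul_assoc, mul_inv_eq_iff_eq_mul.mp e2]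
  obtain ⟨g, hg⟩ := hB (zpowers x) (zpowers (x * y)) inferInstance inferInstance
    (by rw [Nat.card_zpowers, Nat.card_zpowers, hord hxM hx1, hord (mul_mem hxM hyM) hxy1])
  obtain ⟨w, hw, hwxy⟩ := (hg ▸ mem_zpowers (x * y) : x * y ∈ (zpowers x).map (MulAut.conj g).toMonoidHom)
  have hmap : (K ⊓ centralizer {x}).map (MulAut.conj g).toMonoidHom ≤ K ⊓ centralizer {x * y} := by
    rintro _ ⟨k, ⟨hk, hkx⟩, rfl⟩
    refine ⟨hK.conj_mem k hk g, mem_centralizer_singleton_iff.mpr ?_⟩
    obtain ⟨i, rfl⟩ := mem_zpowers_iff.mp hw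
    rw [← hwxy, MulEquiv.coe_toMonoidHom, ← map_mul, ← map_mul,
      ((show Commute k x from mem_centralizer_singleton_iff.mp hkx).zpow_right i).eq]
  have hle := key.trans inf_le_left
  have heq : K ⊓ centralizer {x * y} = K ⊓ centralizer {x} := eq_of_le_of_card_ge hle (by
    rw [← Subgroup.card_map_of_injective (K := K ⊓ centralizer {x}) (f := (MulAut.conj g).toMonoidHom) (MulAut.conj g).injective]
    exact card_le_of_le hmap)
  have hay : a ∈ K ⊓ centralizer {x} ⊓ centralizer {y} :=
    key (heq ▸ ⟨mem_sup_left haR, mem_centralizer_singleton_iff.mpr hax.eq⟩)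
  exact hy1 (hd hyd (mem_centralizer_singleton_iff.mp hay.2))

/-- A non-cyclic abelian group of prime exponent cannot act on an abelian normal subgroup whose
cyclic subgroups are conjugate. -/
theorem false_of_lines (hB : ConjAb G) {q r : ℕ} [Fact q.Prime] [Fact r.Prime] (hqr : q ≠ r)
    (M : Subgroup G) [M.Normal] [IsMulCommutative ↥M] (hM : ∀ x ∈ M, x ^ q = 1)
    (R : Subgroup G) [IsMulCommutative ↥R] (hR : ∀ x ∈ R, x ^ r = 1) (hRc : ¬ IsCyclic ↥R)
    (hinf : R ⊓ centralizer (M : Set G) = ⊥) (hK : (R ⊔ centralizer (M : Set G)).Normal) : False := by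
  haveI := hK
  have hMp : IsPGroup q M := fun x => ⟨1, Subtype.ext (by simpa using hM x x.2)⟩
  have hRp : IsPGroup r R := fun x => ⟨1, Subtype.ext (by simpa using hR x x.2)⟩
  obtain ⟨a, haR, ha1, x, hxM, hx1, hax⟩ :
      ∃ a ∈ R, a ≠ 1 ∧ ∃ x ∈ M, x ≠ 1 ∧ Commute a x := by
    by_contra hno
    have hle : M ≤ (⊥ : Subgroup G) := by
      refine Coprime.le_of_centralizer_le R M ⊥ hRc (by rw [normalizer_eq_top_iff.mpr ‹M.Normal›]; exact le_top)
        (IsPGroup.coprime_card_of_ne r q hqr.symm R M hRp hMp) fun e he he1 x hx => ?_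
      by_contra hxb
      exact hno ⟨e, he, he1, x, hx.1, fun h => hxb (by rw [h]; exact one_mem _),
        (mem_centralizer_singleton_iff.mp hx.2).symm⟩
    have hC : centralizer (M : Set G) = ⊤ := by
      rw [eq_top_iff]
      intro g _
      rw [mem_centralizer_iff]
      intro m hm
      rw [mem_bot.mp (hle hm), one_mul, mul_one]
    rw [hC, inf_top_eq] at hinf
    exact hRc (hinf ▸ inferInstance)
  obtain ⟨m, hmM, hm⟩ : ∃ m ∈ M, ¬ Commute a m := by
    by_contra hall
    push Not at hall
    have : a ∈ R ⊓ centralizer (M : Set G) :=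
      ⟨haR, mem_centralizer_iff.mpr fun m hm => (hall m hm).symm⟩
    rw [hinf, mem_bot] at this
    exact ha1 this
  refine lines_core hB hqr M hM R ?_ hK haR ?_ hxM hx1 hax hmM hm
  · intro s hs b hb v _
    have h := mul_comm' (⟨s, hs⟩ : R) ⟨b, hb⟩
    have hsb : s * b = b * s := congrArg (fun t : R => (t : G)) h
    calc s * (b * v * b⁻¹) * s⁻¹ = (s * b) * v * (s * b)⁻¹ := by group
      _ = (b * s) * v * (b * s)⁻¹ := by rw [hsb]
      _ = _ := by group
  · intro v _
    rw [hR a haR, one_mul, inv_one, mul_one]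

theorem commutative_of_normal (hB : ConjAb G) [Group.IsSolvable G] {r : ℕ} [Fact r.Prime] (R : Sylow r G)
    (hR : ∀ x ∈ (R : Subgroup G), x ^ r = 1) (hRc : ¬ IsCyclic ↥(R : Subgroup G))
    (hn : (R : Subgroup G).Normal) : IsMulCommutative ↥(R : Subgroup G) := by
  haveI := hn
  obtain ⟨M, hM, hMR⟩ := Fitting.exists_isMinNormal_le hn (fun h => hRc (h ▸ inferInstance))
  haveI := hM.1
  obtain ⟨s, hs, hMe⟩ := hM.exists_isElementaryAbelian_of_isSolvable
  obtain ⟨t, ht⟩ := IsPGroup.iff_card.mp (R.isPGroup'.to_le hMR)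
  have ht0 : t ≠ 0 := fun h => hM.2.1 (card_eq_one.mp (by rw [ht, h, pow_zero]))
  have hle := sylow_le_of_exponent hB M R hR (ht ▸ dvd_pow_self r ht0)
  rw [le_antisymm hle hMR]
  exact hMe.1

theorem normal_of_exponent_aux (N : ℕ) : ∀ {G : Type*} [Group G] [Finite G], Nat.card G ≤ N →
    ConjAb G → Group.IsSolvable G → ∀ {r : ℕ} [Fact r.Prime] (R : Sylow r G),
      (∀ x ∈ (R : Subgroup G), x ^ r = 1) → ¬ IsCyclic ↥(R : Subgroup G) → (R : Subgroup G).Normal := by
  induction N with
  | zero => intro G _ _ h; exact absurd h (Nat.not_le.mpr Nat.card_pos)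
  | succ N ih =>
    intro G _ _ hle hB hsol r _ R hR hRc
    haveI := hsol
    have hr : r.Prime := Fact.out
    by_cases hOr : r ∣ Nat.card (Cfsg.pCore r G)
    · have h := le_antisymm (sylow_le_of_exponent hB _ R hR hOr) (Fitting.pCore_le_sylow R)
      rw [h]; infer_instance
    by_cases hall : ∀ p : Nat.Primes, (R : Subgroup G) ≤ centralizer (Cfsg.pCore (p : ℕ) G : Set G)
    · have hC : (R : Subgroup G) ≤ centralizer (Cfsg.fittingSubgroup G : Set G) := by
        rw [Fitting.fitting_eq_iSup_pCore, le_centralizer_iff]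
        exact iSup_le fun p => le_centralizer_iff.mp (hall p)
      have hRF := hC.trans Fitting.centralizer_fitting_le
      haveI := Fitting.fitting_isNilpotent (G := G)
      have hn : ((R.subtype hRF : Sylow r _) : Subgroup ↥(Cfsg.fittingSubgroup G)).Normal := inferInstance
      haveI := Sylow.characteristic_of_normal _ hn
      have : ((R : Subgroup G).subgroupOf (Cfsg.fittingSubgroup G)).map (Cfsg.fittingSubgroup G).subtype =
          (R : Subgroup G) := by rw [subgroupOf_map_subtype, inf_eq_left.mpr hRF]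
      rw [← this]
      exact inferInstanceAs ((R.subtype hRF : Subgroup ↥(Cfsg.fittingSubgroup G)).map _).Normal
    exfalso
    push Not at hall
    obtain ⟨⟨p, hp⟩, hnot⟩ := hall
    simp only at hnot
    haveI := Fact.mk hp
    set O := Cfsg.pCore p G with hOdef
    set C := centralizer (O : Set G) with hCdef
    haveI : C.Normal := inferInstance
    have hpr : p ≠ r := by
      rintro rfl
      have : Nat.card O = 1 := (Fitting.pCore_isPGroup p).card_eq_or_dvd.resolve_right hOr
      apply hnot
      intro x _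
      rw [mem_centralizer_iff]
      intro o ho
      rw [SetLike.mem_coe, card_eq_one.mp this, mem_bot] at ho
      rw [ho, one_mul, mul_one]
    have hinf : (R : Subgroup G) ⊓ C = ⊥ := by
      by_contra hne
      obtain ⟨z, hz, hz1⟩ := ((R : Subgroup G) ⊓ C).bot_or_exists_ne_one.resolve_left hne
      refine hnot (sylow_le_of_exponent hB C R hR ?_)
      rw [← orderOf_eq_prime (hR z hz.1) hz1]
      exact Subgroup.orderOf_dvd_natCard C hz.2
    have hker : (MulAut.conjNormal : G →* MulAut O).ker ≤ C := by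
      intro g hg
      rw [hCdef, mem_centralizer_iff]
      intro o ho
      have h := congrArg (fun t : O => (t : G)) (DFunLike.congr_fun (hg : MulAut.conjNormal g = 1) ⟨o, ho⟩)
      simp only [MulAut.conjNormal_apply, MulAut.one_apply] at h
      exact (mul_inv_eq_iff_eq_mul.mp h).symm
    set act := (MulAut.conjNormal : G →* MulAut O).comp (R : Subgroup G).subtype with hact
    have hinj : Function.Injective act := by
      rw [injective_iff_map_eq_one]
      intro x hx
      have : (x : G) ∈ (R : Subgroup G) ⊓ C := ⟨x.2, hker hx⟩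
      rw [hinf, mem_bot] at this
      exact Subtype.ext this
    obtain ⟨P⟩ := (inferInstance : Nonempty (Sylow p G))
    have hOP : O ≤ (P : Subgroup G) := Fitting.pCore_le_sylow P
    have hcyc : IsCyclic ↥O → False := by
      intro hO
      haveI := hO
      apply hRc
      by_cases htriv : ∃ x : ↥(R : Subgroup G), x ≠ 1
      swap
      · push Not at htriv
        exact ⟨1, fun y => ⟨0, by simp [htriv y]⟩⟩
      obtain ⟨x, hx⟩ := htriv
      have hab : ∀ f₁ f₂ : MulAut O, f₁ * f₂ = f₂ * f₁ := fun f₁ f₂ =>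
        (IsCyclic.mulAutMulEquiv O).injective (by rw [map_mul, map_mul, mul_comm])
      refine ⟨x, fun y => ?_⟩
      by_cases hy : y = 1
      · exact ⟨0, by simp [hy]⟩
      have hox : orderOf (x : G) = r := orderOf_eq_prime (hR _ x.2) (fun h => hx (Subtype.ext h))
      have hoy : orderOf (y : G) = r := orderOf_eq_prime (hR _ y.2) (fun h => hy (Subtype.ext h))
      obtain ⟨g, hg⟩ := hB (zpowers (x : G)) (zpowers (y : G)) inferInstance inferInstance
        (by rw [Nat.card_zpowers, Nat.card_zpowers, hox, hoy])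
      obtain ⟨w, hw, hwy⟩ := (hg ▸ mem_zpowers (y : G) :
        (y : G) ∈ (zpowers (x : G)).map (MulAut.conj g).toMonoidHom)
      obtain ⟨i, rfl⟩ := mem_zpowers_iff.mp hw
      refine ⟨i, (hinj ?_).symm⟩
      show MulAut.conjNormal (y : G) = MulAut.conjNormal ((x ^ i : ↥(R : Subgroup G)) : G)
      rw [← hwy, MulEquiv.coe_toMonoidHom, MulAut.conj_apply, map_mul, map_mul, map_inv, hab (MulAut.conjNormal g),
        mul_inv_cancel_right, Subgroup.coe_zpow]
    by_cases hPc : IsCyclic ↥(P : Subgroup G)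
    · exact hcyc (isCyclic_of_injective (inclusion hOP) (inclusion_injective hOP))
    rcases sylow_cases hB P with h | ⟨h2, n, ⟨e⟩⟩ | hPe
    · exact hPc h
    · subst h2
      obtain rfl := quaternion_small hB P e
      obtain ⟨i, hi⟩ := IsPGroup.iff_card.mp (Fitting.pCore_isPGroup (G := G) 2)
      have hP8 : Nat.card ↥(P : Subgroup G) = 2 ^ 3 := by
        rw [Nat.card_congr e.toEquiv, Nat.card_eq_fintype_card, QuaternionGroup.card]; rfl
      have hi3 : i ≤ 3 := (Nat.pow_dvd_pow_iff_le_right one_lt_two).mp (hi ▸ hP8 ▸ card_dvd_of_le hOP)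
      rcases Nat.lt_or_ge i 3 with h | h
      · refine hcyc (isCyclic_of_dvd_four (by rw [hOdef, hi]; exact pow_dvd_pow 2 (show i ≤ 2 by omega)) ?_)
        intro u v hu hv
        exact inclusion_injective hOP (quaternion_involution_unique e
          (by rw [orderOf_injective _ (inclusion_injective hOP), hu])
          (by rw [orderOf_injective _ (inclusion_injective hOP), hv]))
      · have hOeq : O = (P : Subgroup G) := eq_of_le_of_card_ge hOP (by
          rw [hP8, hOdef, hi]; exact Nat.pow_le_pow_right two_pos h)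
        have hcard : Nat.card (MulAut O) = 24 := by
          rw [Nat.card_congr (MulAut.congr ((MulEquiv.subgroupCongr hOeq).trans e)).toEquiv]
          exact card_mulAut_quaternion
        have hd : Nat.card ↥(R : Subgroup G) ∣ 24 := hcard ▸ card_dvd_of_injective act hinj
        obtain ⟨k, hk⟩ := IsPGroup.iff_card.mp R.isPGroup'
        have hk2 : 2 ≤ k := by
          by_contra hlt
          interval_cases k
          · haveI : Subsingleton ↥(R : Subgroup G) := (Nat.card_eq_one_iff_unique.mp (by simpa using hk)).1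
            exact hRc isCyclic_of_subsingleton
          · exact hRc (isCyclic_of_prime_card (p := r) (by simpa using hk))
        have h9 : r * r ∣ 24 := by
          rw [← pow_two]; exact (pow_dvd_pow r hk2).trans (hk ▸ hd)
        have hr3 : r ≤ 4 := by
          by_contra hh
          have := Nat.le_of_dvd (by norm_num) h9
          nlinarith
        have := hr.two_le
        interval_cases r
        · exact hpr rfl
        · norm_num at h9
        · exact absurd hr (by norm_num)
    · have hO1 : p ∣ Nat.card O := by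
        rcases (Fitting.pCore_isPGroup (G := G) p).card_eq_or_dvd with h | h
        · exfalso
          apply hnot
          intro x _
          rw [mem_centralizer_iff]
          intro o ho
          rw [SetLike.mem_coe, show O = ⊥ from card_eq_one.mp h, mem_bot] at ho
          rw [ho, one_mul, mul_one]
        · exact h
      have hOeq : O = (P : Subgroup G) := le_antisymm hOP (sylow_le_of_exponent hB O P hPe hO1)
      haveI hPn : (P : Subgroup G).Normal := hOeq ▸ (inferInstance : O.Normal)
      haveI hPab := commutative_of_normal hB P hPe hPc hPn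
      haveI : IsMulCommutative ↥O := hOeq ▸ hPab
      have hOC : O ≤ C := le_centralizer O
      set R' := R.mapSurjective (QuotientGroup.mk'_surjective C) with hR'
      have hinj' : Function.Injective ((QuotientGroup.mk' C).comp (R : Subgroup G).subtype) := by
        rw [injective_iff_map_eq_one]
        intro x hx
        have : (x : G) ∈ (R : Subgroup G) ⊓ C := ⟨x.2, (QuotientGroup.eq_one_iff (x : G)).mp hx⟩
        rw [hinf, mem_bot] at this
        exact Subtype.ext this
      have hlt : Nat.card (G ⧸ C) ≤ N := by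
        have h1 := card_mul_index C
        rw [index_eq_card] at h1
        have h2 : 2 ≤ Nat.card C := (hp.two_le.trans (Nat.le_of_dvd Nat.card_pos hO1)).trans (card_le_of_le hOC)
        have h3 := Nat.card_pos (α := G ⧸ C)
        nlinarith
      have hRn : (R' : Subgroup (G ⧸ C)).Normal := by
        refine ih hlt (conjAb_quotient_solvable hB hsol C) (Group.isSolvable_of_surjective (QuotientGroup.mk'_surjective C))
          R' ?_ ?_
        · rintro x hx
          rw [hR', Sylow.coe_mapSurjective] at hx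
          obtain ⟨y, hy, rfl⟩ := hx
          rw [← map_pow, hR y hy, map_one]
        · intro hc
          refine hRc ?_
          rw [hR', Sylow.coe_mapSurjective] at hc
          have : ((QuotientGroup.mk' C).comp (R : Subgroup G).subtype).range =
              (R : Subgroup G).map (QuotientGroup.mk' C) := by rw [MonoidHom.range_comp, range_subtype]
          exact ((MonoidHom.ofInjective hinj').trans (MulEquiv.subgroupCongr this)).isCyclic.mpr hc
      have hKn : ((R : Subgroup G) ⊔ C).Normal := by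
        have h := hRn.comap (QuotientGroup.mk' C)
        rwa [hR', Sylow.coe_mapSurjective, comap_map_eq, QuotientGroup.ker_mk'] at h
      haveI : IsMulCommutative ↥(R : Subgroup G) := by
        have h := commutative_of_normal (conjAb_quotient_solvable hB hsol C) R' ?_ ?_ hRn
        · refine ⟨⟨fun u v => hinj' ?_⟩⟩
          have hu : QuotientGroup.mk' C u ∈ (R' : Subgroup (G ⧸ C)) := by
            rw [hR', Sylow.coe_mapSurjective]; exact mem_map_of_mem _ u.2
          have hv : QuotientGroup.mk' C v ∈ (R' : Subgroup (G ⧸ C)) := by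
            rw [hR', Sylow.coe_mapSurjective]; exact mem_map_of_mem _ v.2
          have := h.is_comm.comm ⟨_, hu⟩ ⟨_, hv⟩
          rw [map_mul, map_mul]
          exact congrArg (fun t : ↥(R' : Subgroup (G ⧸ C)) => (t : G ⧸ C)) this
        · rintro x hx
          rw [hR', Sylow.coe_mapSurjective] at hx
          obtain ⟨y, hy, rfl⟩ := hx
          rw [← map_pow, hR y hy, map_one]
        · intro hc
          refine hRc ?_
          rw [hR', Sylow.coe_mapSurjective] at hc
          have : ((QuotientGroup.mk' C).comp (R : Subgroup G).subtype).range =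
              (R : Subgroup G).map (QuotientGroup.mk' C) := by rw [MonoidHom.range_comp, range_subtype]
          exact ((MonoidHom.ofInjective hinj').trans (MulEquiv.subgroupCongr this)).isCyclic.mpr hc
      exact false_of_lines hB hpr O (fun x hx => hPe x (hOP hx)) (R : Subgroup G) hR hRc hinf hKn

/-- A non-cyclic Sylow subgroup of prime exponent of a solvable `ConjAb` group is normal and abelian. -/
theorem normal_abelian_of_exponent (hB : ConjAb G) (hsol : Group.IsSolvable G) {r : ℕ} [Fact r.Prime]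
    (R : Sylow r G) (hR : ∀ x ∈ (R : Subgroup G), x ^ r = 1) (hRc : ¬ IsCyclic ↥(R : Subgroup G)) :
    (R : Subgroup G).Normal ∧ IsMulCommutative ↥(R : Subgroup G) := by
  haveI := hsol
  have h := normal_of_exponent_aux (Nat.card G) le_rfl hB hsol R hR hRc
  exact ⟨h, commutative_of_normal hB R hR hRc h⟩

end Cfsg.Agent.FG38
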