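import Cfsg.Agent.FG38.ConjAbNormal

/-!
Quaternion Sylow subgroups of solvable `ConjAb` groups acting on elementary abelian normal subgroups.
-/

set_option autoImplicit false

namespace Cfsg.Agent.FG38

open Subgroup

/-- An irreducible quaternion action whose equivariant endomorphisms are transitive does not exist. -/
theorem no_quaternion_action {U : Type*} [CommGroup U] [Nontrivial U] {q : ℕ} [Fact q.Prime] (hq : q ≠ 2)
    (hU : ∀ u : U, u ^ q = 1) (x y : U ≃* U) (hxx : ∀ u, x (x u) = u⁻¹) (hyy : ∀ u, y (y u) = u⁻¹)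
    (hxy : ∀ u, y (x u) = (x (y u))⁻¹)
    (hirr : ∀ F : Subgroup U, (∀ v ∈ F, x v ∈ F) → (∀ v ∈ F, y v ∈ F) → F = ⊥ ∨ F = ⊤)
    (hend : ∀ u v : U, u ≠ 1 → v ≠ 1 →
      ∃ φ : U →* U, (∀ w, φ (x w) = x (φ w)) ∧ (∀ w, φ (y w) = y (φ w)) ∧ φ u = v) : False := by
  have hp : q.Prime := Fact.out
  obtain ⟨a₀, b₀, hab⟩ := ZMod.sq_add_sq q (-1 : ZMod q)
  set a : ℤ := (a₀.val : ℤ) with ha
  set b : ℤ := (b₀.val : ℤ) with hb
  have hdvd : (q : ℤ) ∣ a * a + b * b + 1 := by
    rw [← ZMod.intCast_zmod_eq_zero_iff_dvd, ha, hb]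
    push_cast
    rw [ZMod.natCast_zmod_val, ZMod.natCast_zmod_val, ← pow_two, ← pow_two, hab, neg_add_cancel]
  have hz : ∀ (u : U) (i : ℤ), (q : ℤ) ∣ i → u ^ i = 1 := by
    rintro u i ⟨k, rfl⟩
    rw [zpow_mul, zpow_natCast, hU, one_zpow]
  have hsq : ∀ u : U, u * u = 1 → u = 1 := fun u h => by
    obtain ⟨k, hk⟩ := hp.odd_of_ne_two hq
    have h1 := hU u
    rwa [hk, pow_add, pow_mul, pow_two, h, one_pow, one_mul, pow_one] at h1
  let T : U → U := fun w => (x w) ^ a * (y w) ^ b
  have hT : ∀ u : U, u ≠ 1 → T u = u ∨ T u = u⁻¹ := by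
    intro u hu
    obtain ⟨φ, hφx, hφy, hφ⟩ := hend u (x u) hu (fun h => hu (x.injective (h.trans x.map_one.symm)))
    obtain ⟨χ, hχx, hχy, hχ⟩ := hend u (y u) hu (fun h => hu (y.injective (h.trans y.map_one.symm)))
    let ψ : U →* U := MonoidHom.mk' (fun w => φ w ^ a * χ w ^ b) (fun v w => by
      rw [map_mul, map_mul, mul_zpow, mul_zpow, mul_mul_mul_comm])
    have hψapp : ∀ w, ψ w = φ w ^ a * χ w ^ b := fun _ => rfl
    have hψx : ∀ w, ψ (x w) = x (ψ w) := fun w => by
      rw [hψapp, hψapp, hφx, hχx, map_mul, map_zpow, map_zpow]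
    have hψy : ∀ w, ψ (y w) = y (ψ w) := fun w => by
      rw [hψapp, hψapp, hφy, hχy, map_mul, map_zpow, map_zpow]
    have h1 : ψ u = T u := by rw [hψapp, hφ, hχ]
    have h2 : ψ (T u) = u := by
      show ψ ((x u) ^ a * (y u) ^ b) = u
      rw [map_mul, map_zpow, map_zpow, hψx, hψy, h1]
      show (x ((x u) ^ a * (y u) ^ b)) ^ a * (y ((x u) ^ a * (y u) ^ b)) ^ b = u
      rw [map_mul, map_mul, map_zpow, map_zpow, map_zpow, map_zpow, hxx, hyy, hxy, mul_zpow, mul_zpow,
        ← zpow_mul, ← zpow_mul, ← zpow_mul, ← zpow_mul, inv_zpow', inv_zpow', inv_zpow']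
      have e : u ^ (-(a * a)) * u ^ (-(b * b)) = u := by
        rw [← zpow_add, show -(a * a) + -(b * b) = 1 + -(a * a + b * b + 1) by ring, zpow_add, zpow_one,
          hz u _ (dvd_neg.mpr hdvd), mul_one]
      rw [mul_assoc, ← mul_assoc (x (y u) ^ (b * a)), mul_comm b a, ← zpow_add, add_neg_cancel, zpow_zero,
        one_mul, e]
    let F : Subgroup U := ψ.eqLocus (MonoidHom.id U)
    have hFmem : u * T u ∈ F := by
      show ψ (u * T u) = u * T u
      rw [map_mul, h1, h2, mul_comm]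
    rcases hirr F (fun v hv => by show ψ (x v) = x v; rw [hψx]; exact congrArg x hv)
      (fun v hv => by show ψ (y v) = y v; rw [hψy]; exact congrArg y hv) with hF | hF
    · rw [hF, mem_bot] at hFmem
      exact Or.inr (eq_inv_of_mul_eq_one_right hFmem)
    · have : u ∈ F := hF ▸ mem_top u
      exact Or.inl (h1 ▸ this)
  have hT1 : T 1 = 1 := by simp [T]
  have hTmul : ∀ v w, T (v * w) = T v * T w := fun v w => by
    simp only [T, map_mul, mul_zpow]
    exact mul_mul_mul_comm _ _ _ _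
  have huni : (∀ u, T u = u) ∨ ∀ u, T u = u⁻¹ := by
    by_cases hall : ∀ u, T u = u
    · exact Or.inl hall
    push Not at hall
    obtain ⟨u₀, hu₀⟩ := hall
    have hu₀1 : u₀ ≠ 1 := fun h => hu₀ (by rw [h, hT1])
    have hu₀T : T u₀ = u₀⁻¹ := (hT u₀ hu₀1).resolve_left hu₀
    refine Or.inr fun v => ?_
    by_cases hv : v = 1
    · rw [hv, hT1, inv_one]
    refine (hT v hv).resolve_left fun hvT => ?_
    by_cases huv : u₀ * v = 1
    · have e := congrArg T huv
      rw [hTmul, hu₀T, hvT, hT1, inv_mul_eq_one] at e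
      rw [← e] at huv
      exact hu₀1 (hsq u₀ huv)
    · rcases hT _ huv with e | e <;> rw [hTmul, hu₀T, hvT] at e
      · have : u₀⁻¹ = u₀ := mul_right_cancel e
        exact hu₀1 (hsq u₀ (inv_eq_iff_mul_eq_one.mp this))
      · rw [mul_inv_rev, mul_comm v⁻¹] at e
        have : v = v⁻¹ := mul_left_cancel e
        exact hv (hsq v (inv_eq_iff_mul_eq_one.mp this.symm))
  obtain ⟨u, hu⟩ := exists_ne (1 : U)
  have hTx : T (x u) = x (T u) := by
    rcases huni with h | h <;> rw [h, h]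
    rw [map_inv]
  have hTy : T (y u) = y (T u) := by
    rcases huni with h | h <;> rw [h, h]
    rw [map_inv]
  set w := x (y u) with hw
  have hw1 : w ≠ 1 := fun h =>
    hu (y.injective ((x.injective (h.trans x.map_one.symm)).trans y.map_one.symm))
  have key : ∀ c : ℤ, w ^ c = (w⁻¹) ^ c → (q : ℤ) ∣ c := by
    intro c hc
    have h1 : w ^ c = 1 := hsq _ (by nth_rw 2 [hc]; rw [inv_zpow, mul_inv_cancel])
    rw [← orderOf_eq_prime (hU w) hw1]
    exact orderOf_dvd_iff_zpow_eq_one.mpr h1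
  have hqb : (q : ℤ) ∣ b := by
    refine key b ?_
    simp only [T, map_mul, map_zpow] at hTx
    rw [hxy] at hTx
    exact (mul_left_cancel hTx).symm
  have hqa : (q : ℤ) ∣ a := by
    refine key a ?_
    simp only [T, map_mul, map_zpow] at hTy
    rw [hxy] at hTy
    exact mul_right_cancel hTy
  have : (q : ℤ) ∣ 1 := by
    have h := Int.dvd_sub hdvd (dvd_add (hqa.mul_left a) (hqb.mul_left b))
    rwa [show a * a + b * b + 1 - (a * a + b * b) = 1 by ring] at h
  exact hp.one_lt.ne' (Nat.dvd_one.mp (by exact_mod_cast this))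

theorem quaternion_relations :
    (∀ g : QuaternionGroup (2 ^ 1), g = 1 ∨ g = QuaternionGroup.a 2 ∨ g ^ 2 = QuaternionGroup.a 2) ∧
    (∀ g h : QuaternionGroup (2 ^ 1), g * h = h * g ∨ g * h = QuaternionGroup.a 2 * (h * g)) ∧
    (∀ g : QuaternionGroup (2 ^ 1), QuaternionGroup.a 2 * g = g * QuaternionGroup.a 2) ∧
    ((QuaternionGroup.a 2 : QuaternionGroup (2 ^ 1)) ≠ 1) ∧
    ((QuaternionGroup.a 1 : QuaternionGroup (2 ^ 1)) ^ 2 = QuaternionGroup.a 2) ∧
    ((QuaternionGroup.xa 0 : QuaternionGroup (2 ^ 1)) ^ 2 = QuaternionGroup.a 2) ∧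
    ((QuaternionGroup.a 1 * QuaternionGroup.xa 0 : QuaternionGroup (2 ^ 1)) ^ 2 = QuaternionGroup.a 2) ∧
    ((QuaternionGroup.xa 0 : QuaternionGroup (2 ^ 1)) * QuaternionGroup.a 1 =
      QuaternionGroup.a 2 * (QuaternionGroup.a 1 * QuaternionGroup.xa 0)) ∧
    (QuaternionGroup.a 2 : QuaternionGroup (2 ^ 1)) ^ 2 = 1 := by
  refine ⟨?_, ?_, ?_, ?_, ?_, ?_, ?_, ?_, ?_⟩ <;> decide

variable {G : Type*} [Group G] [Finite G]

/-- If a Sylow subgroup lies in the Fitting subgroup it is normal. -/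
theorem normal_of_le_fitting {p : ℕ} [Fact p.Prime] (R : Sylow p G)
    (hRF : (R : Subgroup G) ≤ Cfsg.fittingSubgroup G) : (R : Subgroup G).Normal := by
  haveI := Fitting.fitting_isNilpotent (G := G)
  have hn : ((R.subtype hRF : Sylow p _) : Subgroup ↥(Cfsg.fittingSubgroup G)).Normal := inferInstance
  haveI := Sylow.characteristic_of_normal _ hn
  have h : ((R : Subgroup G).subgroupOf (Cfsg.fittingSubgroup G)).map (Cfsg.fittingSubgroup G).subtype =
      (R : Subgroup G) := by rw [subgroupOf_map_subtype, inf_eq_left.mpr hRF]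
  rw [← h]
  exact inferInstanceAs ((R.subtype hRF : Subgroup ↥(Cfsg.fittingSubgroup G)).map _).Normal

/-- A quaternion Sylow `2`-subgroup without non-cyclic Sylow subgroups of prime exponent is normal. -/
theorem quaternion_normal (hB : ConjAb G) [Group.IsSolvable G] (Q : Sylow 2 G)
    (e : ↥(Q : Subgroup G) ≃* QuaternionGroup (2 ^ 1))
    (hodd : ∀ p : ℕ, p.Prime → p ≠ 2 → ∀ P : Sylow p G, IsCyclic ↥(P : Subgroup G)) :
    (Q : Subgroup G).Normal := by
  obtain ⟨hcases, -, hzc, hz1, hx2, hy2, hxy2, hrel, -⟩ := quaternion_relations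
  set j := (Q : Subgroup G).subtype.comp e.symm.toMonoidHom with hj
  have hjinj : Function.Injective j := (Q : Subgroup G).subtype_injective.comp e.symm.injective
  have hjmem : ∀ g, j g ∈ (Q : Subgroup G) := fun g => (e.symm g).2
  have hsurj : ∀ s ∈ (Q : Subgroup G), ∃ g, j g = s := fun s hs => ⟨e ⟨s, hs⟩, by simp [hj]⟩
  have hord : ∀ g, g ^ 2 = QuaternionGroup.a 2 → orderOf (j g) = 4 := fun g hg => by
    rw [orderOf_injective j hjinj]
    refine orderOf_eq_four (by rw [hg]; exact hz1) ?_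
    rw [show (4 : ℕ) = 2 * 2 from rfl, pow_mul, hg]
    decide
  by_contra hnn
  apply hnn
  refine normal_of_le_fitting Q (le_trans ?_ Fitting.centralizer_fitting_le)
  rw [Fitting.fitting_eq_iSup_pCore, le_centralizer_iff]
  refine iSup_le fun ⟨p, hp⟩ => le_centralizer_iff.mp ?_
  haveI := Fact.mk hp
  set O := Cfsg.pCore p G
  by_cases hp2 : p = 2
  · subst hp2
    have hO : ∀ w ∈ O, ∃ g : QuaternionGroup (2 ^ 1), j g = w ∧ (g = 1 ∨ g = QuaternionGroup.a 2) := by
      intro w hw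
      obtain ⟨g, rfl⟩ := hsurj w (Fitting.pCore_le_sylow Q hw)
      refine ⟨g, rfl, ?_⟩
      rcases hcases g with h | h | h
      · exact Or.inl h
      · exact Or.inr h
      · exfalso
        apply hnn
        have hQO : (Q : Subgroup G) = O := by
          refine le_antisymm (fun s hs => ?_) (Fitting.pCore_le_sylow Q)
          obtain ⟨g', rfl⟩ := hsurj s hs
          have h4 : ∀ g'', g'' ^ 2 = QuaternionGroup.a 2 → j g'' ∈ O := fun g'' hg'' =>
            mem_of_orderOf hB O _ ⟨j g, hw, by rw [hord g h, hord g'' hg'']⟩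
          rcases hcases g' with h' | h' | h'
          · rw [h', map_one]; exact one_mem _
          · rw [h', ← h, map_pow]; exact pow_mem hw 2
          · exact h4 g' h'
        rw [hQO]; infer_instance
    intro s hs
    rw [mem_centralizer_iff]
    intro w hw
    obtain ⟨g, rfl⟩ := hsurj s hs
    obtain ⟨g', rfl, h | h⟩ := hO w hw
    · rw [h, map_one, one_mul, mul_one]
    · rw [h, ← map_mul, hzc, map_mul]
  · obtain ⟨P⟩ := (inferInstance : Nonempty (Sylow p G))
    haveI := hodd p hp hp2 P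
    haveI : IsCyclic ↥O := isCyclic_of_injective (inclusion (Fitting.pCore_le_sylow P))
      (inclusion_injective _)
    have hab : ∀ f₁ f₂ : MulAut O, f₁ * f₂ = f₂ * f₁ := fun f₁ f₂ =>
      (IsCyclic.mulAutMulEquiv O).injective (by rw [map_mul, map_mul, mul_comm])
    set act : QuaternionGroup (2 ^ 1) →* MulAut O := (MulAut.conjNormal : G →* MulAut O).comp j
    set X := act (QuaternionGroup.a 1)
    have hodd' : ∀ g : QuaternionGroup (2 ^ 1), g ^ 2 = QuaternionGroup.a 2 →
        ∃ i : ℤ, ¬ 2 ∣ i ∧ act g = X ^ i := by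
      intro g hg
      obtain ⟨c, hc⟩ := hB (zpowers (j (QuaternionGroup.a 1))) (zpowers (j g)) inferInstance inferInstance
        (by rw [Nat.card_zpowers, Nat.card_zpowers, hord g hg, hord _ hx2])
      obtain ⟨w, hw, hwg⟩ := (hc ▸ mem_zpowers (j g) :
        j g ∈ (zpowers (j (QuaternionGroup.a 1))).map (MulAut.conj c).toMonoidHom)
      obtain ⟨i, rfl⟩ := mem_zpowers_iff.mp hw
      refine ⟨i, fun h2 => ?_, ?_⟩
      · obtain ⟨k, rfl⟩ := h2
        have h4 : (j g) ^ 2 = 1 := by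
          rw [← hwg, ← map_pow, ← zpow_natCast, ← zpow_mul,
            show (2 * k) * ((2 : ℕ) : ℤ) = (4 : ℕ) * k by push_cast; ring, zpow_mul, zpow_natCast,
            ← hord _ hx2, pow_orderOf_eq_one, one_zpow, map_one]
        rw [← map_pow, hg] at h4
        exact hz1 (hjinj (h4.trans (map_one j).symm))
      · show MulAut.conjNormal (j g) = (MulAut.conjNormal (j (QuaternionGroup.a 1))) ^ i
        rw [← hwg, MulEquiv.coe_toMonoidHom, MulAut.conj_apply, map_mul, map_mul, map_inv,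
          hab (MulAut.conjNormal c), mul_inv_cancel_right, map_zpow]
    obtain ⟨i, hi, hYi⟩ := hodd' _ hy2
    obtain ⟨k, hk, hXYk⟩ := hodd' _ hxy2
    rw [map_mul, hYi] at hXYk
    have h1 : X ^ (1 + i - k) = 1 := by rw [zpow_sub, zpow_add, zpow_one, hXYk, mul_inv_cancel]
    have h4 : X ^ 4 = 1 := by
      rw [← map_pow, show (4 : ℕ) = 2 * 2 from rfl, pow_mul, hx2]
      exact (congrArg act (show (QuaternionGroup.a 2 : QuaternionGroup (2 ^ 1)) ^ 2 = 1 by decide)).trans (map_one act)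
    have hX : X = 1 := by
      have d1 : ((orderOf X : ℕ) : ℤ) ∣ 1 + i - k := orderOf_dvd_iff_zpow_eq_one.mpr h1
      obtain ⟨l, -, hl⟩ := (Nat.dvd_prime_pow Nat.prime_two).mp
        (show orderOf X ∣ 2 ^ 2 from orderOf_dvd_of_pow_eq_one h4)
      rcases Nat.eq_zero_or_pos l with hl0 | hl0
      · exact orderOf_eq_one_iff.mp (by rw [hl, hl0, pow_zero])
      · exfalso
        have d2 : (2 : ℤ) ∣ ((orderOf X : ℕ) : ℤ) := by
          rw [hl]; exact_mod_cast dvd_pow_self 2 hl0.ne'
        have := d2.trans d1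
        omega
    have hY : act (QuaternionGroup.xa 0) = 1 := by rw [hYi, hX, one_zpow]
    have htriv : ∀ g, act g = 1 := by
      have hgen : ∀ g : QuaternionGroup (2 ^ 1), ∃ m n : Fin 4, g =
          QuaternionGroup.a 1 ^ (m : ℕ) * QuaternionGroup.xa 0 ^ (n : ℕ) := by decide
      intro g
      obtain ⟨m, n, rfl⟩ := hgen g
      rw [map_mul, map_pow, map_pow, show act (QuaternionGroup.a 1) = 1 from hX, hY, one_pow, one_pow, one_mul]
    intro s hs
    rw [mem_centralizer_iff]
    intro w hw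
    obtain ⟨g, rfl⟩ := hsurj s hs
    have h := congrArg (fun t : O => (t : G))
      (DFunLike.congr_fun (htriv g : MulAut.conjNormal (j g) = 1) ⟨w, hw⟩)
    simp only [MulAut.conjNormal_apply, MulAut.one_apply] at h
    exact (mul_inv_eq_iff_eq_mul.mp h).symm

/-- A quaternion Sylow subgroup normalising a proper non-trivial subgroup of an elementary abelian normal
subgroup, all whose cyclic subgroups are conjugate, centralises it. -/
theorem quaternion_centralizes (hB : ConjAb G) (hsol : Group.IsSolvable G) {q : ℕ} [Fact q.Prime] (hq : q ≠ 2)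
    (R : Subgroup G) [R.Normal] [IsMulCommutative ↥R] (hR : ∀ v ∈ R, v ^ q = 1)
    (Q : Sylow 2 G) (e : ↥(Q : Subgroup G) ≃* QuaternionGroup (2 ^ 1))
    (W : Subgroup G) (hWR : W ≤ R) (hW1 : W ≠ ⊥) (hWne : W ≠ R)
    (hWinv : ∀ s ∈ (Q : Subgroup G), ∀ v ∈ W, s * v * s⁻¹ ∈ W) :
    (Q : Subgroup G) ≤ centralizer (R : Set G) := by
  haveI := hsol
  obtain ⟨hcases, hcomm, hzc, hz1, hx2, hy2, hxy2, hrel, hz2⟩ := quaternion_relations
  set j := (Q : Subgroup G).subtype.comp e.symm.toMonoidHom with hj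
  have hjinj : Function.Injective j := (Q : Subgroup G).subtype_injective.comp e.symm.injective
  have hjmem : ∀ g, j g ∈ (Q : Subgroup G) := fun g => (e.symm g).2
  have hsurj : ∀ s ∈ (Q : Subgroup G), ∃ g, j g = s := fun s hs => ⟨e ⟨s, hs⟩, by simp [hj]⟩
  set C := centralizer (R : Set G) with hCdef
  haveI : C.Normal := inferInstance
  by_contra hnot
  have hnot4 : ∀ g, g ^ 2 = QuaternionGroup.a 2 → j g ∉ C := by
    intro g hg hgC
    apply hnot
    intro s hs
    obtain ⟨g', rfl⟩ := hsurj s hs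
    have hord : ∀ g'', g'' ^ 2 = QuaternionGroup.a 2 → orderOf (j g'') = 4 := fun g'' hg'' => by
      rw [orderOf_injective j hjinj]
      exact orderOf_eq_four (by rw [hg'']; exact hz1) (by rw [show (4 : ℕ) = 2 * 2 from rfl, pow_mul, hg'', hz2])
    rcases hcases g' with h' | h' | h'
    · rw [h', map_one]; exact one_mem _
    · rw [h', ← hg, map_pow]; exact pow_mem hgC 2
    · exact mem_of_orderOf hB C _ ⟨j g, hgC, by rw [hord g hg, hord g' h']⟩
  have hmoved : ∀ g, j g ∉ C → ∃ m ∈ R, ¬ Commute (j g) m := by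
    intro g hg
    by_contra hall
    push Not at hall
    exact hg (mem_centralizer_iff.mpr fun m hm => (hall m hm).symm)
  have hRc : ∀ {u v : G}, u ∈ R → v ∈ R → Commute u v := fun {u v} hu hv => by
    have h := mul_comm' (⟨u, hu⟩ : R) ⟨v, hv⟩
    exact congrArg (fun t : R => (t : G)) h
  have hconjC : ∀ (c : G), c ∈ C → ∀ v ∈ R, c * v * c⁻¹ = v := fun c hc v hv =>
    mul_inv_eq_iff_eq_mul.mpr (mem_centralizer_iff.mp hc v hv).symm
  by_cases hzC : j (QuaternionGroup.a 2) ∈ C
  · -- the image is a four group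
    set Qb := Q.mapSurjective (QuotientGroup.mk'_surjective C) with hQb
    have hQbn : ((Qb : Sylow 2 (G ⧸ C)) : Subgroup (G ⧸ C)).Normal := by
      refine (normal_abelian_of_exponent (conjAb_quotient_solvable hB hsol C)
        (Group.isSolvable_of_surjective (QuotientGroup.mk'_surjective C)) Qb ?_ ?_).1
      · intro w hw
        rw [hQb, Sylow.coe_mapSurjective] at hw
        obtain ⟨s, hs, rfl⟩ := hw
        obtain ⟨g, rfl⟩ := hsurj s hs
        rw [← map_pow, QuotientGroup.mk'_apply, QuotientGroup.eq_one_iff, ← map_pow]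
        rcases hcases g with h | h | h
        · rw [h, one_pow, map_one]; exact one_mem _
        · rw [h, hz2, map_one]; exact one_mem _
        · rw [h]; exact hzC
      · intro hc
        rw [hQb, Sylow.coe_mapSurjective] at hc
        obtain ⟨⟨t, ht⟩, htgen⟩ := hc.exists_generator
        have hsq : ∀ w ∈ (Q : Subgroup G).map (QuotientGroup.mk' C), w = 1 ∨ w = t := by
          intro w hw
          obtain ⟨i, hi⟩ := mem_zpowers_iff.mp (htgen ⟨w, hw⟩)
          have hi' : t ^ i = w := congrArg Subtype.val hi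
          have ht2 : t ^ (2 : ℤ) = 1 := by
            obtain ⟨s, hs, rfl⟩ := ht
            obtain ⟨g, rfl⟩ := hsurj s hs
            rw [zpow_two, ← map_mul, QuotientGroup.mk'_apply, QuotientGroup.eq_one_iff, ← map_mul, ← pow_two]
            rcases hcases g with h | h | h
            · rw [h, one_pow, map_one]; exact one_mem _
            · rw [h, hz2, map_one]; exact one_mem _
            · rw [h]; exact hzC
          rcases Int.emod_two_eq_zero_or_one i with h | h <;>
            rw [← Int.emod_add_mul_ediv i 2, h, zpow_add, zpow_mul, ht2, one_zpow, mul_one] at hi'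
          · exact Or.inl (by rw [← hi', zpow_zero])
          · exact Or.inr (by rw [← hi', zpow_one])
        have hne : ∀ g, g ^ 2 = QuaternionGroup.a 2 → QuotientGroup.mk' C (j g) = t := fun g hg =>
          (hsq _ (mem_map_of_mem _ (hjmem g))).resolve_left fun h =>
            hnot4 g hg ((QuotientGroup.eq_one_iff _).mp h)
        have h3 := hne _ hxy2
        rw [map_mul, map_mul, hne _ hx2, hne _ hy2, mul_eq_left] at h3
        exact hnot4 _ hx2 ((QuotientGroup.eq_one_iff _).mp ((hne _ hx2).trans h3))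
    have hK : ((Q : Subgroup G) ⊔ C).Normal := by
      have h := hQbn.comap (QuotientGroup.mk' C)
      rwa [hQb, Sylow.coe_mapSurjective, comap_map_eq, QuotientGroup.ker_mk'] at h
    have hsqC : ∀ g, g ^ 2 = QuaternionGroup.a 2 → ∀ v ∈ R,
        j g * (j g * v * (j g)⁻¹) * (j g)⁻¹ = v := by
      intro g hg v hv
      have h := hconjC _ (show (j g) ^ 2 ∈ C by rw [← map_pow, hg]; exact hzC) v hv
      calc j g * (j g * v * (j g)⁻¹) * (j g)⁻¹ = (j g) ^ 2 * v * ((j g) ^ 2)⁻¹ := by rw [pow_two]; group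
        _ = v := h
    have hfix : ∃ g, g ^ 2 = QuaternionGroup.a 2 ∧ ∃ v ∈ R, v ≠ 1 ∧ Commute (j g) v := by
      by_contra hno
      push Not at hno
      have hinvert : ∀ g, g ^ 2 = QuaternionGroup.a 2 → ∀ v ∈ R, j g * v * (j g)⁻¹ = v⁻¹ := by
        intro g hg v hv
        have hv' : j g * v * (j g)⁻¹ ∈ R := ‹R.Normal›.conj_mem v hv _
        have h1 : v * (j g * v * (j g)⁻¹) = 1 := by
          by_contra hne
          refine hno g hg _ (mul_mem hv hv') hne (mul_inv_eq_iff_eq_mul.mp ?_)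
          calc j g * (v * (j g * v * (j g)⁻¹)) * (j g)⁻¹
              = (j g * v * (j g)⁻¹) * (j g * (j g * v * (j g)⁻¹) * (j g)⁻¹) := by group
            _ = v * (j g * v * (j g)⁻¹) := by rw [hsqC g hg v hv]; exact (hRc hv' hv).eq
        exact eq_inv_of_mul_eq_one_right h1
      refine hnot4 _ hxy2 (mem_centralizer_iff.mpr fun v hv => ?_)
      symm
      rw [← mul_inv_eq_iff_eq_mul, map_mul]
      calc j (QuaternionGroup.a 1) * j (QuaternionGroup.xa 0) * v *
            (j (QuaternionGroup.a 1) * j (QuaternionGroup.xa 0))⁻¹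
          = j (QuaternionGroup.a 1) * (j (QuaternionGroup.xa 0) * v * (j (QuaternionGroup.xa 0))⁻¹) *
            (j (QuaternionGroup.a 1))⁻¹ := by group
        _ = v := by rw [hinvert _ hy2 v hv, hinvert _ hx2 _ (inv_mem hv), inv_inv]
    obtain ⟨g, hg, v, hv, hv1, hgv⟩ := hfix
    obtain ⟨m, hm, hgm⟩ := hmoved g (hnot4 g hg)
    haveI : Fact (Nat.Prime 2) := ⟨Nat.prime_two⟩
    refine lines_core hB (r := 2) hq R hR (Q : Subgroup G) ?_ hK (hjmem g) ?_ hv hv1 hgv hm hgm
    · intro s hs a ha u hu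
      obtain ⟨g₁, rfl⟩ := hsurj s hs
      obtain ⟨g₂, rfl⟩ := hsurj a ha
      calc j g₁ * (j g₂ * u * (j g₂)⁻¹) * (j g₁)⁻¹ = j (g₁ * g₂) * u * (j (g₁ * g₂))⁻¹ := by
            rw [map_mul]; group
        _ = j (g₂ * g₁) * u * (j (g₂ * g₁))⁻¹ := by
            rcases hcomm g₁ g₂ with h | h
            · rw [h]
            · rw [h, map_mul j (QuaternionGroup.a 2), mul_inv_rev]
              set k := j (g₂ * g₁)
              calc j (QuaternionGroup.a 2) * k * u * (k⁻¹ * (j (QuaternionGroup.a 2))⁻¹)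
                  = j (QuaternionGroup.a 2) * (k * u * k⁻¹) * (j (QuaternionGroup.a 2))⁻¹ := by group
                _ = k * u * k⁻¹ := hconjC _ hzC _ (‹R.Normal›.conj_mem u hu k)
        _ = _ := by rw [map_mul]; group
    · intro u hu
      rw [← map_pow, hg]
      exact hconjC _ hzC u hu
  -- faithful action
  have hQC : ∀ g, j g ∈ C → g = 1 := by
    intro g hg
    rcases hcases g with h | h | h
    · exact h
    · exact absurd (h ▸ hg) hzC
    · exact absurd hg (hnot4 g h)
  have hK : ((Q : Subgroup G) ⊔ C).Normal := by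
    have hY := conjAb_quotient_solvable hB hsol C
    haveI : Group.IsSolvable (G ⧸ C) := Group.isSolvable_of_surjective (QuotientGroup.mk'_surjective C)
    set Qb := Q.mapSurjective (QuotientGroup.mk'_surjective C) with hQb
    have hinj : Function.Injective ((QuotientGroup.mk' C).comp (Q : Subgroup G).subtype) := by
      rw [injective_iff_map_eq_one]
      intro s hs
      obtain ⟨g, hg⟩ := hsurj s s.2
      have := hQC g (hg ▸ (QuotientGroup.eq_one_iff (s : G)).mp hs)
      apply Subtype.ext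
      rw [← hg, this, map_one]; rfl
    have hrange : ((QuotientGroup.mk' C).comp (Q : Subgroup G).subtype).range = (Qb : Subgroup (G ⧸ C)) := by
      rw [hQb, Sylow.coe_mapSurjective, MonoidHom.range_comp, range_subtype]
    have eb : ↥(Qb : Subgroup (G ⧸ C)) ≃* QuaternionGroup (2 ^ 1) :=
      ((MonoidHom.ofInjective hinj).trans (MulEquiv.subgroupCongr hrange)).symm.trans e
    have hn : (Qb : Subgroup (G ⧸ C)).Normal := by
      refine quaternion_normal hY Qb eb fun p hp hp2 Pb => ?_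
      haveI := Fact.mk hp
      obtain ⟨P, rfl⟩ := Sylow.mapSurjective_surjective (QuotientGroup.mk'_surjective C) p Pb
      rw [Sylow.coe_mapSurjective]
      by_cases hPc : IsCyclic ↥(P : Subgroup G)
      · exact isCyclic_of_surjective ((QuotientGroup.mk' C).subgroupMap (P : Subgroup G))
          ((QuotientGroup.mk' C).subgroupMap_surjective _)
      rcases sylow_cases hB P with h | ⟨h2, -⟩ | hPe
      · exact absurd h hPc
      · exact absurd h2 hp2
      · obtain ⟨hPn, hPab⟩ := normal_abelian_of_exponent hB hsol P hPe hPc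
        haveI := hPn
        haveI := hPab
        by_cases hPC : (P : Subgroup G) ⊓ C = ⊥
        · exfalso
          have hqp : q ≠ p := by
            rintro rfl
            have hRP : R ≤ (P : Subgroup G) :=
              (IsPGroup.le_sylow_of_normal (fun v => ⟨1, Subtype.ext (by simpa using hR v v.2)⟩) P)
            have hle : R ≤ (P : Subgroup G) ⊓ C := le_inf hRP (le_centralizer R)
            rw [hPC, le_bot_iff] at hle
            exact hW1 (le_bot_iff.mp (hle ▸ hWR))
          exact false_of_lines hB hqp R hR (P : Subgroup G) hPe hPc hPC inferInstance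
        · obtain ⟨w, hw, hw1⟩ := ((P : Subgroup G) ⊓ C).bot_or_exists_ne_one.resolve_left hPC
          have hd : p ∣ Nat.card C := by
            rw [← orderOf_eq_prime (hPe w hw.1) hw1]
            exact Subgroup.orderOf_dvd_natCard C hw.2
          have hle := sylow_le_of_exponent hB C P hPe hd
          have : (P : Subgroup G).map (QuotientGroup.mk' C) = ⊥ := by
            rw [Subgroup.map_eq_bot_iff, QuotientGroup.ker_mk']; exact hle
          rw [this]; infer_instance
    have h := hn.comap (QuotientGroup.mk' C)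
    rwa [hQb, Sylow.coe_mapSurjective, comap_map_eq, QuotientGroup.ker_mk'] at h
  set z := j (QuaternionGroup.a 2) with hzdef
  have hinvert : ∀ v ∈ R, z * v * z⁻¹ = v⁻¹ := by
    have hzz : z * z = 1 := by rw [hzdef, ← map_mul, ← pow_two, hz2, map_one]
    have hzconj : ∀ g : G, ∀ v ∈ R, (g * z * g⁻¹) * v * (g * z * g⁻¹)⁻¹ = z * v * z⁻¹ := by
      intro g v hv
      obtain ⟨s, hs, c, hc, hsc⟩ := mem_sup_of_normal_right.mp
        (hK.conj_mem z (mem_sup_left (hjmem _)) g)
      obtain ⟨t, rfl⟩ := hsurj s hs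
      have htt : j (t * t) ∈ C := by
        have h1 : (QuotientGroup.mk' C) (j t * c) * (QuotientGroup.mk' C) (j t * c) = 1 := by
          rw [hsc, ← map_mul, show g * z * g⁻¹ * (g * z * g⁻¹) = g * (z * z) * g⁻¹ by group, hzz, mul_one,
            mul_inv_cancel, map_one]
        rw [map_mul, show QuotientGroup.mk' C c = 1 from (QuotientGroup.eq_one_iff c).mpr hc, mul_one,
          ← map_mul, ← map_mul] at h1
        exact (QuotientGroup.eq_one_iff _).mp h1
      have ht2 : t * t = 1 := hQC _ htt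
      have ht1 : t ≠ 1 := by
        intro h
        apply hzC
        rw [h, map_one, one_mul] at hsc
        have := (inferInstance : C.Normal).conj_mem c hc g⁻¹
        rwa [hsc, show g⁻¹ * (g * z * g⁻¹) * g⁻¹⁻¹ = z by group] at this
      have ht : t = QuaternionGroup.a 2 := by
        rcases hcases t with h | h | h
        · exact absurd h ht1
        · exact h
        · rw [pow_two, ht2] at h; exact absurd h.symm hz1
      rw [← hsc, ht]
      calc z * c * v * (z * c)⁻¹ = z * (c * v * c⁻¹) * z⁻¹ := by group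
        _ = z * v * z⁻¹ := by rw [hconjC c hc v hv]
    intro v hv
    have hv' : z * v * z⁻¹ ∈ R := ‹R.Normal›.conj_mem v hv z
    by_contra hne
    set w := v * (z * v * z⁻¹)
    have hw1 : w ≠ 1 := fun h => hne (eq_inv_of_mul_eq_one_right h)
    have hwfix : z * w * z⁻¹ = w := by
      calc z * (v * (z * v * z⁻¹)) * z⁻¹ = (z * v * z⁻¹) * ((z * z) * v * (z * z)⁻¹) := by group
        _ = (z * v * z⁻¹) * v := by rw [hzz]; group
        _ = w := (hRc hv' hv).eq
    let F : Subgroup G := R ⊓ centralizer ({z} : Set G)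
    haveI hFn : F.Normal := by
      refine ⟨fun u hu g => ⟨‹R.Normal›.conj_mem u hu.1 g, mem_centralizer_singleton_iff.mpr ?_⟩⟩
      have hc : z * u * z⁻¹ = u := mul_inv_eq_iff_eq_mul.mpr (mem_centralizer_singleton_iff.mp hu.2).symm
      have h := hzconj g⁻¹ u hu.1
      rw [hc] at h
      symm
      rw [← mul_inv_eq_iff_eq_mul]
      calc z * (g * u * g⁻¹) * z⁻¹ = g * ((g⁻¹ * z * g⁻¹⁻¹) * u * (g⁻¹ * z * g⁻¹⁻¹)⁻¹) * g⁻¹ := by group
        _ = g * u * g⁻¹ := by rw [h]
    have hwF : w ∈ F := ⟨mul_mem hv hv', mem_centralizer_singleton_iff.mpr (mul_inv_eq_iff_eq_mul.mp hwfix).symm⟩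
    apply hzC
    rw [hCdef, mem_centralizer_iff]
    intro u hu
    by_cases hu1 : u = 1
    · rw [hu1, one_mul, mul_one]
    have huF : u ∈ F := mem_of_orderOf hB F u ⟨w, hwF, by
      rw [orderOf_eq_prime (hR w (mul_mem hv hv')) hw1, orderOf_eq_prime (hR u hu) hu1]⟩
    exact mem_centralizer_singleton_iff.mp huF.2
  let Inv : Subgroup G → Prop := fun U => U ≤ R ∧ ∀ s ∈ (Q : Subgroup G), ∀ v ∈ U, s * v * s⁻¹ ∈ U
  obtain ⟨U, hUW, hU⟩ := exists_minimal_le_of_wellFoundedLT (fun U : Subgroup G => Inv U ∧ U ≠ ⊥) W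
    ⟨⟨hWR, hWinv⟩, hW1⟩
  obtain ⟨⟨hUR, hUinv⟩, hU1⟩ := hU.1
  have hconjInv : ∀ X : Subgroup G, Inv X → ∀ g, Inv (X.map (MulAut.conj g).toMonoidHom) := by
    intro X hX g
    refine ⟨?_, ?_⟩
    · rintro _ ⟨v, hv, rfl⟩; exact ‹R.Normal›.conj_mem v (hX.1 hv) g
    · rintro s hs _ ⟨v, hv, rfl⟩
      obtain ⟨t, ht, c, hc, htc⟩ := mem_sup_of_normal_right.mp (hK.conj_mem s (mem_sup_left hs) g⁻¹)
      refine ⟨t * v * t⁻¹, hX.2 t ht v hv, ?_⟩
      simp only [MulEquiv.coe_toMonoidHom, MulAut.conj_apply]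
      have h1 : (t * c) * v * (t * c)⁻¹ = t * v * t⁻¹ := by
        calc (t * c) * v * (t * c)⁻¹ = t * (c * v * c⁻¹) * t⁻¹ := by group
          _ = _ := by rw [hconjC c hc v (hX.1 hv)]
      rw [← h1, htc]
      group
  have hmin : ∀ X : Subgroup G, Inv X → X ≤ U → X ≠ ⊥ → X = U := fun X hX hle hne =>
    le_antisymm hle (hU.2 ⟨hX, hne⟩ hle)
  obtain ⟨u₀, hu₀, hu₀1⟩ := U.bot_or_exists_ne_one.resolve_left hU1
  have horbit : ∀ v ∈ R, v ≠ 1 → ∃ g, v ∈ U.map (MulAut.conj g).toMonoidHom := by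
    intro v hv hv1
    obtain ⟨g, hg⟩ := hB (zpowers u₀) (zpowers v) inferInstance inferInstance (by
      rw [Nat.card_zpowers, Nat.card_zpowers, orderOf_eq_prime (hR v hv) hv1,
        orderOf_eq_prime (hR u₀ (hUR hu₀)) hu₀1])
    refine ⟨g, map_mono (zpowers_le.mpr hu₀) ?_⟩
    rw [← hg]; exact mem_zpowers v
  have hminc : ∀ g, ∀ X : Subgroup G, Inv X → X ≤ U.map (MulAut.conj g).toMonoidHom → X ≠ ⊥ →
      X = U.map (MulAut.conj g).toMonoidHom := by
    intro g X hX hle hne
    have h1 : X.map (MulAut.conj g⁻¹).toMonoidHom = U := by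
      refine hmin _ (hconjInv X hX g⁻¹) ?_ (fun h => hne ((map_eq_bot_iff_of_injective _ (MulAut.conj g⁻¹).injective).mp h))
      rintro _ ⟨v, hv, rfl⟩
      obtain ⟨u, hu, rfl⟩ := hle hv
      have e' : (MulAut.conj g⁻¹).toMonoidHom ((MulAut.conj g).toMonoidHom u) = u := by simp [mul_assoc]
      rwa [e']
    rw [← h1, map_map]
    convert (X.map_id).symm using 2
    ext u; simp [mul_assoc]
  have hinter : ∀ (g : G) (X : Subgroup G), Inv X → ∀ v, v ∈ X ⊓ U.map (MulAut.conj g).toMonoidHom → v ≠ 1 →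
      U.map (MulAut.conj g).toMonoidHom ≤ X := by
    intro g X hX v hv hv1
    have h := hminc g (X ⊓ U.map (MulAut.conj g).toMonoidHom)
      ⟨inf_le_left.trans hX.1, fun s hs w hw => ⟨hX.2 s hs w hw.1, (hconjInv U ⟨hUR, hUinv⟩ g).2 s hs w hw.2⟩⟩
      inf_le_right (fun h => hv1 (mem_bot.mp (h ▸ hv)))
    exact h ▸ inf_le_left
  have hUne : ¬ R ≤ U := fun h => hWne (le_antisymm hWR (h.trans hUW))
  obtain ⟨v₀, hv₀, hv₀U⟩ := SetLike.not_le_iff_exists.mp hUne
  obtain ⟨g₂, hg₂⟩ := horbit v₀ hv₀ (fun h => hv₀U (by rw [h]; exact one_mem U))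
  set U₂ := U.map (MulAut.conj g₂).toMonoidHom with hU₂def
  have hU₂ : Inv U₂ := hconjInv U ⟨hUR, hUinv⟩ g₂
  have hUU₂ : ∀ v, v ∈ U → v ∈ U₂ → v = 1 := fun v hv hv' => by
    by_contra hv1
    exact hv₀U (hinter g₂ U ⟨hUR, hUinv⟩ v ⟨hv, hv'⟩ hv1 hg₂)
  have hcardU₂ : Nat.card U₂ = Nat.card U := Subgroup.card_map_of_injective (MulAut.conj g₂).injective
  -- equivariant maps from `U` to `U₂`
  have hmap : ∀ u ∈ U, u ≠ 1 → ∀ w ∈ U₂, w ≠ 1 → ∃ f : U →* U₂, Function.Bijective f ∧
      (∀ a b : U, ∀ s ∈ (Q : Subgroup G), (b : G) = s * a * s⁻¹ → (f b : G) = s * (f a) * s⁻¹) ∧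
      ∀ a : U, (a : G) = u → (f a : G) = w := by
    intro u hu hu1 w hw hw1
    have huw1 : u * w ≠ 1 := fun h => hu1 (hUU₂ u hu (by
      rw [eq_inv_of_mul_eq_one_left h]; exact inv_mem hw))
    obtain ⟨g₃, hg₃⟩ := horbit (u * w) (mul_mem (hUR hu) (hU₂.1 hw)) huw1
    set U₃ := U.map (MulAut.conj g₃).toMonoidHom
    have hU₃ : Inv U₃ := hconjInv U ⟨hUR, hUinv⟩ g₃
    have h31 : ∀ v, v ∈ U₃ → v ∈ U → v = 1 := fun v hv hv' => by
      by_contra hv1
      have hle := hinter g₃ U ⟨hUR, hUinv⟩ v ⟨hv', hv⟩ hv1 hg₃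
      refine hw1 (hUU₂ w ?_ hw)
      have := mul_mem (inv_mem hu) hle
      rwa [inv_mul_cancel_left] at this
    have h32 : ∀ v, v ∈ U₃ → v ∈ U₂ → v = 1 := fun v hv hv' => by
      by_contra hv1
      have hle := hinter g₃ U₂ hU₂ v ⟨hv', hv⟩ hv1 hg₃
      refine hu1 (hUU₂ u hu ?_)
      have := mul_mem hle (inv_mem hw)
      rwa [mul_inv_cancel_right] at this
    let A : Subgroup G :=
      { carrier := {a | a ∈ U ∧ ∃ b ∈ U₂, a * b ∈ U₃}
        one_mem' := ⟨one_mem _, 1, one_mem _, by rw [one_mul]; exact one_mem _⟩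
        mul_mem' := by
          rintro a a' ⟨ha, b, hb, hab⟩ ⟨ha', b', hb', hab'⟩
          refine ⟨mul_mem ha ha', b * b', mul_mem hb hb', ?_⟩
          rw [mul_assoc, ← mul_assoc a', (hRc (hUR ha') (hU₂.1 hb)).eq, mul_assoc b, ← mul_assoc a]
          exact mul_mem hab hab'
        inv_mem' := by
          rintro a ⟨ha, b, hb, hab⟩
          refine ⟨inv_mem ha, b⁻¹, inv_mem hb, ?_⟩
          rw [← mul_inv_rev, (hRc (hU₂.1 hb) (hUR ha)).eq]
          exact inv_mem hab }
    have hA : A = U := hmin A ⟨fun a ha => hUR ha.1, by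
        rintro s hs a ⟨ha, b, hb, hab⟩
        refine ⟨hUinv s hs a ha, s * b * s⁻¹, hU₂.2 s hs b hb, ?_⟩
        have := hU₃.2 s hs _ hab
        rwa [show s * (a * b) * s⁻¹ = s * a * s⁻¹ * (s * b * s⁻¹) by group] at this⟩
      (fun a ha => ha.1) (fun h => hu1 (mem_bot.mp (h ▸ (⟨hu, w, hw, hg₃⟩ : u ∈ A))))
    have hex : ∀ a : U, ∃ b : U₂, (a : G) * b ∈ U₃ := fun a => by
      obtain ⟨-, b, hb, hab⟩ := (hA.symm ▸ a.2 : (a : G) ∈ A)
      exact ⟨⟨b, hb⟩, hab⟩
    choose fb hfb using hex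
    have huniq : ∀ (a : U) (b : U₂), (a : G) * b ∈ U₃ → b = fb a := fun a b hb => by
      apply Subtype.ext
      have h := mul_mem (inv_mem hb) (hfb a)
      rw [mul_inv_rev, mul_assoc, inv_mul_cancel_left] at h
      exact (inv_mul_eq_one.mp (h32 _ h (mul_mem (inv_mem b.2) (fb a).2)))
    let f : U →* U₂ := MonoidHom.mk' fb fun a a' => by
      symm
      apply huniq
      push_cast
      rw [mul_assoc, ← mul_assoc (a' : G), (hRc (hUR a'.2) (hU₂.1 (fb a).2)).eq, mul_assoc ((fb a : U₂) : G),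
        ← mul_assoc (a : G)]
      exact mul_mem (hfb a) (hfb a')
    refine ⟨f, ?_, ?_, ?_⟩
    · have hinj : Function.Injective f := by
        rw [injective_iff_map_eq_one]
        intro a ha
        have h := hfb a
        rw [show fb a = 1 from ha, OneMemClass.coe_one, mul_one] at h
        exact Subtype.ext (h31 _ h a.2)
      exact (Nat.bijective_iff_injective_and_card f).mpr ⟨hinj, hcardU₂.symm⟩
    · intro a b s hs hb
      have h := hU₃.2 s hs _ (hfb a)
      rw [show s * ((a : G) * fb a) * s⁻¹ = s * a * s⁻¹ * (s * fb a * s⁻¹) by group, ← hb] at h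
      have := huniq b ⟨_, hU₂.2 s hs _ (fb a).2⟩ h
      exact (congrArg (fun t : U₂ => (t : G)) this).symm
    · intro a ha
      have := huniq a ⟨w, hw⟩ (by rw [ha]; exact hg₃)
      exact (congrArg (fun t : U₂ => (t : G)) this).symm
  letI : CommGroup ↥U := { (inferInstance : Group ↥U) with mul_comm := fun a b => Subtype.ext (hRc (hUR a.2) (hUR b.2)).eq }
  haveI : Nontrivial ↥U := (nontrivial_iff_ne_bot U).mpr hU1
  have hactmem : ∀ g, ∀ v ∈ U, j g * v * (j g)⁻¹ ∈ U := fun g v hv => hUinv _ (hjmem g) v hv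
  let act : QuaternionGroup (2 ^ 1) → (↥U ≃* ↥U) := fun g =>
    { toFun := fun v => ⟨j g * v * (j g)⁻¹, hactmem g v v.2⟩
      invFun := fun v => ⟨j g⁻¹ * v * (j g⁻¹)⁻¹, hactmem g⁻¹ v v.2⟩
      left_inv := fun v => Subtype.ext (by simp [mul_assoc])
      right_inv := fun v => Subtype.ext (by simp [mul_assoc])
      map_mul' := fun v w => Subtype.ext (by simp [mul_assoc]) }
  have hactval : ∀ g (v : U), ((act g v : U) : G) = j g * v * (j g)⁻¹ := fun _ _ => rfl
  have hact : ∀ g h (v : U), act g (act h v) = act (g * h) v := fun g h v => Subtype.ext (by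
    simp only [hactval, map_mul]; group)
  have hactz : ∀ v : U, act (QuaternionGroup.a 2) v = v⁻¹ := fun v => Subtype.ext (by
    rw [hactval]; exact hinvert v (hUR v.2))
  refine no_quaternion_action hq (fun v : U => Subtype.ext (by simpa using hR v (hUR v.2)))
    (act (QuaternionGroup.a 1)) (act (QuaternionGroup.xa 0)) ?_ ?_ ?_ ?_ ?_
  · intro v; rw [hact, ← pow_two, hx2, hactz]
  · intro v; rw [hact, ← pow_two, hy2, hactz]
  · intro v; rw [hact, hact, hrel, ← hact, hactz]
  · intro F hFx hFy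
    have hgen : ∀ g : QuaternionGroup (2 ^ 1), ∃ m n : Fin 4, g =
        QuaternionGroup.a 1 ^ (m : ℕ) * QuaternionGroup.xa 0 ^ (n : ℕ) := by decide
    have hpw : ∀ g, (∀ v ∈ F, act g v ∈ F) → ∀ n : ℕ, ∀ v ∈ F, act (g ^ n) v ∈ F := by
      intro g hg n
      induction n with
      | zero =>
        intro v hv
        rw [pow_zero, show act 1 v = v from Subtype.ext (by simp [hactval])]
        exact hv
      | succ n ih => intro v hv; rw [pow_succ', ← hact]; exact hg _ (ih v hv)
    have hall : ∀ g, ∀ v ∈ F, act g v ∈ F := by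
      intro g v hv
      obtain ⟨m, n, rfl⟩ := hgen g
      rw [← hact]
      exact hpw _ hFx _ _ (hpw _ hFy _ v hv)
    by_cases hF : F = ⊥
    · exact Or.inl hF
    right
    have h := hmin (F.map U.subtype) ⟨(map_subtype_le F).trans hUR, by
        rintro s hs _ ⟨v, hv, rfl⟩
        obtain ⟨g, rfl⟩ := hsurj s hs
        exact ⟨act g v, hall g v hv, rfl⟩⟩ (map_subtype_le F)
      (fun h => hF ((map_eq_bot_iff_of_injective F U.subtype_injective).mp h))
    apply map_injective U.subtype_injective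
    rw [h, ← MonoidHom.range_eq_map, range_subtype]
  · intro u v hu hv
    obtain ⟨w, hw, hw1⟩ : ∃ w ∈ U₂, w ≠ 1 :=
      ⟨v₀, hg₂, fun h => hv₀U (by rw [h]; exact one_mem U)⟩
    obtain ⟨f, hf, hfeq, hfu⟩ := hmap u u.2 (fun h => hu (Subtype.ext h)) w hw hw1
    obtain ⟨f', hf', hfeq', hfv⟩ := hmap v v.2 (fun h => hv (Subtype.ext h)) w hw hw1
    let e' := MulEquiv.ofBijective f' hf'
    refine ⟨e'.symm.toMonoidHom.comp f, ?_, ?_, ?_⟩
    rotate_left 2
    · apply e'.injective
      rw [MonoidHom.comp_apply, MulEquiv.coe_toMonoidHom, MulEquiv.apply_symm_apply]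
      exact Subtype.ext ((hfu u rfl).trans (hfv v rfl).symm)
    all_goals
      intro a
      apply e'.injective
      simp only [MonoidHom.comp_apply, MulEquiv.coe_toMonoidHom, MulEquiv.apply_symm_apply]
      apply Subtype.ext
      show _ = ((f' _ : U₂) : G)
      rw [hfeq' (e'.symm (f a)) _ _ (hjmem _) (hactval _ _), hfeq a _ _ (hjmem _) (hactval _ _)]
      congr 2
      exact congrArg (fun t : U₂ => (t : G)) (MulEquiv.apply_symm_apply e' (f a)).symm

end Cfsg.Agent.FG38
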