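import Cfsg.Agent.FG38.ConjAbSylow
import Cfsg.Agent.Lib.Transfer.Focal

/-!
Lifting abelian subgroups of quotients, and quotients of groups in which abelian subgroups of equal order
are conjugate.
-/

set_option autoImplicit false

namespace Cfsg.Agent.FG38

open Subgroup

/-- In a finite cyclic group the order determines containment. -/
theorem le_of_card_dvd_cyclic {C : Type*} [Group C] [Finite C] [IsCyclic C] {A B : Subgroup C}
    (h : Nat.card A ∣ Nat.card B) : A ≤ B := by
  classical
  haveI := Fintype.ofFinite C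
  intro a ha
  set S := Finset.univ.filter fun c : C => c ^ Nat.card B = 1 with hS
  have h1 : (Finset.univ.filter fun c : C => c ∈ B) = S := by
    apply Finset.eq_of_subset_of_card_le
    · intro c hc
      simp only [hS, Finset.mem_filter, Finset.mem_univ, true_and] at hc ⊢
      exact congrArg Subtype.val (pow_card_eq_one' (x := (⟨c, hc⟩ : B)))
    · refine (IsCyclic.card_pow_eq_one_le (Nat.card_pos (α := B))).trans ?_
      rw [← Fintype.card_subtype, ← Nat.card_eq_fintype_card]
  have h2 : a ∈ S := by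
    simp only [hS, Finset.mem_filter, Finset.mem_univ, true_and]
    obtain ⟨k, hk⟩ := h
    have e : a ^ Nat.card A = 1 := congrArg Subtype.val (pow_card_eq_one' (x := (⟨a, ha⟩ : A)))
    rw [hk, pow_mul, e, one_pow]
  rw [← h1] at h2
  simpa using h2

variable {G : Type*} [Group G] [Finite G]

/-- An abelian subgroup of `G / M` is the image of an abelian subgroup of determined order, as soon as the
`q`-subgroups of its preimage are cyclic for the primes `q` dividing both its order and that of `M`. -/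
theorem exists_lift (M : Subgroup G) [M.Normal] (A : Subgroup (G ⧸ M)) [IsMulCommutative ↥A]
    (hcyc : ∀ q, q.Prime → q ∣ Nat.card A → q ∣ Nat.card M → ∀ Q : Subgroup G, IsPGroup q Q →
      Q ≤ A.comap (QuotientGroup.mk' M) → IsCyclic ↥Q) :
    ∃ D : Subgroup G, IsMulCommutative ↥D ∧ D.map (QuotientGroup.mk' M) = A ∧
      ∀ q, (Nat.card D).factorization q =
        (Nat.card A).factorization q + (if q ∣ Nat.card A then (Nat.card M).factorization q else 0) := by
  set mk := QuotientGroup.mk' M
  set H := A.comap mk with hHdef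
  obtain ⟨D, hDH, hDmin⟩ := exists_minimal_le_of_wellFoundedLT (fun D : Subgroup G => D.map mk = A) H
    (map_comap_eq_self_of_surjective (QuotientGroup.mk'_surjective M) A)
  have hDA : D.map mk = A := hDmin.1
  set f : ↥D →* G ⧸ M := mk.comp D.subtype with hf
  have hrange : f.range = A := by rw [hf, MonoidHom.range_comp, range_subtype, hDA]
  set N := f.ker with hN
  have hNM : ∀ x ∈ N, (x : G) ∈ M := fun x hx => (QuotientGroup.eq_one_iff (x : G)).mp hx
  have hgen : ∀ K : Subgroup ↥D, K ⊔ N = ⊤ → K = ⊤ := by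
    intro K hK
    have h1 : (K.map D.subtype).map mk = A := by
      rw [map_map, ← hf]
      have h2 : (K ⊔ N).map f = A := by rw [hK, ← MonoidHom.range_eq_map, hrange]
      rwa [Subgroup.map_sup, (map_eq_bot_iff N).mpr le_rfl, sup_bot_eq] at h2
    have h3 : D ≤ K.map D.subtype := hDmin.2 h1 (map_subtype_le K)
    rw [eq_top_iff]
    intro x _
    obtain ⟨y, hy, hyx⟩ := h3 x.2
    rwa [← (D.subtype_injective hyx : y = x)]
  have hcomN : ∀ x y : ↥D, x * y * x⁻¹ * y⁻¹ ∈ N := by
    intro x y
    have hc : f x * f y = f y * f x := by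
      have hx : f x ∈ A := hrange ▸ MonoidHom.mem_range.mpr ⟨x, rfl⟩
      have hy : f y ∈ A := hrange ▸ MonoidHom.mem_range.mpr ⟨y, rfl⟩
      exact congrArg Subtype.val (mul_comm' (⟨f x, hx⟩ : A) ⟨f y, hy⟩)
    rw [hN, MonoidHom.mem_ker]
    simp only [map_mul, map_inv, hc]
    group
  have hnormal : ∀ {q : ℕ} [Fact q.Prime] (P : Sylow q ↥D), P.Normal := by
    intro q _ P
    haveI hPN : ((P : Subgroup ↥D) ⊔ N).Normal := ⟨fun x hx g => by
      have e : g * x * g⁻¹ = (g * x * g⁻¹ * x⁻¹) * x := by group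
      rw [e]; exact mul_mem (mem_sup_right (hcomN g x)) hx⟩
    have h := P.normalizer_sup_eq_top' (le_sup_left : (P : Subgroup ↥D) ≤ (P : Subgroup ↥D) ⊔ N)
    refine normalizer_eq_top_iff.mp (hgen _ (top_le_iff.mp (h ▸ ?_)))
    exact sup_le le_sup_left (sup_le (le_normalizer.trans le_sup_left) le_sup_right)
  have hNdvd : Nat.card N ∣ Nat.card M := by
    rw [← Subgroup.card_map_of_injective D.subtype_injective]
    exact card_dvd_of_le (fun y hy => by obtain ⟨x, hx, rfl⟩ := hy; exact hNM x hx)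
  have hcardD : Nat.card D = Nat.card N * Nat.card A := by
    rw [← card_mul_index N, hN, index_ker, hrange]
  -- primes outside `A`
  have hout : ∀ {q : ℕ} [Fact q.Prime], ¬ q ∣ Nat.card A → ∀ P : Sylow q ↥D, (P : Subgroup ↥D) = ⊥ := by
    intro q _ hq P
    have hq' : q.Prime := Fact.out
    haveI := hnormal P
    have hPN : (P : Subgroup ↥D) ≤ N := by
      intro x hx
      rw [hN, MonoidHom.mem_ker]
      obtain ⟨k, hk⟩ := IsPGroup.iff_orderOf.mp P.isPGroup' ⟨x, hx⟩
      rw [Subgroup.orderOf_mk] at hk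
      have h1 : orderOf (f x) ∣ q ^ k := hk ▸ orderOf_map_dvd f x
      obtain ⟨j, -, hj⟩ := (Nat.dvd_prime_pow hq').mp h1
      rcases Nat.eq_zero_or_pos j with hj0 | hj0
      · rw [hj0, pow_zero] at hj; exact orderOf_eq_one_iff.mp hj
      · exfalso
        apply hq
        refine dvd_trans (dvd_pow_self q hj0.ne') (hj ▸ ?_)
        exact Subgroup.orderOf_dvd_natCard A (hrange ▸ MonoidHom.mem_range.mpr ⟨x, rfl⟩)
    obtain ⟨K, hK⟩ := exists_right_complement'_of_coprime (N := (P : Subgroup ↥D)) P.card_coprime_index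
    have hKtop := hgen K (top_le_iff.mp (hK.sup_eq_top.symm.le.trans (sup_le (hPN.trans le_sup_right) le_sup_left)))
    exact disjoint_top.mp (hKtop ▸ hK.disjoint)
  -- primes dividing both
  have hboth : ∀ {q : ℕ} [Fact q.Prime], q ∣ Nat.card A → q ∣ Nat.card M → ∀ P : Sylow q ↥D,
      IsCyclic ↥(P : Subgroup ↥D) := by
    intro q _ h1 h2 P
    have := hcyc q Fact.out h1 h2 ((P : Subgroup ↥D).map D.subtype) (P.isPGroup'.map _)
      ((map_subtype_le _).trans hDH)
    exact ((P : Subgroup ↥D).equivMapOfInjective _ D.subtype_injective).isCyclic.mpr this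
  have hcomP : ∀ {q : ℕ} [Fact q.Prime] (P : Sylow q ↥D) (x y : ↥(P : Subgroup ↥D)), x * y = y * x := by
    intro q _ P x y
    by_cases hA : q ∣ Nat.card A
    · by_cases hM : q ∣ Nat.card M
      · haveI := hboth hA hM P
        exact mul_comm' x y
      · have hdisj : (P : Subgroup ↥D) ⊓ N = ⊥ := by
          refine inf_eq_bot_of_coprime (Nat.Coprime.coprime_dvd_right hNdvd ?_)
          rw [P.card_eq_multiplicity]
          exact ((Fact.out : q.Prime).coprime_iff_not_dvd.mpr hM).pow_left _
        have h := hcomN x y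
        have h' : ((x * y * x⁻¹ * y⁻¹ : ↥(P : Subgroup ↥D)) : ↥D) ∈ (P : Subgroup ↥D) ⊓ N :=
          ⟨SetLike.coe_mem _, by simpa using h⟩
        rw [hdisj, mem_bot] at h'
        have h'' : x * y * x⁻¹ * y⁻¹ = 1 := Subtype.ext h'
        rw [← commutatorElement_def] at h''
        exact commutatorElement_eq_one_iff_mul_comm.mp h''
    · have hbot := hout hA P
      have hone : ∀ z : ↥(P : Subgroup ↥D), z = 1 := fun z => Subtype.ext (by
        have := z.2
        rwa [← SetLike.mem_coe, show ((P : Subgroup ↥D) : Set ↥D) = ((⊥ : Subgroup ↥D) : Set ↥D) by rw [hbot],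
          SetLike.mem_coe, mem_bot] at this)
      rw [hone x, hone y]
  have hD : IsMulCommutative ↥D := by
    let e := Sylow.directProductOfNormal (G := ↥D) hnormal
    refine ⟨⟨fun a b => e.symm.injective ?_⟩⟩
    rw [map_mul, map_mul]
    funext q P
    haveI := Fact.mk (Nat.prime_of_mem_primeFactors q.2)
    exact hcomP P _ _
  refine ⟨D, hD, hDA, fun q => ?_⟩
  rw [hcardD, Nat.factorization_mul Nat.card_pos.ne' Nat.card_pos.ne', Finsupp.add_apply, add_comm]
  congr 1
  by_cases hq : q.Prime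
  swap
  · simp [Nat.factorization_eq_zero_of_not_prime _ hq]
  haveI := Fact.mk hq
  obtain ⟨P⟩ := (inferInstance : Nonempty (Sylow q ↥D))
  have hle : (Nat.card N).factorization q ≤ (Nat.card M).factorization q :=
    (Nat.factorization_le_iff_dvd Nat.card_pos.ne' Nat.card_pos.ne').mpr hNdvd q
  by_cases hA : q ∣ Nat.card A
  swap
  · rw [if_neg hA]
    have h := P.card_eq_multiplicity
    rw [hout hA P, card_bot, hcardD, Nat.factorization_mul Nat.card_pos.ne' Nat.card_pos.ne',
      Finsupp.add_apply, Nat.factorization_eq_zero_of_not_dvd hA, add_zero] at h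
    have := Nat.pow_eq_one.mp h.symm
    have := hq.one_lt
    omega
  rw [if_pos hA]
  by_cases hM : q ∣ Nat.card M
  swap
  · rw [Nat.factorization_eq_zero_of_not_dvd hM] at hle ⊢; omega
  refine le_antisymm hle ?_
  set P' := (P : Subgroup ↥D).map D.subtype with hP'
  have hP'H : P' ≤ H := (map_subtype_le _).trans hDH
  have hP'p : IsPGroup q (P'.subgroupOf H) :=
    (P.isPGroup'.map D.subtype).comap_of_injective _ H.subtype_injective
  obtain ⟨Q, hQ⟩ := hP'p.exists_le_sylow
  haveI hQc : IsCyclic ↥(Q : Subgroup ↥H) := by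
    have := hcyc q hq hA hM ((Q : Subgroup ↥H).map H.subtype) (Q.isPGroup'.map _) (map_subtype_le _)
    exact ((Q : Subgroup ↥H).equivMapOfInjective _ H.subtype_injective).isCyclic.mpr this
  have hMH : M ≤ H := fun m hm => by
    show mk m ∈ A
    rw [show mk m = 1 from (QuotientGroup.eq_one_iff m).mpr hm]
    exact one_mem A
  obtain ⟨R, hR⟩ := Cfsg.Agent.Transfer.exists_sylow_subgroupOf_normal Q (M.subgroupOf H)
  set R' := (R : Subgroup ↥(M.subgroupOf H)).map (M.subgroupOf H).subtype with hR'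
  have hRc : Nat.card R' = q ^ (Nat.card M).factorization q := by
    rw [hR', Subgroup.card_map_of_injective (M.subgroupOf H).subtype_injective, R.card_eq_multiplicity,
      Nat.card_congr (subgroupOfEquivOfLe hMH).toEquiv]
  have hRQ : R' ≤ (Q : Subgroup ↥H) := by
    rw [hR', hR, subgroupOf_map_subtype]; exact inf_le_left
  have hRM : R' ≤ M.subgroupOf H := map_subtype_le _
  obtain ⟨d, hd⟩ := IsPGroup.iff_card.mp hP'p
  have hd' : Nat.card (P : Subgroup ↥D) = q ^ d := by
    rw [← hd, Nat.card_congr (subgroupOfEquivOfLe hP'H).toEquiv, hP',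
      Subgroup.card_map_of_injective D.subtype_injective]
  have key : ∀ X Y : Subgroup ↥H, X ≤ (Q : Subgroup ↥H) → Y ≤ (Q : Subgroup ↥H) →
      Nat.card X ∣ Nat.card Y → X ≤ Y := by
    intro X Y hX hY hdvd
    have h := le_of_card_dvd_cyclic (A := X.subgroupOf (Q : Subgroup ↥H)) (B := Y.subgroupOf (Q : Subgroup ↥H))
      (by rwa [Nat.card_congr (subgroupOfEquivOfLe hX).toEquiv, Nat.card_congr (subgroupOfEquivOfLe hY).toEquiv])
    intro x hx
    exact h (show (⟨x, hX hx⟩ : ↥(Q : Subgroup ↥H)) ∈ X.subgroupOf _ from hx)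
  rcases le_or_gt ((Nat.card M).factorization q) d with h | h
  · have h1 : R' ≤ P'.subgroupOf H := key _ _ hRQ hQ (by rw [hRc, hd]; exact pow_dvd_pow q h)
    have h2 : R'.map H.subtype ≤ N.map D.subtype := by
      rintro _ ⟨r, hr, rfl⟩
      obtain ⟨x, -, hx⟩ := (h1 hr : (r : G) ∈ P')
      refine ⟨x, ?_, hx⟩
      rw [SetLike.mem_coe, hN, MonoidHom.mem_ker]
      apply (QuotientGroup.eq_one_iff (x : G)).mpr
      have hrM : (r : G) ∈ M := hRM hr
      show D.subtype x ∈ M
      rw [hx]; exact hrM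
    have h3 := card_dvd_of_le h2
    rw [Subgroup.card_map_of_injective H.subtype_injective,
      Subgroup.card_map_of_injective D.subtype_injective, hRc] at h3
    exact (hq.pow_dvd_iff_le_factorization Nat.card_pos.ne').mp h3
  · exfalso
    have h1 : P'.subgroupOf H ≤ R' := key _ _ hQ hRQ (by rw [hRc, hd]; exact pow_dvd_pow q h.le)
    have h2 : (P : Subgroup ↥D) ≤ N := by
      intro x hx
      have hxM : (⟨(x : G), hDH x.2⟩ : ↥H) ∈ M.subgroupOf H :=
        hRM (h1 (show (x : G) ∈ P' from ⟨x, hx, rfl⟩))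
      rw [hN, MonoidHom.mem_ker]
      exact (QuotientGroup.eq_one_iff (x : G)).mpr hxM
    have h3 := (hq.pow_dvd_iff_le_factorization Nat.card_pos.ne').mp
      (P.card_eq_multiplicity ▸ card_dvd_of_le h2)
    rw [hcardD, Nat.factorization_mul Nat.card_pos.ne' Nat.card_pos.ne', Finsupp.add_apply] at h3
    have := hq.factorization_pos_of_dvd Nat.card_pos.ne' hA
    omega

/-- Image of a conjugate. -/
theorem map_conj_mk (M : Subgroup G) [M.Normal] (D : Subgroup G) (g : G) :
    (D.map (MulAut.conj g).toMonoidHom).map (QuotientGroup.mk' M) =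
      (D.map (QuotientGroup.mk' M)).map (MulAut.conj (QuotientGroup.mk' M g)).toMonoidHom := by
  rw [map_map, map_map]
  congr 1

/-- Two liftable abelian subgroups of the quotient of equal order are conjugate. -/
theorem conj_of_lift (hB : ConjAb G) (M : Subgroup G) [M.Normal] (A B : Subgroup (G ⧸ M))
    [IsMulCommutative ↥A] [IsMulCommutative ↥B] (h : Nat.card A = Nat.card B)
    (hA : ∀ q, q.Prime → q ∣ Nat.card A → q ∣ Nat.card M → ∀ Q : Subgroup G, IsPGroup q Q →
      Q ≤ A.comap (QuotientGroup.mk' M) → IsCyclic ↥Q)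
    (hB' : ∀ q, q.Prime → q ∣ Nat.card B → q ∣ Nat.card M → ∀ Q : Subgroup G, IsPGroup q Q →
      Q ≤ B.comap (QuotientGroup.mk' M) → IsCyclic ↥Q) :
    ∃ g : G ⧸ M, B = A.map (MulAut.conj g).toMonoidHom := by
  obtain ⟨D, hD, hDA, hDc⟩ := exists_lift M A hA
  obtain ⟨E, hE, hEB, hEc⟩ := exists_lift M B hB'
  have hcard : Nat.card D = Nat.card E :=
    Nat.eq_of_factorization_eq Nat.card_pos.ne' Nat.card_pos.ne' fun q => by rw [hDc, hEc, h]
  obtain ⟨g, hg⟩ := hB D E hD hE hcard
  refine ⟨QuotientGroup.mk' M g, ?_⟩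
  rw [← hEB, hg, map_conj_mk, hDA]

/-- `ConjAb` passes to `G / M` when common primes of `|M|` and `[G : M]` have cyclic Sylow subgroups. -/
theorem conjAb_quotient (hB : ConjAb G) (M : Subgroup G) [M.Normal]
    (h : ∀ q, q.Prime → q ∣ Nat.card M → q ∣ M.index → ∀ P : Sylow q G, IsCyclic ↥(P : Subgroup G)) :
    ConjAb (G ⧸ M) := by
  intro A B hA hB' hcard
  have aux : ∀ C : Subgroup (G ⧸ M), ∀ q, q.Prime → q ∣ Nat.card C → q ∣ Nat.card M → ∀ Q : Subgroup G,
      IsPGroup q Q → Q ≤ C.comap (QuotientGroup.mk' M) → IsCyclic ↥Q := by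
    intro C q hq hC hM Q hQ _
    haveI := Fact.mk hq
    obtain ⟨P, hP⟩ := hQ.exists_le_sylow
    haveI := h q hq hM (by rw [index_eq_card]; exact hC.trans (card_subgroup_dvd_card C)) P
    exact isCyclic_of_injective (inclusion hP) (inclusion_injective hP)
  exact conj_of_lift hB M A B hcard (aux A) (aux B)

/-- A prime with Sylow subgroups of prime exponent cannot divide both `|M|` and `[G : M]`. -/
theorem not_dvd_index_of_exponent (hB : ConjAb G) (M : Subgroup G) [M.Normal] {q : ℕ} [Fact q.Prime]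
    (P : Sylow q G) (hP : ∀ x ∈ (P : Subgroup G), x ^ q = 1) (hM : q ∣ Nat.card M) : ¬ q ∣ M.index := by
  intro hd
  have hle : (P : Subgroup G) ≤ M := by
    intro x hx
    by_cases hx1 : x = 1
    · rw [hx1]; exact one_mem M
    obtain ⟨m, hm⟩ := exists_prime_orderOf_dvd_card' (G := M) q hM
    exact mem_of_orderOf hB M x ⟨m, m.2, by rw [Subgroup.orderOf_coe, hm, orderOf_eq_prime (hP x hx) hx1]⟩
  exact P.not_dvd_index (hd.trans (index_dvd_of_le hle))

/-- `ConjAb` is invariant under isomorphism. -/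
theorem conjAb_of_equiv {H : Type*} [Group H] (hB : ConjAb G) (e : G ≃* H) : ConjAb H := by
  intro A B hA hB' h
  have hc : ∀ C : Subgroup H, Nat.card ↥(C.map e.symm.toMonoidHom) = Nat.card C := fun C =>
    Subgroup.card_map_of_injective e.symm.injective
  obtain ⟨g, hg⟩ := hB (A.map e.symm.toMonoidHom) (B.map e.symm.toMonoidHom) inferInstance inferInstance
    (by rw [hc, hc, h])
  refine ⟨e g, ?_⟩
  have := congrArg (fun C : Subgroup G => C.map e.toMonoidHom) hg
  simp only [map_map] at this
  rw [show e.toMonoidHom.comp e.symm.toMonoidHom = MonoidHom.id H by ext x; simp, Subgroup.map_id] at this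
  rw [this]
  congr 1
  ext x
  simp

end Cfsg.Agent.FG38
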