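import Cfsg.Agent.FG38.ConjAbQuot
import Cfsg.Agent.Lib.Fitting.Minimal
import Cfsg.Agent.Lib.Thompson.Cores

/-!
Solvable groups in which abelian subgroups of equal order are conjugate: all quotients inherit the property.
-/

set_option autoImplicit false

namespace Cfsg.Agent.FG38

open Subgroup QuotientGroup

variable {G : Type*} [Group G] [Finite G]

theorem orderOf_eq_four {H : Type*} [Monoid H] {x : H} (h2 : x ^ 2 ≠ 1) (h4 : x ^ 4 = 1) : orderOf x = 4 :=
  orderOf_eq_prime_pow (p := 2) (n := 1) (by simpa using h2) (by simpa using h4)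

theorem quaternion_small_core (hB : ConjAb G) [Group.IsSolvable G] (hO : Cfsg.pPrimeCore 2 G = ⊥)
    (P : Sylow 2 G) {n : ℕ} (e : ↥(P : Subgroup G) ≃* QuaternionGroup (2 ^ (n + 1))) : n = 0 := by
  haveI : NeZero (2 ^ (n + 1)) := ⟨pow_ne_zero _ two_ne_zero⟩
  have hcardP : Nat.card ↥(P : Subgroup G) = 2 ^ (n + 3) := by
    rw [Nat.card_congr e.toEquiv, Nat.card_eq_fintype_card, QuaternionGroup.card, pow_succ, pow_succ, pow_succ]
    ring
  haveI : Nontrivial G := by
    have h1 : 1 < Nat.card ↥(P : Subgroup G) := hcardP ▸ Nat.one_lt_two_pow (by omega)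
    exact Finite.one_lt_card_iff_nontrivial.mp (h1.trans_le P.toSubgroup.card_le_card_group)
  obtain ⟨R, hR⟩ := Fitting.exists_isMinNormal (G := G)
  haveI := hR.1
  obtain ⟨r, hr, hRe⟩ := hR.exists_isElementaryAbelian_of_isSolvable
  haveI := Fact.mk hr
  obtain ⟨c, hc⟩ := (IsPGroup.iff_card (p := r) (G := R)).mp (Fitting.isPGroup_of_isElementaryAbelian hRe)
  have hr2 : r = 2 := by
    by_contra hne
    refine hR.2.1 (le_bot_iff.mp (hO ▸ Thompson.le_pPrimeCore hR.1 ?_))
    rw [hc]
    exact ((Nat.coprime_primes hr Nat.prime_two).mpr hne).pow_left _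
  subst hr2
  have hRp : IsPGroup 2 R := IsPGroup.of_card hc
  have hRP : R ≤ (P : Subgroup G) := hRp.le_sylow_of_normal P
  have huniq : ∀ x y : G, x ∈ (P : Subgroup G) → y ∈ (P : Subgroup G) → orderOf x = 2 → orderOf y = 2 → x = y := by
    intro x y hx hy h1 h2
    exact congrArg Subtype.val (quaternion_involution_unique e (x := ⟨x, hx⟩) (y := ⟨y, hy⟩)
      (by rw [Subgroup.orderOf_mk, h1]) (by rw [Subgroup.orderOf_mk, h2]))
  have hord2 : ∀ x ∈ R, x ≠ 1 → orderOf x = 2 := fun x hx hx1 => orderOf_eq_prime (hRe.2 x hx) hx1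
  obtain ⟨z, hz, hz1⟩ := R.bot_or_exists_ne_one.resolve_left hR.2.1
  have hRz : ∀ x ∈ R, x = 1 ∨ x = z := fun x hx => (em (x = 1)).imp id fun hx1 =>
    huniq x z (hRP hx) (hRP hz) (hord2 x hx hx1) (hord2 z hz hz1)
  have hRcard : Nat.card R = 2 := by
    rw [Nat.card_eq_two_iff]
    refine ⟨1, ⟨z, hz⟩, fun h => hz1 (congrArg Subtype.val h).symm, Set.eq_univ_of_forall fun x => ?_⟩
    rcases hRz x.1 x.2 with h | h
    · exact Or.inl (Subtype.ext h)
    · exact Or.inr (Subtype.ext h)
  haveI : Nontrivial (G ⧸ R) := by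
    rw [← Finite.one_lt_card_iff_nontrivial, ← index_eq_card]
    by_contra h
    have h1 : R.index = 1 := by have := Subgroup.index_ne_zero_of_finite (H := R); omega
    have h2 := Subgroup.card_dvd_of_le ((index_eq_one.mp h1).symm ▸ le_top : (P : Subgroup G) ≤ R)
    rw [hcardP, hRcard] at h2
    have := (Nat.pow_dvd_pow_iff_le_right (x := 2) (k := n + 3) (l := 1) (by norm_num)).mp (by simpa using h2)
    omega
  obtain ⟨S₀, hS₀⟩ := Fitting.exists_isMinNormal (G := G ⧸ R)
  haveI := hS₀.1
  obtain ⟨s, hs, hSe⟩ := hS₀.exists_isElementaryAbelian_of_isSolvable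
  haveI := Fact.mk hs
  obtain ⟨k, hk⟩ := IsPGroup.iff_card.mp (Fitting.isPGroup_of_isElementaryAbelian hSe)
  have hk0 : k ≠ 0 := fun h => hS₀.2.1 (card_eq_one.mp (by rw [hk, h, pow_zero]))
  set S := S₀.comap (mk' R) with hSdef
  have hScard : Nat.card S = s ^ k * 2 := by rw [hSdef, Thompson.card_comap_quotient, hk, hRcard]
  have hRS : R ≤ S := fun x hx => by
    show mk' R x ∈ S₀
    rw [show mk' R x = 1 from (QuotientGroup.eq_one_iff x).mpr hx]; exact one_mem _
  haveI hSn : S.Normal := inferInstance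
  by_cases hs2 : s = 2
  · subst hs2
    have hSp : IsPGroup 2 S := IsPGroup.of_card (n := k + 1) (by rw [hScard, pow_succ])
    have hSP : S ≤ (P : Subgroup G) := hSp.le_sylow_of_normal P
    have hsq : ∀ x ∈ S, x ^ 2 ∈ R := fun x hx => by
      apply (QuotientGroup.eq_one_iff _).mp
      exact hSe.2 (mk' R x) hx
    have h4 : ∀ x ∈ S, x ^ 4 = 1 := fun x hx => by
      rw [show (4 : ℕ) = 2 * 2 from rfl, pow_mul]; exact hRe.2 _ (hsq x hx)
    obtain ⟨x, hx, hx2⟩ : ∃ x ∈ S, x ^ 2 ≠ 1 := by
      by_contra hall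
      push Not at hall
      have hle : S ≤ R := fun x hx => by
        by_cases hx1 : x = 1
        · rw [hx1]; exact one_mem R
        · rw [huniq x z (hSP hx) (hRP hz) (orderOf_eq_prime (hall x hx) hx1) (hord2 z hz hz1)]; exact hz
      have := Subgroup.card_dvd_of_le hle
      rw [hScard, hRcard] at this
      have h' := Nat.le_of_dvd two_pos this
      have : 2 ≤ 2 ^ k := Nat.le_self_pow hk0 2
      omega
    have hxa : ∀ i, (e.symm (QuaternionGroup.xa i) : G) ∈ S := fun i =>
      mem_of_orderOf hB S _ ⟨x, hx, by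
        rw [orderOf_eq_four hx2 (h4 x hx), Subgroup.orderOf_coe, MulEquiv.orderOf_eq, QuaternionGroup.orderOf_xa]⟩
    have ha : (e.symm (QuaternionGroup.a 1) : G) ∈ S := by
      have h := mul_mem (inv_mem (hxa 0)) (hxa 1)
      rw [← Subgroup.coe_inv, ← Subgroup.coe_mul, ← map_inv, ← map_mul] at h
      have he : (QuaternionGroup.xa 0 : QuaternionGroup (2 ^ (n + 1)))⁻¹ * QuaternionGroup.xa 1 =
          QuaternionGroup.a 1 := by
        rw [inv_mul_eq_iff_eq_mul, QuaternionGroup.xa_mul_a, zero_add]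
      rwa [he] at h
    have h1 := orderOf_dvd_of_pow_eq_one (h4 _ ha)
    rw [Subgroup.orderOf_coe, MulEquiv.orderOf_eq, QuaternionGroup.orderOf_a_one] at h1
    have := Nat.le_of_dvd (by omega) h1
    by_contra hn
    have : 2 ^ 2 ≤ 2 ^ (n + 1) := Nat.pow_le_pow_right two_pos (by omega)
    omega
  · exfalso
    have hcop : (Nat.card (R.subgroupOf S)).Coprime (R.subgroupOf S).index := by
      have h1 := card_mul_index (R.subgroupOf S)
      rw [Nat.card_congr (subgroupOfEquivOfLe hRS).toEquiv, hRcard, hScard, mul_comm (s ^ k)] at h1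
      rw [Nat.card_congr (subgroupOfEquivOfLe hRS).toEquiv, hRcard, Nat.eq_of_mul_eq_mul_left two_pos h1]
      exact Nat.Coprime.pow_right _ ((Nat.coprime_primes Nat.prime_two hs).mpr (Ne.symm hs2))
    obtain ⟨T, hT⟩ := exists_right_complement'_of_coprime hcop
    have hTi : T.index = 2 := by
      rw [hT.index_eq_card, Nat.card_congr (subgroupOfEquivOfLe hRS).toEquiv, hRcard]
    have hTc : Nat.card T = s ^ k := by
      have h1 := card_mul_index T
      rw [hTi, hScard] at h1
      exact Nat.eq_of_mul_eq_mul_right two_pos h1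
    have hle := Thompson.le_pPrimeCore (p := 2) (normal_of_index_eq_two hTi)
      (by rw [hTc]; exact ((Nat.coprime_primes hs Nat.prime_two).mpr hs2).pow_left _)
    have h2 := (map_mono (f := S.subtype) hle).trans (Thompson.map_pPrimeCore_isSubnormal_le hSn.isSubnormal)
    rw [hO, le_bot_iff, (T.map_eq_bot_iff_of_injective S.subtype_injective)] at h2
    rw [h2, card_bot] at hTc
    exact hs.one_lt.ne' (Nat.eq_one_of_dvd_one (hTc ▸ dvd_pow_self s hk0))

/-- A generalized quaternion Sylow subgroup of a solvable such group has order eight. -/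
theorem quaternion_small (hB : ConjAb G) [Group.IsSolvable G] (P : Sylow 2 G) {n : ℕ}
    (e : ↥(P : Subgroup G) ≃* QuaternionGroup (2 ^ (n + 1))) : n = 0 := by
  set O := Cfsg.pPrimeCore 2 G
  have hodd : ¬ 2 ∣ Nat.card O := Thompson.not_dvd_card_pPrimeCore
  have hB' : ConjAb (G ⧸ O) := conjAb_quotient hB O fun q hq hqO hqi Q => by
    haveI := Fact.mk hq
    rcases sylow_cases hB Q with h | ⟨h2, -⟩ | h
    · exact h
    · exact absurd (h2 ▸ hqO) hodd
    · exact absurd hqi (not_dvd_index_of_exponent hB O Q h hqO)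
  set P' := P.mapSurjective (mk'_surjective O)
  have hinj : Function.Injective ((mk' O).comp (P : Subgroup G).subtype) := by
    rw [injective_iff_map_eq_one]
    intro x hx
    have hxO : (x : G) ∈ O := (QuotientGroup.eq_one_iff (x : G)).mp hx
    have : (x : G) ∈ (P : Subgroup G) ⊓ O := ⟨x.2, hxO⟩
    rw [Thompson.inf_eq_bot_of_isPGroup_of_coprime P.isPGroup' Thompson.card_pPrimeCore_coprime,
      mem_bot] at this
    exact Subtype.ext this
  have hP' : ((P' : Sylow 2 (G ⧸ O)) : Subgroup (G ⧸ O)) = ((mk' O).comp (P : Subgroup G).subtype).range := by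
    rw [Sylow.coe_mapSurjective, MonoidHom.range_comp, range_subtype]
  exact quaternion_small_core hB' Thompson.pPrimeCore_quotient_pPrimeCore P'
    ((MulEquiv.subgroupCongr hP').trans ((MonoidHom.ofInjective hinj).symm.trans e))

/-- Quotient by a normal subgroup of order two when the Sylow `2`-subgroups are quaternion of order eight. -/
theorem conjAb_quotient_quaternion (hB : ConjAb G) (M : Subgroup G) [M.Normal] (hM : Nat.card M = 2)
    (P : Sylow 2 G) (e : ↥(P : Subgroup G) ≃* QuaternionGroup (2 ^ 1)) : ConjAb (G ⧸ M) := by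
  have h4 : ∀ Q : Subgroup G, IsPGroup 2 Q → Nat.card Q ∣ 4 → IsCyclic ↥Q := by
    intro Q hQ hd
    obtain ⟨P', hP'⟩ := hQ.exists_le_sylow
    set j : ↥Q →* QuaternionGroup (2 ^ 1) :=
      (((Sylow.equiv P' P).trans e).toMonoidHom).comp (inclusion hP')
    have hj : Function.Injective j := ((Sylow.equiv P' P).trans e).injective.comp (inclusion_injective hP')
    obtain ⟨i, hi⟩ := IsPGroup.iff_card.mp hQ
    by_cases hx : ∃ x : Q, x ^ 2 ≠ 1
    · obtain ⟨x, hx⟩ := hx
      have hx4 : x ^ 4 = 1 := orderOf_dvd_iff_pow_eq_one.mp ((orderOf_dvd_natCard x).trans hd)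
      have h := orderOf_eq_four hx hx4
      exact isCyclic_of_orderOf_eq_card x (h.trans (Nat.dvd_antisymm (h ▸ orderOf_dvd_natCard x) hd))
    · push Not at hx
      have hall : ∀ x y : Q, x ≠ 1 → y ≠ 1 → x = y := fun x y hx1 hy1 => hj <|
        quaternion_involution_unique (MulEquiv.refl _)
          (by rw [orderOf_injective j hj, orderOf_eq_prime (hx x) hx1])
          (by rw [orderOf_injective j hj, orderOf_eq_prime (hx y) hy1])
      by_cases h1 : ∃ x : Q, x ≠ 1
      · obtain ⟨x, hx1⟩ := h1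
        refine ⟨x, fun y => ?_⟩
        by_cases hy : y = 1
        · exact ⟨0, by simp [hy]⟩
        · exact ⟨1, by simp [hall y x hy hx1]⟩
      · push Not at h1
        exact ⟨1, fun y => ⟨0, by simp [h1 y]⟩⟩
  have h8 : (Nat.card G).factorization 2 = 3 := by
    have h := P.card_eq_multiplicity
    rw [Nat.card_congr e.toEquiv, Nat.card_eq_fintype_card, QuaternionGroup.card] at h
    exact (Nat.pow_right_injective le_rfl (show 2 ^ 3 = _ from h)).symm
  have h4' : (Nat.card (G ⧸ M)).factorization 2 = 2 := by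
    have h := h8
    rw [← card_mul_index M, Nat.factorization_mul Nat.card_pos.ne' Subgroup.index_ne_zero_of_finite,
      Finsupp.add_apply, hM, Nat.prime_two.factorization_self, index_eq_card] at h
    omega
  intro A B hA hB' hcard
  by_cases hsmall : (Nat.card A).factorization 2 ≤ 1
  · have aux : ∀ C : Subgroup (G ⧸ M), (Nat.card C).factorization 2 ≤ 1 → ∀ q, q.Prime → q ∣ Nat.card C →
        q ∣ Nat.card M → ∀ Q : Subgroup G, IsPGroup q Q → Q ≤ C.comap (mk' M) → IsCyclic ↥Q := by
      intro C hC q hq _ hqM Q hQ hQC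
      rw [hM] at hqM
      obtain rfl := (Nat.prime_dvd_prime_iff_eq hq Nat.prime_two).mp hqM
      refine h4 Q hQ ?_
      obtain ⟨i, hi⟩ := IsPGroup.iff_card.mp hQ
      have h := Subgroup.card_dvd_of_le hQC
      rw [Thompson.card_comap_quotient, hM, hi, Nat.prime_two.pow_dvd_iff_le_factorization
        (mul_ne_zero Nat.card_pos.ne' two_ne_zero), Nat.factorization_mul Nat.card_pos.ne' two_ne_zero,
        Finsupp.add_apply, Nat.prime_two.factorization_self] at h
      rw [hi]
      exact pow_dvd_pow 2 (show i ≤ 2 by omega)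
    exact conj_of_lift hB M A B hcard (aux A hsmall) (aux B (hcard ▸ hsmall))
  · have decomp : ∀ C : Subgroup (G ⧸ M), IsMulCommutative ↥C → ¬ (Nat.card C).factorization 2 ≤ 1 →
        ∃ (T : Sylow 2 (G ⧸ M)) (C' : Subgroup (G ⧸ M)), (T : Subgroup (G ⧸ M)) ⊔ C' = C ∧
          ¬ 2 ∣ Nat.card C' ∧ Nat.card C = 4 * Nat.card C' ∧
          (T : Subgroup (G ⧸ M)) ≤ centralizer (C' : Set (G ⧸ M)) := by
      intro C hC hC2
      obtain ⟨T₀⟩ := (inferInstance : Nonempty (Sylow 2 C))
      haveI hTn : (T₀ : Subgroup C).Normal := ⟨fun t ht g => by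
        rwa [mul_comm' g t, mul_inv_cancel_right]⟩
      obtain ⟨C₀, hC₀⟩ := exists_right_complement'_of_coprime (N := (T₀ : Subgroup C)) T₀.card_coprime_index
      have hCle : (Nat.card C).factorization 2 ≤ 2 :=
        ((Nat.factorization_le_iff_dvd Nat.card_pos.ne' Nat.card_pos.ne').mpr (card_subgroup_dvd_card C) 2).trans h4'.le
      have hT4 : Nat.card (T₀ : Subgroup C) = 4 := by
        rw [T₀.card_eq_multiplicity, show (Nat.card C).factorization 2 = 2 by omega]; rfl
      have hTmap : Nat.card ((T₀ : Subgroup C).map C.subtype) = 2 ^ (Nat.card (G ⧸ M)).factorization 2 := by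
        rw [Subgroup.card_map_of_injective C.subtype_injective, hT4, h4']; rfl
      refine ⟨Sylow.ofCard _ hTmap, C₀.map C.subtype, ?_, ?_, ?_, ?_⟩
      · rw [Sylow.coe_ofCard, ← Subgroup.map_sup, hC₀.sup_eq_top, ← MonoidHom.range_eq_map, range_subtype]
      · rw [Subgroup.card_map_of_injective C.subtype_injective]
        intro hd
        refine T₀.not_dvd_index ?_
        rwa [hC₀.symm.index_eq_card]
      · rw [Subgroup.card_map_of_injective C.subtype_injective, ← hC₀.card_mul_card, hT4]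
      · rw [Sylow.coe_ofCard]
        rintro _ ⟨t, -, rfl⟩
        rw [mem_centralizer_iff]
        rintro _ ⟨c, -, rfl⟩
        exact congrArg Subtype.val (mul_comm' c t)
    obtain ⟨TA, A', hAeq, hA2, hA4, hTA⟩ := decomp A hA hsmall
    obtain ⟨TB, B', hBeq, hB2, hB4, hTB⟩ := decomp B hB' (hcard ▸ hsmall)
    haveI : IsMulCommutative ↥A' := ⟨⟨fun x y => Subtype.ext (by
      have h := mul_comm' (⟨x, hAeq ▸ mem_sup_right x.2⟩ : A) ⟨y, hAeq ▸ mem_sup_right y.2⟩
      exact congrArg (fun t : A => (t : G ⧸ M)) h)⟩⟩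
    haveI : IsMulCommutative ↥B' := ⟨⟨fun x y => Subtype.ext (by
      have h := mul_comm' (⟨x, hBeq ▸ mem_sup_right x.2⟩ : B) ⟨y, hBeq ▸ mem_sup_right y.2⟩
      exact congrArg (fun t : B => (t : G ⧸ M)) h)⟩⟩
    have aux : ∀ C : Subgroup (G ⧸ M), ¬ 2 ∣ Nat.card C → ∀ q, q.Prime → q ∣ Nat.card C →
        q ∣ Nat.card M → ∀ Q : Subgroup G, IsPGroup q Q → Q ≤ C.comap (mk' M) → IsCyclic ↥Q := by
      intro C hC q hq hqC hqM Q _ _
      rw [hM] at hqM
      exact absurd ((Nat.prime_dvd_prime_iff_eq hq Nat.prime_two).mp hqM ▸ hqC) hC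
    obtain ⟨g, hg⟩ := conj_of_lift hB M A' B' (by rw [hA4, hB4] at hcard; omega) (aux A' hA2) (aux B' hB2)
    have hTA' : ((g • TA : Sylow 2 (G ⧸ M)) : Subgroup (G ⧸ M)) ≤ centralizer (B' : Set (G ⧸ M)) := by
      intro x hx
      rw [mem_centralizer_iff]
      intro b hb
      obtain ⟨t, ht, rfl⟩ := (hx : x ∈ (TA : Subgroup (G ⧸ M)).map (MulAut.conj g).toMonoidHom)
      rw [hg] at hb
      obtain ⟨a, ha, rfl⟩ := hb
      show (MulAut.conj g) a * (MulAut.conj g) t = (MulAut.conj g) t * (MulAut.conj g) a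
      rw [← map_mul, ← map_mul, mem_centralizer_iff.mp (hTA ht) a ha]
    obtain ⟨c, hc⟩ := MulAction.exists_smul_eq (centralizer (B' : Set (G ⧸ M)))
      ((g • TA).subtype hTA') (TB.subtype hTB)
    rw [Sylow.smul_subtype] at hc
    have hc' := Sylow.subtype_injective hc
    refine ⟨(c : G ⧸ M) * g, ?_⟩
    have hcB : B'.map (MulAut.conj (c : G ⧸ M)).toMonoidHom = B' := by
      ext x
      constructor
      · rintro ⟨b, hb, rfl⟩
        rw [MulEquiv.coe_toMonoidHom, MulAut.conj_apply, ← mem_centralizer_iff.mp c.2 b hb, mul_inv_cancel_right]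
        exact hb
      · intro hx
        refine ⟨x, hx, ?_⟩
        rw [MulEquiv.coe_toMonoidHom, MulAut.conj_apply, ← mem_centralizer_iff.mp c.2 x hx, mul_inv_cancel_right]
    have hcomp : (MulAut.conj ((c : G ⧸ M) * g)).toMonoidHom =
        (MulAut.conj (c : G ⧸ M)).toMonoidHom.comp (MulAut.conj g).toMonoidHom := by ext x; simp [mul_assoc]
    have hTBeq : (TB : Subgroup (G ⧸ M)) = ((TA : Subgroup (G ⧸ M)).map (MulAut.conj g).toMonoidHom).map
        (MulAut.conj (c : G ⧸ M)).toMonoidHom := by rw [← hc']; rfl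
    rw [← hAeq, ← hBeq, hcomp, ← Subgroup.map_map, Subgroup.map_sup, Subgroup.map_sup, ← hg, hcB, hTBeq]

theorem conjAb_quotient_solvable_aux (N : ℕ) : ∀ {G : Type*} [Group G] [Finite G],
    ConjAb G → Group.IsSolvable G → ∀ (M : Subgroup G) [M.Normal], Nat.card M ≤ N → ConjAb (G ⧸ M) := by
  induction N with
  | zero => intro G _ _ _ _ M _ h; exact absurd h (Nat.not_le.mpr Nat.card_pos)
  | succ N ih =>
    intro G _ _ hB hsol M _ hle
    by_cases hM : M = ⊥
    · subst hM
      exact conjAb_of_equiv hB (quotientBot (G := G)).symm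
    obtain ⟨K, hK, hKM⟩ := Fitting.exists_isMinNormal_le (inferInstance : M.Normal) hM
    haveI := hK.1
    haveI := hsol
    obtain ⟨q, hq, hKe⟩ := hK.exists_isElementaryAbelian_of_isSolvable
    haveI := Fact.mk hq
    obtain ⟨k, hk⟩ := IsPGroup.iff_card.mp (Fitting.isPGroup_of_isElementaryAbelian hKe)
    have hk0 : k ≠ 0 := fun h => hK.2.1 (card_eq_one.mp (by rw [hk, h, pow_zero]))
    have hBK : ConjAb (G ⧸ K) := by
      obtain ⟨P⟩ := (inferInstance : Nonempty (Sylow q G))
      have general : ((∀ Q : Sylow q G, IsCyclic ↥(Q : Subgroup G)) ∨ ¬ q ∣ K.index) → ConjAb (G ⧸ K) := by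
        intro h
        refine conjAb_quotient hB K fun s hs hsK hsi Q => ?_
        obtain rfl := (Nat.prime_dvd_prime_iff_eq hs hq).mp (hs.dvd_of_dvd_pow (hk ▸ hsK))
        exact h.elim (fun h => h Q) (fun h => absurd hsi h)
      rcases sylow_cases hB P with h | ⟨h2, n, ⟨e⟩⟩ | h
      · exact general (Or.inl fun Q => (Sylow.equiv P Q).isCyclic.mp h)
      · subst h2
        obtain rfl := quaternion_small hB P e
        refine conjAb_quotient_quaternion hB K ?_ P e
        have hKP : K ≤ (P : Subgroup G) := (IsPGroup.of_card hk).le_sylow_of_normal P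
        obtain ⟨z, hz, hz1⟩ := K.bot_or_exists_ne_one.resolve_left hK.2.1
        rw [Nat.card_eq_two_iff]
        refine ⟨1, ⟨z, hz⟩, fun h => hz1 (congrArg Subtype.val h).symm, Set.eq_univ_of_forall fun x => ?_⟩
        by_cases hx : (x : G) = 1
        · exact Or.inl (Subtype.ext hx)
        · refine Or.inr (Subtype.ext ?_)
          have h := quaternion_involution_unique e (x := ⟨x, hKP x.2⟩) (y := ⟨z, hKP hz⟩)
            (by rw [Subgroup.orderOf_mk]; exact orderOf_eq_prime (hKe.2 _ x.2) hx)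
            (by rw [Subgroup.orderOf_mk]; exact orderOf_eq_prime (hKe.2 _ hz) hz1)
          exact Subtype.mk.inj h
      · exact general (Or.inr (not_dvd_index_of_exponent hB K P h (hk ▸ dvd_pow_self q hk0)))
    have hlt : Nat.card (M.map (mk' K)) ≤ N := by
      have h1 := Thompson.card_comap_quotient K (M.map (mk' K))
      rw [comap_map_eq_self (by rw [ker_mk']; exact hKM)] at h1
      have h2 : 2 ≤ Nat.card K := by rw [hk]; exact hq.two_le.trans (Nat.le_self_pow hk0 q)
      have h3 := Nat.card_pos (α := ↥(M.map (mk' K)))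
      nlinarith
    haveI : Group.IsSolvable (G ⧸ K) := Group.isSolvable_of_surjective (mk'_surjective K)
    exact conjAb_of_equiv (ih hBK inferInstance (M.map (mk' K)) hlt) (quotientQuotientEquivQuotient K M hKM)

/-- Every quotient of a solvable such group is again one. -/
theorem conjAb_quotient_solvable (hB : ConjAb G) (hsol : Group.IsSolvable G) (M : Subgroup G) [M.Normal] :
    ConjAb (G ⧸ M) := conjAb_quotient_solvable_aux (Nat.card M) hB hsol M le_rfl

end Cfsg.Agent.FG38
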