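import Cfsg.Agent.FG38.ConjAbQ8
import Cfsg.Agent.Lib.Coprime.Action

/-!
Subgroups of equal order in solvable groups with small Sylow subgroups, and in solvable `ConjAb` groups.
-/

set_option autoImplicit false

namespace Cfsg.Agent.FG38

open Subgroup

/-- Every Sylow subgroup is cyclic or quaternion of order eight. -/
def SmallSylow (X : Type*) [Group X] : Prop :=
  ∀ (p : ℕ), p.Prime → ∀ P : Sylow p X, IsCyclic ↥(P : Subgroup X) ∨
    (p = 2 ∧ Nonempty (↥(P : Subgroup X) ≃* QuaternionGroup (2 ^ 1)))

/-- Any two cyclic subgroups of order four are conjugate. -/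
def C4Conj (X : Type*) [Group X] : Prop :=
  ∀ x y : X, orderOf x = 4 → orderOf y = 4 → ∃ g : X, zpowers y = (zpowers x).map (MulAut.conj g).toMonoidHom

variable {X : Type*} [Group X]

theorem map_conj_mul (A : Subgroup X) (g h : X) :
    A.map (MulAut.conj (g * h)).toMonoidHom =
      (A.map (MulAut.conj h).toMonoidHom).map (MulAut.conj g).toMonoidHom := by
  rw [Subgroup.map_map]
  congr 1
  ext x
  simp [mul_assoc]

variable [Finite X]

theorem card_map_mul {Y : Type*} [Group Y] (f : X →* Y) (A : Subgroup X) :
    Nat.card ↥(A ⊓ f.ker) * Nat.card ↥(A.map f) = Nat.card A := by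
  have h := card_mul_index ((f.comp A.subtype).ker)
  rw [index_ker, MonoidHom.range_comp, range_subtype] at h
  have e : (f.comp A.subtype).ker.map A.subtype = A ⊓ f.ker := by
    rw [← MonoidHom.comap_ker, Subgroup.map_comap_eq, range_subtype]
  rwa [← e, Subgroup.card_map_of_injective A.subtype_injective]

/-- For a normal subgroup of coprime order and index, `|A ⊓ V| = gcd(|A|, |V|)`. -/
theorem card_inf_eq_gcd (V : Subgroup X) [V.Normal] (hcop : (Nat.card V).Coprime V.index) (A : Subgroup X) :
    Nat.card ↥(A ⊓ V) = Nat.gcd (Nat.card A) (Nat.card V) := by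
  apply Nat.dvd_antisymm
  · exact Nat.dvd_gcd (card_dvd_of_le inf_le_left) (card_dvd_of_le inf_le_right)
  · have h : Nat.card ↥(A ⊓ V) * V.relIndex A = Nat.card A := by
      have h1 := card_mul_index (V.subgroupOf A)
      rw [← Subgroup.card_map_of_injective A.subtype_injective, subgroupOf_map_subtype] at h1
      rwa [inf_comm]
    have hc : Nat.Coprime (Nat.gcd (Nat.card A) (Nat.card V)) (V.relIndex A) :=
      Nat.Coprime.coprime_dvd_left (Nat.gcd_dvd_right _ _)
        (hcop.coprime_dvd_right (relIndex_dvd_index_of_normal (H := V) (K := A)))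
    exact hc.dvd_of_dvd_mul_right (h.symm ▸ Nat.gcd_dvd_left _ _)

/-- Reduction to a normal Hall subgroup. -/
theorem conj_of_hall (V : Subgroup X) [V.Normal] (hcop : (Nat.card V).Coprime V.index) {A B : Subgroup X}
    (hcard : Nat.card A = Nat.card B) (hI : A ⊓ V = B ⊓ V)
    (hD : ∀ D₁ D₂ : Subgroup X, D₁ ≤ normalizer ((A ⊓ V : Subgroup X) : Set X) →
      D₂ ≤ normalizer ((A ⊓ V : Subgroup X) : Set X) → Nat.card D₁ = Nat.card D₂ → Nat.card D₁ ∣ V.index →
      ∃ g ∈ normalizer ((A ⊓ V : Subgroup X) : Set X), D₂ = D₁.map (MulAut.conj g).toMonoidHom) :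
    ∃ g : X, B = A.map (MulAut.conj g).toMonoidHom := by
  have decomp : ∀ C : Subgroup X, ∃ D : Subgroup X, (C ⊓ V) ⊔ D = C ∧
      D ≤ normalizer ((C ⊓ V : Subgroup X) : Set X) ∧ Nat.card ↥(C ⊓ V) * Nat.card D = Nat.card C ∧
      Nat.card D ∣ V.index := by
    intro C
    have hc : (Nat.card (V.subgroupOf C)).Coprime (V.subgroupOf C).index := by
      refine (hcop.coprime_dvd_left ?_).coprime_dvd_right (relIndex_dvd_index_of_normal (H := V) (K := C))
      rw [← Subgroup.card_map_of_injective C.subtype_injective, subgroupOf_map_subtype]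
      exact card_dvd_of_le inf_le_left
    obtain ⟨D, hD'⟩ := exists_right_complement'_of_coprime hc
    have hmap : (V.subgroupOf C).map C.subtype = C ⊓ V := by rw [subgroupOf_map_subtype, inf_comm]
    refine ⟨D.map C.subtype, ?_, ?_, ?_, ?_⟩
    · rw [← hmap, ← Subgroup.map_sup, hD'.sup_eq_top, ← MonoidHom.range_eq_map, range_subtype]
    · refine Coprime.le_normalizer_of_conj_mem fun a ha x hx => ?_
      have haC : a ∈ C := map_subtype_le D ha
      exact ⟨C.mul_mem (C.mul_mem haC hx.1) (C.inv_mem haC), ‹V.Normal›.conj_mem x hx.2 a⟩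
    · rw [← hmap, Subgroup.card_map_of_injective C.subtype_injective,
        Subgroup.card_map_of_injective C.subtype_injective, hD'.card_mul_card]
    · rw [Subgroup.card_map_of_injective C.subtype_injective, ← hD'.symm.index_eq_card]
      exact relIndex_dvd_index_of_normal (H := V) (K := C)
  obtain ⟨D₁, h1, hn1, hc1, hd1⟩ := decomp A
  obtain ⟨D₂, h2, hn2, hc2, -⟩ := decomp B
  rw [← hI] at h2 hn2 hc2
  obtain ⟨g, hg, hgeq⟩ := hD D₁ D₂ hn1 hn2
    (Nat.eq_of_mul_eq_mul_left Nat.card_pos (hc1.trans (hcard.trans hc2.symm))) hd1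
  refine ⟨g, ?_⟩
  rw [← h2, ← h1, Subgroup.map_sup, ← hgeq]
  have : (A ⊓ V).map (MulAut.conj g).toMonoidHom = A ⊓ V := (mem_normalizer_iff_map_conj_eq.mp hg)
  rw [this, h1]

theorem smallSylow_of_surjective {Y : Type*} [Group Y] (f : X →* Y) (hf : Function.Surjective f)
    (h2 : ¬ 2 ∣ Nat.card f.ker) (hS : SmallSylow X) : SmallSylow Y := by
  intro p hp Pb
  haveI := Fact.mk hp
  obtain ⟨P, rfl⟩ := Sylow.mapSurjective_surjective hf p Pb
  rw [Sylow.coe_mapSurjective]
  rcases hS p hp P with h | ⟨rfl, ⟨e⟩⟩
  · exact Or.inl (isCyclic_of_surjective (f.subgroupMap (P : Subgroup X)) (f.subgroupMap_surjective _))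
  · refine Or.inr ⟨rfl, ⟨?_⟩⟩
    have hdis : (P : Subgroup X) ⊓ f.ker = ⊥ :=
      Thompson.inf_eq_bot_of_isPGroup_of_coprime P.isPGroup' ((Nat.prime_two.coprime_iff_not_dvd.mpr h2).symm)
    have hinj : Function.Injective (f.comp (P : Subgroup X).subtype) := by
      rw [injective_iff_map_eq_one]
      intro x hx
      have : (x : X) ∈ (P : Subgroup X) ⊓ f.ker := ⟨x.2, hx⟩
      rw [hdis, mem_bot] at this
      exact Subtype.ext this
    exact ((MonoidHom.ofInjective hinj).trans (MulEquiv.subgroupCongr (by
      rw [MonoidHom.range_comp, range_subtype]))).symm.trans e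

theorem c4Conj_of_surjective {Y : Type*} [Group Y] (f : X →* Y) (hf : Function.Surjective f)
    (h2 : ¬ 2 ∣ Nat.card f.ker) (hC : C4Conj X) : C4Conj Y := by
  have hlift : ∀ y : Y, orderOf y = 4 → ∃ x : X, orderOf x = 4 ∧ f x = y := by
    intro y hy
    haveI : Finite Y := Finite.of_surjective f hf
    have hp : IsPGroup 2 ↥(zpowers y) := IsPGroup.of_card (n := 2) (by rw [Nat.card_zpowers, hy]; rfl)
    obtain ⟨Pb, hPb⟩ := hp.exists_le_sylow
    obtain ⟨P, rfl⟩ := Sylow.mapSurjective_surjective hf 2 Pb
    rw [Sylow.coe_mapSurjective] at hPb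
    obtain ⟨x, hx, hxy⟩ := hPb (mem_zpowers y)
    refine ⟨x, ?_, hxy⟩
    obtain ⟨k, hk⟩ := IsPGroup.iff_orderOf.mp P.isPGroup' ⟨x, hx⟩
    rw [Subgroup.orderOf_mk] at hk
    have h4 : x ^ 4 ∈ f.ker := by
      rw [MonoidHom.mem_ker, map_pow, hxy, ← hy, pow_orderOf_eq_one]
    have h4' : x ^ 4 = 1 := by
      have : x ^ 4 ∈ (P : Subgroup X) ⊓ f.ker := ⟨pow_mem hx 4, h4⟩
      rwa [Thompson.inf_eq_bot_of_isPGroup_of_coprime P.isPGroup' ((Nat.prime_two.coprime_iff_not_dvd.mpr h2).symm),
        mem_bot] at this
    exact Nat.dvd_antisymm (orderOf_dvd_of_pow_eq_one h4') (hy ▸ hxy ▸ orderOf_map_dvd f x)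
  intro a b ha hb
  obtain ⟨x, hx, rfl⟩ := hlift a ha
  obtain ⟨y, hy, rfl⟩ := hlift b hb
  obtain ⟨g, hg⟩ := hC x y hx hy
  refine ⟨f g, ?_⟩
  have := congrArg (fun H : Subgroup X => H.map f) hg
  simp only [MonoidHom.map_zpowers] at this
  rw [this, MonoidHom.map_zpowers]
  congr 1
  simp

/-- No normal subgroup of odd prime order: the Sylow `2`-subgroup is normal and self-centralising. -/
theorem sylow_two_structure (hS : SmallSylow X) [Group.IsSolvable X]
    (hno : ∀ M : Subgroup X, M.Normal → ∀ q : ℕ, q.Prime → Nat.card M = q → q = 2) (P : Sylow 2 X) :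
    (P : Subgroup X).Normal ∧ centralizer ((P : Subgroup X) : Set X) ≤ (P : Subgroup X) := by
  have hmin : ∀ M : Subgroup X, Fitting.IsMinNormal M → IsPGroup 2 M := by
    intro M hM
    obtain ⟨r, hr, hMe⟩ := hM.exists_isElementaryAbelian_of_isSolvable
    haveI := Fact.mk hr
    have hMp := Fitting.isPGroup_of_isElementaryAbelian hMe
    by_cases hr2 : r = 2
    · exact hr2 ▸ hMp
    exfalso
    haveI := hM.1
    obtain ⟨R⟩ := (inferInstance : Nonempty (Sylow r X))
    have hMR := hMp.le_sylow_of_normal R
    haveI := (hS r hr R).resolve_right (fun h => hr2 h.1)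
    obtain ⟨x, hx⟩ := (isCyclic_of_injective (inclusion hMR) (inclusion_injective hMR)).exists_generator
    have hx1 : x ≠ 1 := fun h => hM.2.1 ((eq_bot_iff_forall M).mpr fun y hy => by
      obtain ⟨i, hi⟩ := mem_zpowers_iff.mp (hx ⟨y, hy⟩)
      rw [h, one_zpow] at hi
      exact (congrArg Subtype.val hi).symm)
    have hxr : orderOf x = r := orderOf_eq_prime (Subtype.ext (by simpa using hMe.2 x x.2)) hx1
    exact hr2 (hno M hM.1 r hr (by rw [← hxr, orderOf_eq_card_of_forall_mem_zpowers hx]))
  have hF : Cfsg.fittingSubgroup X ≤ Cfsg.pCore 2 X := by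
    rw [Fitting.fitting_eq_iSup_pCore]
    refine iSup_le fun ⟨p, hp⟩ => ?_
    haveI := Fact.mk hp
    by_cases hp2 : p = 2
    · subst hp2; exact le_rfl
    rcases eq_or_ne (Cfsg.pCore p X) ⊥ with h | h
    · simp only [h]; exact bot_le
    exfalso
    obtain ⟨M, hM, hMle⟩ := Fitting.exists_isMinNormal_le (inferInstance : (Cfsg.pCore p X).Normal) h
    exact hM.2.1 (disjoint_self.mp (IsPGroup.disjoint_of_ne 2 p (Ne.symm hp2) _ _ (hmin M hM)
      ((Fitting.pCore_isPGroup p).to_le hMle)))
  set O := Cfsg.pCore 2 X
  have hCO : centralizer (O : Set X) ≤ O :=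
    ((centralizer_le (SetLike.coe_subset_coe.mpr hF)).trans Fitting.centralizer_fitting_le).trans hF
  have hOP : O ≤ (P : Subgroup X) := Fitting.pCore_le_sylow P
  have hker : (MulAut.conjNormal : X →* MulAut O).ker ≤ O := by
    refine le_trans (fun g hg => ?_) hCO
    rw [mem_centralizer_iff]
    intro o ho
    have h := congrArg (fun t : O => (t : X)) (DFunLike.congr_fun (hg : MulAut.conjNormal g = 1) ⟨o, ho⟩)
    simp only [MulAut.conjNormal_apply, MulAut.one_apply] at h
    exact (mul_inv_eq_iff_eq_mul.mp h).symm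
  suffices hn : (P : Subgroup X).Normal from
    ⟨hn, (centralizer_le hOP).trans (hCO.trans hOP)⟩
  by_cases hOc : IsCyclic ↥O
  · have htop : (P : Subgroup X) = ⊤ := by
      obtain ⟨i, hi⟩ := IsPGroup.iff_card.mp (Fitting.pCore_isPGroup (G := X) 2)
      have h2 : IsPGroup 2 X := by
        refine IsPGroup.of_card (n := _) (Nat.eq_prime_pow_of_unique_prime_dvd Nat.card_pos.ne' fun {r} hr hd => ?_)
        haveI := Fact.mk hr
        by_contra hr2
        obtain ⟨g, hg⟩ := exists_prime_orderOf_dvd_card' (G := X) r hd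
        have h1 : orderOf (MulAut.conjNormal g : MulAut O) ∣ Nat.gcd r (Nat.totient (2 ^ i)) := by
          refine Nat.dvd_gcd (hg ▸ orderOf_map_dvd _ g) ?_
          rw [← hi, ← IsCyclic.card_mulAut]; exact orderOf_dvd_natCard _
        have h3 : Nat.gcd r (Nat.totient (2 ^ i)) = 1 := by
          rcases Nat.eq_zero_or_pos i with h | h
          · simp [h]
          · rw [Nat.totient_prime_pow Nat.prime_two h, Nat.add_one_sub_one, mul_one]
            exact ((Nat.coprime_primes hr Nat.prime_two).mpr hr2).pow_right _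
        rw [h3, Nat.dvd_one, orderOf_eq_one_iff] at h1
        have hgO : g ∈ O := hker h1
        have h4 := Subgroup.orderOf_dvd_natCard O hgO
        rw [hg, hi] at h4
        exact hr2 ((Nat.prime_dvd_prime_iff_eq hr Nat.prime_two).mp (hr.dvd_of_dvd_pow h4))
      exact (P.3 (h2.to_subgroup ⊤) le_top).symm
    rw [htop]; infer_instance
  · rcases hS 2 Nat.prime_two P with h | ⟨-, ⟨e⟩⟩
    · exact absurd (isCyclic_of_injective (inclusion hOP) (inclusion_injective hOP)) hOc
    · have hP8 : Nat.card ↥(P : Subgroup X) = 2 ^ 3 := by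
        rw [Nat.card_congr e.toEquiv, Nat.card_eq_fintype_card, QuaternionGroup.card]; rfl
      obtain ⟨i, hi⟩ := IsPGroup.iff_card.mp (Fitting.pCore_isPGroup (G := X) 2)
      have hi3 : i ≤ 3 := (Nat.pow_dvd_pow_iff_le_right one_lt_two).mp (hi ▸ hP8 ▸ card_dvd_of_le hOP)
      have : i = 3 := by
        by_contra hne
        refine hOc (isCyclic_of_dvd_four (by rw [hi]; exact pow_dvd_pow 2 (show i ≤ 2 by omega)) ?_)
        intro u v hu hv
        exact inclusion_injective hOP (quaternion_involution_unique e
          (by rw [orderOf_injective _ (inclusion_injective hOP), hu])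
          (by rw [orderOf_injective _ (inclusion_injective hOP), hv]))
      rw [← eq_of_le_of_card_ge hOP (by rw [hP8, hi, this])]
      infer_instance

theorem conj_of_small_aux (N : ℕ) : ∀ {X : Type*} [Group X] [Finite X], Nat.card X ≤ N → Group.IsSolvable X →
    SmallSylow X → C4Conj X → ∀ A B : Subgroup X, Nat.card A = Nat.card B →
      ∃ g : X, B = A.map (MulAut.conj g).toMonoidHom := by
  induction N with
  | zero => intro X _ _ h; exact absurd h (Nat.not_le.mpr Nat.card_pos)
  | succ N ih =>
    intro X _ _ hle hsol hS hC A B hcard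
    haveI := hsol
    by_cases hM : ∃ M : Subgroup X, M.Normal ∧ ∃ q : ℕ, q.Prime ∧ q ≠ 2 ∧ Nat.card M = q
    · obtain ⟨M, hMn, q, hq, hq2, hMq⟩ := hM
      haveI := Fact.mk hq
      haveI := hMn
      have hin : ∀ C : Subgroup X, q ∣ Nat.card C → M ≤ C := by
        intro C hd
        obtain ⟨c, hc⟩ := exists_prime_orderOf_dvd_card' (G := C) q hd
        have hc' : Nat.card (zpowers (c : X)) = q := by rw [Nat.card_zpowers, Subgroup.orderOf_coe, hc]
        obtain ⟨R, hR⟩ := (IsPGroup.of_card (n := 1) (hc'.trans (pow_one q).symm)).exists_le_sylow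
        have hMR : M ≤ (R : Subgroup X) := (IsPGroup.of_card (n := 1) (hMq.trans (pow_one q).symm)).le_sylow_of_normal R
        haveI := (hS q hq R).resolve_right (fun h => hq2 h.1)
        have h := le_of_card_dvd_cyclic (A := M.subgroupOf (R : Subgroup X))
          (B := (zpowers (c : X)).subgroupOf (R : Subgroup X))
          (by rw [Nat.card_congr (subgroupOfEquivOfLe hMR).toEquiv, Nat.card_congr (subgroupOfEquivOfLe hR).toEquiv, hMq, hc'])
        intro m hm
        exact (zpowers_le.mpr c.2) (h (show (⟨m, hMR hm⟩ : ↥(R : Subgroup X)) ∈ M.subgroupOf _ from hm))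
      set f := QuotientGroup.mk' M with hf
      have hker : f.ker = M := QuotientGroup.ker_mk' M
      have hinf : ∀ C : Subgroup X, Nat.card ↥(C ⊓ f.ker) = if q ∣ Nat.card C then q else 1 := by
        intro C
        rw [hker]
        split_ifs with hd
        · rw [inf_eq_right.mpr (hin C hd), hMq]
        · rcases (Nat.dvd_prime hq).mp (hMq ▸ card_dvd_of_le (inf_le_right : C ⊓ M ≤ M)) with h | h
          · exact h
          · exact absurd (h ▸ card_dvd_of_le (inf_le_left : C ⊓ M ≤ C)) hd
      have hmapcard : Nat.card (A.map f) = Nat.card (B.map f) := by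
        have e1 := card_map_mul f A
        have e2 := card_map_mul f B
        rw [hinf] at e1 e2
        rw [← hcard] at e2
        refine Nat.eq_of_mul_eq_mul_left ?_ (e1.trans e2.symm)
        split_ifs
        exacts [hq.pos, one_pos]
      have h2 : ¬ 2 ∣ Nat.card f.ker := by
        rw [hker, hMq]; exact fun h => hq2 ((Nat.prime_dvd_prime_iff_eq Nat.prime_two hq).mp h).symm
      have hlt : Nat.card (X ⧸ M) ≤ N := by
        have h1 := card_mul_index M
        rw [hMq, index_eq_card] at h1
        have h3 := Nat.card_pos (α := X ⧸ M)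
        have := hq.two_le
        nlinarith
      obtain ⟨gb, hgb⟩ := ih hlt (Group.isSolvable_of_surjective (QuotientGroup.mk'_surjective M))
        (smallSylow_of_surjective f (QuotientGroup.mk'_surjective M) h2 hS)
        (c4Conj_of_surjective f (QuotientGroup.mk'_surjective M) h2 hC) (A.map f) (B.map f) hmapcard
      obtain ⟨g, rfl⟩ := QuotientGroup.mk'_surjective M gb
      set A' := A.map (MulAut.conj g).toMonoidHom with hA'
      have hA'map : A'.map f = B.map f := by
        rw [hgb, hA', Subgroup.map_map, Subgroup.map_map]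
        congr 1
      have hA'c : Nat.card A' = Nat.card A := Subgroup.card_map_of_injective (MulAut.conj g).injective
      have hle : A' ≤ M ⊔ B := by
        have h := le_comap_map f A'
        rwa [hA'map, comap_map_eq, hker, sup_comm] at h
      by_cases hd : q ∣ Nat.card A
      · refine ⟨g, (eq_of_le_of_card_ge ?_ (by rw [hA'c, hcard])).symm⟩
        exact hle.trans (sup_le (hin B (hcard ▸ hd)) le_rfl)
      · obtain ⟨k, -, hk⟩ := Coprime.exists_conj_le_of_le_sup A' M B (by rw [normalizer_eq_top_iff.mpr hMn]; exact le_top)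
          (by rw [normalizer_eq_top_iff.mpr hMn]; exact le_top)
          (by rw [hA'c, hMq]; exact (hq.coprime_iff_not_dvd.mpr hd).symm)
          (Or.inl inferInstance) hle
        refine ⟨k * g, ?_⟩
        rw [map_conj_mul, ← hA']
        refine (eq_of_le_of_card_ge ?_ (by
          rw [Subgroup.card_map_of_injective (MulAut.conj k).injective, hA'c, hcard])).symm
        rintro _ ⟨a, ha, rfl⟩
        exact hk a ha
    · push Not at hM
      obtain ⟨P⟩ := (inferInstance : Nonempty (Sylow 2 X))
      obtain ⟨hPn, hPC⟩ := sylow_two_structure hS (fun M hMn q hq h => by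
        by_contra hq2; exact hM M hMn q hq hq2 h) P
      haveI := hPn
      rcases hS 2 Nat.prime_two P with hc | ⟨-, ⟨e⟩⟩
      · haveI := hc
        have htop : (P : Subgroup X) = ⊤ := by
          rw [eq_top_iff]
          intro g _
          by_contra hg
          -- the automorphism group of a cyclic `2`-group is a `2`-group
          obtain ⟨i, hi⟩ := IsPGroup.iff_card.mp P.isPGroup'
          have hker : (MulAut.conjNormal : X →* MulAut ↥(P : Subgroup X)).ker ≤ (P : Subgroup X) := by
            refine le_trans (fun x hx => ?_) hPC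
            rw [mem_centralizer_iff]
            intro o ho
            have h := congrArg (fun t : ↥(P : Subgroup X) => (t : X))
              (DFunLike.congr_fun (hx : MulAut.conjNormal x = 1) ⟨o, ho⟩)
            simp only [MulAut.conjNormal_apply, MulAut.one_apply] at h
            exact (mul_inv_eq_iff_eq_mul.mp h).symm
          have hd : (P : Subgroup X).index ∣ Nat.totient (2 ^ i) := by
            refine (index_dvd_of_le hker).trans ?_
            rw [index_ker, ← hi, ← IsCyclic.card_mulAut]
            exact card_subgroup_dvd_card _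
          rcases Nat.eq_zero_or_pos i with h0 | h0
          · rw [h0, pow_zero, Nat.totient_one, Nat.dvd_one, index_eq_one] at hd
            exact hg (hd ▸ mem_top g)
          rw [Nat.totient_prime_pow Nat.prime_two h0, Nat.add_one_sub_one, mul_one] at hd
          obtain ⟨l, -, hl⟩ := (Nat.dvd_prime_pow Nat.prime_two).mp hd
          rcases Nat.eq_zero_or_pos l with h | h
          · rw [h, pow_zero, index_eq_one] at hl
            exact hg (hl ▸ mem_top g)
          · exact P.not_dvd_index (hl ▸ dvd_pow_self 2 h.ne')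
        refine ⟨1, ?_⟩
        have hid : A.map (MulAut.conj (1 : X)).toMonoidHom = A := by
          convert A.map_id using 2; ext x; simp
        rw [hid]
        haveI : IsCyclic X := (Subgroup.topEquiv (G := X)).isCyclic.mp (htop ▸ hc)
        exact le_antisymm (le_of_card_dvd_cyclic (dvd_of_eq hcard.symm)) (le_of_card_dvd_cyclic (dvd_of_eq hcard))
      · have hP8 : Nat.card ↥(P : Subgroup X) = 8 := by
          rw [Nat.card_congr e.toEquiv, Nat.card_eq_fintype_card, QuaternionGroup.card]; rfl
        have hcop : (Nat.card ↥(P : Subgroup X)).Coprime (P : Subgroup X).index := P.card_coprime_index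
        have hidx : (P : Subgroup X).index ∣ 3 := by
          have h : (P : Subgroup X).index ∣ 24 := by
            refine (index_dvd_of_le (show (MulAut.conjNormal : X →* MulAut ↥(P : Subgroup X)).ker ≤ (P : Subgroup X) from
              le_trans (fun x hx => ?_) hPC)).trans ?_
            · rw [mem_centralizer_iff]
              intro o ho
              have h := congrArg (fun t : ↥(P : Subgroup X) => (t : X))
                (DFunLike.congr_fun (hx : MulAut.conjNormal x = 1) ⟨o, ho⟩)
              simp only [MulAut.conjNormal_apply, MulAut.one_apply] at h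
              exact (mul_inv_eq_iff_eq_mul.mp h).symm
            · rw [index_ker, ← card_mulAut_quaternion, ← show Nat.card (MulAut ↥(P : Subgroup X)) =
                Nat.card (MulAut (QuaternionGroup 2)) from Nat.card_congr (MulAut.congr e).toEquiv]
              exact card_subgroup_dvd_card _
          rw [hP8] at hcop
          exact (Nat.Coprime.symm hcop).dvd_of_dvd_mul_left (show (P : Subgroup X).index ∣ 8 * 3 from h)
        have hu : ∀ u v : X, u ∈ (P : Subgroup X) → v ∈ (P : Subgroup X) → orderOf u = 2 → orderOf v = 2 → u = v :=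
          fun u v hu hv h1 h2 => Subtype.mk.inj (quaternion_involution_unique e (x := ⟨u, hu⟩) (y := ⟨v, hv⟩)
            (by rw [Subgroup.orderOf_mk, h1]) (by rw [Subgroup.orderOf_mk, h2]))
        have hinfc := card_inf_eq_gcd (P : Subgroup X) P.card_coprime_index
        have hEq : Nat.card ↥(A ⊓ (P : Subgroup X)) = Nat.card ↥(B ⊓ (P : Subgroup X)) := by
          rw [hinfc, hinfc, hcard]
        obtain ⟨g, hg⟩ : ∃ g : X, B ⊓ (P : Subgroup X) = (A ⊓ (P : Subgroup X)).map (MulAut.conj g).toMonoidHom := by
          obtain ⟨l, hl, hl'⟩ := (Nat.dvd_prime_pow Nat.prime_two).mp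
            (show Nat.card ↥(A ⊓ (P : Subgroup X)) ∣ 2 ^ 3 from (card_dvd_of_le inf_le_right).trans (dvd_of_eq hP8))
          have hid : ∀ C : Subgroup X, C.map (MulAut.conj (1 : X)).toMonoidHom = C := fun C => by
            convert C.map_id using 2; ext x; simp
          rcases (show l = 0 ∨ l = 1 ∨ l = 2 ∨ l = 3 by omega) with rfl | rfl | rfl | rfl
          · refine ⟨1, ?_⟩
            rw [hid, card_eq_one.mp (hl'.trans (pow_zero 2)), card_eq_one.mp (hEq.symm.trans (hl'.trans (pow_zero 2)))]
          · refine ⟨1, ?_⟩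
            rw [hid]
            refine eq_of_le_of_card_ge (fun b hb => ?_) hEq.le
            by_cases hb1 : b = 1
            · rw [hb1]; exact one_mem _
            obtain ⟨a, ha⟩ := exists_prime_orderOf_dvd_card' (G := ↥(A ⊓ (P : Subgroup X))) 2 (by rw [hl']; norm_num)
            have hob : orderOf b = 2 := by
              have h := Subgroup.orderOf_dvd_natCard _ hb
              rw [← hEq, hl'] at h
              exact ((Nat.dvd_prime Nat.prime_two).mp (by simpa using h)).resolve_left
                (fun h => hb1 (orderOf_eq_one_iff.mp h))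
            rw [hu b a hb.2 a.2.2 hob (by rw [Subgroup.orderOf_coe, ha])]
            exact a.2
          · have hgen : ∀ C : Subgroup X, C ≤ (P : Subgroup X) → Nat.card C = 4 →
                ∃ x, orderOf x = 4 ∧ zpowers x = C := by
              intro C hCP hC4
              haveI := isCyclic_of_dvd_four (dvd_of_eq hC4) (fun u v h1 h2 => Subtype.ext
                (hu u v (hCP u.2) (hCP v.2) (by rw [Subgroup.orderOf_coe, h1]) (by rw [Subgroup.orderOf_coe, h2])))
              obtain ⟨x, hx⟩ := IsCyclic.exists_generator (α := C)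
              have ho : orderOf (x : X) = 4 := by
                rw [Subgroup.orderOf_coe, orderOf_eq_card_of_forall_mem_zpowers hx, hC4]
              exact ⟨x, ho, eq_of_le_of_card_ge (zpowers_le.mpr x.2) (by rw [Nat.card_zpowers, ho, hC4])⟩
            obtain ⟨x, hx, hxA⟩ := hgen _ inf_le_right (hl'.trans (by norm_num))
            obtain ⟨y, hy, hyB⟩ := hgen _ inf_le_right (hEq.symm.trans (hl'.trans (by norm_num)))
            obtain ⟨g, hg⟩ := hC x y hx hy
            exact ⟨g, by rw [← hyB, hg, hxA]⟩
          · refine ⟨1, ?_⟩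
            rw [hid, eq_of_le_of_card_ge inf_le_right (by rw [hP8, ← hEq, hl']; norm_num),
              eq_of_le_of_card_ge inf_le_right (by rw [hP8, hl']; norm_num)]
        set A' := A.map (MulAut.conj g).toMonoidHom with hA'
        have hA'c : Nat.card A' = Nat.card A := Subgroup.card_map_of_injective (MulAut.conj g).injective
        have hI : A' ⊓ (P : Subgroup X) = B ⊓ (P : Subgroup X) := by
          have hPg : (P : Subgroup X).map (MulAut.conj g).toMonoidHom = (P : Subgroup X) :=
            mem_normalizer_iff_map_conj_eq.mp (show g ∈ normalizer ((P : Subgroup X) : Set X) by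
              rw [normalizer_eq_top_iff.mpr hPn]; trivial)
          rw [hg, hA', Subgroup.map_inf _ _ _ (MulAut.conj g).injective, hPg]
        obtain ⟨k, hk⟩ := conj_of_hall (P : Subgroup X) P.card_coprime_index (hA'c.trans hcard) hI (by
          intro D₁ D₂ h1 h2 hDc hD
          rcases (Nat.dvd_prime Nat.prime_three).mp (hD.trans hidx) with h | h
          · exact ⟨1, one_mem _, by rw [card_eq_one.mp h, card_eq_one.mp (hDc.symm.trans h), Subgroup.map_bot]⟩
          · haveI : Fact (Nat.Prime 3) := ⟨Nat.prime_three⟩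
            have hidx3 : (P : Subgroup X).index = 3 := Nat.dvd_antisymm hidx (h ▸ hD)
            have h3 : (Nat.card X).factorization 3 = 1 := by
              rw [← card_mul_index (P : Subgroup X), hP8, hidx3,
                Nat.factorization_mul (by norm_num) (by norm_num), Finsupp.add_apply,
                Nat.factorization_eq_zero_of_not_dvd (by norm_num), Nat.prime_three.factorization_self]
            let S₁ := Sylow.ofCard (p := 3) D₁ (by rw [h, h3, pow_one])
            let S₂ := Sylow.ofCard (p := 3) D₂ (by rw [← hDc, h, h3, pow_one])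
            set NN := normalizer ((A' ⊓ (P : Subgroup X) : Subgroup X) : Set X)
            have hS1 : (S₁ : Subgroup X) ≤ NN := by rw [Sylow.coe_ofCard]; exact h1
            have hS2 : (S₂ : Subgroup X) ≤ NN := by rw [Sylow.coe_ofCard]; exact h2
            obtain ⟨c, hc⟩ := MulAction.exists_smul_eq NN (S₁.subtype hS1) (S₂.subtype hS2)
            rw [Sylow.smul_subtype] at hc
            refine ⟨c, c.2, ?_⟩
            have := congrArg (fun S : Sylow 3 X => (S : Subgroup X)) (Sylow.subtype_injective hc)
            simp only [Sylow.coe_subgroup_smul, S₁, S₂, Sylow.coe_ofCard] at this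
            exact this.symm)
        exact ⟨k * g, by rw [map_conj_mul, ← hA', hk]⟩

/-- Solvable groups with small Sylow subgroups and conjugate cyclic subgroups of order four: subgroups of
equal order are conjugate. -/
theorem conj_of_small (hsol : Group.IsSolvable X) (hS : SmallSylow X) (hC : C4Conj X) (A B : Subgroup X)
    (h : Nat.card A = Nat.card B) : ∃ g : X, B = A.map (MulAut.conj g).toMonoidHom :=
  conj_of_small_aux (Nat.card X) le_rfl hsol hS hC A B h

end Cfsg.Agent.FG38
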