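import Cfsg.Agent.FG38.ConjOrder
import Cfsg.Agent.S0016
import Cfsg.Agent.S0218
import Mathlib.GroupTheory.SpecificGroups.Quaternion

/-!
Sylow subgroups of groups in which abelian subgroups of equal order are conjugate.
-/

set_option autoImplicit false

namespace Cfsg.Agent.FG38

open Subgroup

variable {G : Type*} [Group G] [Finite G]

/-- Sylow subgroups are cyclic, generalized quaternion, or of prime exponent. -/
theorem sylow_cases (hB : ConjAb G) {p : ℕ} [Fact p.Prime] (P : Sylow p G) :
    IsCyclic ↥(P : Subgroup G) ∨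
    (p = 2 ∧ ∃ n : ℕ, Nonempty (↥(P : Subgroup G) ≃* QuaternionGroup (2 ^ (n + 1)))) ∨
    ∀ x ∈ (P : Subgroup G), x ^ p = 1 := by
  have hp : p.Prime := Fact.out
  by_cases hE : ∃ x y : ↥(P : Subgroup G), orderOf x = p ∧ orderOf y = p ∧ Commute x y ∧ y ∉ zpowers x
  · refine Or.inr (Or.inr ?_)
    obtain ⟨x, y, hx, hy, hxy, hyx⟩ := hE
    set E : Subgroup ↥(P : Subgroup G) := closure {x, y} with hEdef
    have hxE : x ∈ E := subset_closure (Or.inl rfl)
    have hyE : y ∈ E := subset_closure (Or.inr rfl)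
    haveI hcomm : IsMulCommutative ↥E := by
      refine isMulCommutative_closure ?_
      rintro a (rfl | rfl) b (rfl | rfl)
      exacts [rfl, hxy.eq, hxy.eq.symm, rfl]
    have hexp : ∀ a ∈ E, a ^ p = 1 := by
      intro a ha
      rw [hEdef] at ha
      have key : a ^ p = 1 ∧ a ∈ E := by
        induction ha using closure_induction with
        | mem z hz =>
          rcases hz with rfl | rfl
          · exact ⟨orderOf_dvd_iff_pow_eq_one.mp (dvd_of_eq hx), hxE⟩
          · exact ⟨orderOf_dvd_iff_pow_eq_one.mp (dvd_of_eq hy), hyE⟩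
        | one => exact ⟨one_pow _, one_mem E⟩
        | mul u v _ _ hu hv =>
          refine ⟨?_, mul_mem hu.2 hv.2⟩
          have hc : Commute u v := congrArg Subtype.val (mul_comm' (⟨u, hu.2⟩ : E) ⟨v, hv.2⟩)
          rw [hc.mul_pow, hu.1, hv.1, one_mul]
        | inv u _ hu => exact ⟨by rw [inv_pow, hu.1, inv_one], inv_mem hu.2⟩
      exact key.1
    have hEp : IsPGroup p E := P.isPGroup'.to_subgroup E
    obtain ⟨e, he⟩ := IsPGroup.iff_card.mp hEp
    have h2 : 2 ≤ e := by
      by_contra hlt
      have hxE' : zpowers x ≤ E := zpowers_le.mpr hxE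
      have h1 : Nat.card E ≤ Nat.card (zpowers x) := by
        rw [he, Nat.card_zpowers, hx]
        calc p ^ e ≤ p ^ 1 := Nat.pow_le_pow_right hp.pos (by omega)
          _ = p := pow_one p
      exact hyx (by rw [eq_of_le_of_card_ge hxE' h1]; exact hyE)
    obtain ⟨F, hF⟩ := Sylow.exists_subgroup_card_pow_prime p (G := E) (n := 2) (he ▸ pow_dvd_pow p h2)
    intro z hz
    obtain ⟨k, hk⟩ := IsPGroup.iff_orderOf.mp P.isPGroup' ⟨z, hz⟩
    rw [Subgroup.orderOf_mk] at hk
    by_contra hne
    have hk2 : 2 ≤ k := by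
      by_contra hlt
      exact hne (orderOf_dvd_iff_pow_eq_one.mp (hk ▸ (pow_dvd_pow p (show k ≤ 1 by omega)).trans (by rw [pow_one])))
    set w := z ^ p ^ (k - 2)
    have hw : orderOf w = p ^ 2 := by
      rw [orderOf_pow, hk, Nat.gcd_eq_right (Nat.pow_dvd_pow p (by omega)),
        Nat.pow_div (by omega) hp.pos, show k - (k - 2) = 2 by omega]
    set F' := (F.map E.subtype).map (P : Subgroup G).subtype
    obtain ⟨g, hg⟩ := hB F' (zpowers w) (by infer_instance) inferInstance (by
      rw [Nat.card_zpowers, hw, Subgroup.card_map_of_injective (P : Subgroup G).subtype_injective,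
        Subgroup.card_map_of_injective E.subtype_injective, hF])
    obtain ⟨f, hf, hfw⟩ := (hg ▸ mem_zpowers w : w ∈ F'.map (MulAut.conj g).toMonoidHom)
    obtain ⟨f₁, hf₁, rfl⟩ := Subgroup.mem_map.mp hf
    have h1 : w ^ p = 1 := by
      rw [← hfw, ← map_pow]
      have : ((P : Subgroup G).subtype f₁) ^ p = 1 := by
        rw [← map_pow, hexp f₁ (map_subtype_le _ hf₁), map_one]
      rw [this, map_one]
    have := Nat.le_of_dvd hp.pos (hw ▸ orderOf_dvd_of_pow_eq_one h1)
    nlinarith [hp.two_le]
  · push Not at hE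
    have huniq : ∀ H K : Subgroup ↥(P : Subgroup G), Nat.card H = p → Nat.card K = p → H = K := by
      rcases subsingleton_or_nontrivial ↥(P : Subgroup G) with h | h
      · exact fun H K _ _ => Subsingleton.elim H K
      obtain ⟨z, hz⟩ := exists_prime_orderOf_dvd_card' (G := center ↥(P : Subgroup G)) p (by
        haveI := P.isPGroup'.center_nontrivial
        obtain ⟨n, hn0, hn⟩ := (P.isPGroup'.to_subgroup (center _)).nontrivial_iff_card.mp this
        exact hn ▸ dvd_pow_self p hn0.ne')
      have key : ∀ H : Subgroup ↥(P : Subgroup G), Nat.card H = p → H = zpowers (z : ↥(P : Subgroup G)) := by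
        intro H hH
        obtain ⟨x, hx⟩ := exists_prime_orderOf_dvd_card' (G := H) p (dvd_of_eq hH.symm)
        have hx' : orderOf (x : ↥(P : Subgroup G)) = p := by rw [Subgroup.orderOf_coe, hx]
        have hz' : orderOf (z : ↥(P : Subgroup G)) = p := by rw [Subgroup.orderOf_coe, hz]
        have h1 : (x : ↥(P : Subgroup G)) ∈ zpowers (z : ↥(P : Subgroup G)) :=
          hE _ _ hz' hx' ((mem_center_iff.mp z.2 x).symm)
        have h2 : H = zpowers (x : ↥(P : Subgroup G)) :=
          (eq_of_le_of_card_ge (zpowers_le.mpr x.2) (by rw [hH, Nat.card_zpowers, hx'])).symm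
        rw [h2]
        exact eq_of_le_of_card_ge (zpowers_le.mpr h1) (by rw [Nat.card_zpowers, Nat.card_zpowers, hx', hz'])
      exact fun H K hH hK => (key H hH).trans (key K hK).symm
    rcases S0016.result (G := ↥(P : Subgroup G)) p P.isPGroup' huniq with h | ⟨h2, n, ⟨e⟩⟩
    · exact Or.inl h
    · rcases n with _ | n
      · haveI : IsCyclic (QuaternionGroup (2 ^ 0)) := by
          rw [pow_zero]; exact QuaternionGroup.quaternionGroup_one_isCyclic
        exact Or.inl (isCyclic_of_surjective e.symm e.symm.surjective)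
      · exact Or.inr (Or.inl ⟨h2, n, ⟨e⟩⟩)

/-- Generalized quaternion groups have at most one involution. -/
theorem quaternion_involution_unique {H : Type*} [Group H] {n : ℕ}
    (e : H ≃* QuaternionGroup (2 ^ (n + 1))) {x y : H} (hx : orderOf x = 2) (hy : orderOf y = 2) :
    x = y := by
  obtain ⟨hsub, -⟩ := Nat.card_eq_one_iff_unique.mp (S0218.result n)
  apply e.injective
  exact congrArg Subtype.val (@Subsingleton.elim _ hsub
    (⟨e x, by rw [MulEquiv.orderOf_eq, hx]⟩ : {q : QuaternionGroup (2 ^ (n + 1)) // orderOf q = 2})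
    ⟨e y, by rw [MulEquiv.orderOf_eq, hy]⟩)

end Cfsg.Agent.FG38
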