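import Cfsg.Prelude.Def_Transfer
import Mathlib.GroupTheory.SpecificGroups.ZGroup
import Mathlib.GroupTheory.Sylow

/-!
Groups in which abelian subgroups of equal order are conjugate: first consequences.
-/

set_option autoImplicit false

namespace Cfsg.Agent.FG38

open Subgroup

/-- Any two abelian subgroups of the same order are conjugate. -/
def ConjAb (G : Type*) [Group G] : Prop :=
  ∀ A B : Subgroup G, IsMulCommutative ↥A → IsMulCommutative ↥B → Nat.card ↥A = Nat.card ↥B →
    ∃ g : G, B = A.map (MulAut.conj g).toMonoidHom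

variable {G : Type*} [Group G]

theorem mem_of_orderOf (hB : ConjAb G) (M : Subgroup G) [M.Normal] (a : G)
    (ha : ∃ m ∈ M, orderOf m = orderOf a) : a ∈ M := by
  obtain ⟨m, hm, ho⟩ := ha
  obtain ⟨g, hg⟩ := hB (zpowers m) (zpowers a) inferInstance inferInstance
    (by rw [Nat.card_zpowers, Nat.card_zpowers, ho])
  have hle : zpowers a ≤ M := by
    rw [hg]
    rintro _ ⟨y, hy, rfl⟩
    exact ‹M.Normal›.conj_mem y (zpowers_le.mpr hm hy) g
  exact hle (mem_zpowers a)

variable [Finite G]

theorem sylow_eq_of_elementary (hB : ConjAb G) (M : Subgroup G) [M.Normal] {p t : ℕ} [Fact p.Prime]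
    (ht : 2 ≤ t) (hc : Nat.card ↥M = p ^ t) (he : Cfsg.IsElementaryAbelian p M) (P : Sylow p G) :
    (P : Subgroup G) = M := by
  have hp : p.Prime := Fact.out
  have hMp : IsPGroup p M := IsPGroup.of_card hc
  have hMP : M ≤ P := hMp.le_sylow_of_normal P
  obtain ⟨m, hm⟩ := exists_prime_orderOf_dvd_card' (G := M) p (hc ▸ dvd_pow_self p (by omega))
  have hm' : orderOf (m : G) = p := by rw [Subgroup.orderOf_coe, hm]
  refine le_antisymm ?_ hMP
  by_contra hnle
  obtain ⟨y, hyP, hyM⟩ := SetLike.not_le_iff_exists.mp hnle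
  obtain ⟨k, hk⟩ := IsPGroup.iff_orderOf.mp P.isPGroup' ⟨y, hyP⟩
  rw [Subgroup.orderOf_mk] at hk
  rcases Nat.lt_or_ge k 2 with hk2 | hk2
  · apply hyM
    interval_cases k
    · rw [pow_zero, orderOf_eq_one_iff] at hk; rw [hk]; exact M.one_mem
    · exact mem_of_orderOf hB M y ⟨m, m.2, by rw [hm', hk, pow_one]⟩
  · set z := y ^ (p ^ (k - 2))
    have hz : orderOf z = p ^ 2 := by
      rw [orderOf_pow, hk, Nat.gcd_eq_right (Nat.pow_dvd_pow p (by omega)),
        Nat.pow_div (by omega) hp.pos, show k - (k - 2) = 2 by omega]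
    obtain ⟨E, hE⟩ := Sylow.exists_subgroup_card_pow_prime p (G := M) (n := 2)
      (hc ▸ pow_dvd_pow p ht)
    have hcomm : IsMulCommutative ↥(E.map M.subtype) := by
      haveI := he.1
      infer_instance
    obtain ⟨g, hg⟩ := hB (E.map M.subtype) (zpowers z) hcomm inferInstance (by
      rw [Nat.card_zpowers, hz, Subgroup.card_map_of_injective M.subtype_injective, hE])
    obtain ⟨e, he', hez⟩ := (hg ▸ mem_zpowers z : z ∈ (E.map M.subtype).map (MulAut.conj g).toMonoidHom)
    have hzM : z ∈ M := hez ▸ ‹M.Normal›.conj_mem e (map_subtype_le E he') g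
    have := orderOf_dvd_of_pow_eq_one (he.2 z hzM)
    rw [hz] at this
    have := Nat.le_of_dvd hp.pos this
    nlinarith [hp.two_le]

theorem isCyclic_of_nilpotent (hB : ConjAb G) (hnil : Group.IsNilpotent G) : IsCyclic G := by
  haveI : IsZGroup G := by
    refine ⟨fun p hp P => ?_⟩
    haveI := Fact.mk hp
    -- `P` inherits the hypothesis
    have hC : centralizer ((P : Subgroup G) : Set G) ⊔ (P : Subgroup G) = ⊤ := by
      apply eq_top_of_card_eq
      apply Nat.dvd_antisymm (card_subgroup_dvd_card _)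
      rw [← Nat.factorization_le_iff_dvd Nat.card_pos.ne' Nat.card_pos.ne']
      intro q
      by_cases hq : q.Prime
      · haveI := Fact.mk hq
        obtain ⟨Q⟩ := (inferInstance : Nonempty (Sylow q G))
        have hQ : (Q : Subgroup G) ≤ centralizer ((P : Subgroup G) : Set G) ⊔ (P : Subgroup G) := by
          by_cases hqp : q = p
          · subst hqp
            have : Q = P := by
              haveI : Subsingleton (Sylow q G) := (Sylow.unique_of_normal P inferInstance).instSubsingleton
              exact Subsingleton.elim _ _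
            rw [this]; exact le_sup_right
          · refine le_trans (fun x hx => mem_centralizer_iff.mpr fun y hy => ?_) le_sup_left
            have hd : Disjoint (P : Subgroup G) (Q : Subgroup G) :=
              IsPGroup.disjoint_of_ne p q (Ne.symm hqp) _ _ P.isPGroup' Q.isPGroup'
            exact commute_of_normal_of_disjoint _ _ inferInstance inferInstance hd y x hy hx
        have h1 : q ^ (Nat.card G).factorization q ∣
            Nat.card ↥(centralizer ((P : Subgroup G) : Set G) ⊔ (P : Subgroup G)) := by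
          rw [← Q.card_eq_multiplicity]; exact card_dvd_of_le hQ
        exact (hq.pow_dvd_iff_le_factorization Nat.card_pos.ne').mp h1
      · rw [Nat.factorization_eq_zero_of_not_prime _ hq]; exact Nat.zero_le _
    have hconj : ∀ A B : Subgroup G, A ≤ (P : Subgroup G) → IsMulCommutative ↥A → IsMulCommutative ↥B →
        Nat.card A = Nat.card B → ∃ g ∈ (P : Subgroup G), B = A.map (MulAut.conj g).toMonoidHom := by
      intro A B hA hA1 hB1 hcard
      obtain ⟨g, hg⟩ := hB A B hA1 hB1 hcard
      obtain ⟨c, hc, h, hh, rfl⟩ := (mem_sup_of_normal_right (s := centralizer ((P : Subgroup G) : Set G))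
        (t := (P : Subgroup G))).mp (hC.symm ▸ mem_top g)
      refine ⟨h, hh, ?_⟩
      rw [hg]
      ext z
      simp only [Subgroup.mem_map]
      constructor <;> rintro ⟨a, ha, rfl⟩ <;> refine ⟨a, ha, ?_⟩
      all_goals
        simp only [MulEquiv.coe_toMonoidHom, MulAut.conj_apply]
        have hcm : Commute c (h * a * h⁻¹) :=
          ((mem_centralizer_iff.mp hc) _ (mul_mem (mul_mem hh (hA ha)) (inv_mem hh))).symm
        have e : c * h * a * (c * h)⁻¹ = h * a * h⁻¹ := by
          rw [show c * h * a * (c * h)⁻¹ = c * (h * a * h⁻¹) * c⁻¹ by group, hcm.eq, mul_inv_cancel_right]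
        first | exact e | exact e.symm
    -- unique maximal subgroup
    have hPnil : Group.IsNilpotent ↥(P : Subgroup G) := P.isPGroup'.isNilpotent
    have huniq : ∀ M₁ M₂ : Subgroup ↥(P : Subgroup G), IsCoatom M₁ → IsCoatom M₂ → M₁ = M₂ := by
      intro M₁ M₂ h1 h2
      haveI n1 : M₁.Normal := NormalizerCondition.normal_of_coatom M₁ (normalizerCondition_of_isNilpotent (h := hPnil)) h1
      haveI n2 : M₂.Normal := NormalizerCondition.normal_of_coatom M₂ (normalizerCondition_of_isNilpotent (h := hPnil)) h2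
      have key : ∀ (M : Subgroup ↥(P : Subgroup G)) [M.Normal] (x y : ↥(P : Subgroup G)), y ∈ M →
          orderOf x = orderOf y → x ∈ M := by
        intro M _ x y hy hxy
        obtain ⟨g, hg, hgeq⟩ := hconj (zpowers (y : G)) (zpowers (x : G)) (zpowers_le.mpr y.2)
          inferInstance inferInstance (by
            rw [Nat.card_zpowers, Nat.card_zpowers, Subgroup.orderOf_coe, Subgroup.orderOf_coe, hxy])
        obtain ⟨z, hz, hzx⟩ :=
          (hgeq ▸ mem_zpowers (x : G) : (x : G) ∈ (zpowers (y : G)).map (MulAut.conj g).toMonoidHom)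
        obtain ⟨i, rfl⟩ := mem_zpowers_iff.mp hz
        have : x = ⟨g, hg⟩ * y ^ i * ⟨g, hg⟩⁻¹ := by
          apply Subtype.ext
          rw [← hzx]; simp
        rw [this]
        exact ‹M.Normal›.conj_mem _ (M.zpow_mem hy i) _
      by_contra hne
      have hlt1 : ¬ M₁ ≤ M₂ := fun hle => by
        rcases hle.lt_or_eq with hlt | heq
        · exact h2.1 (h1.2 _ hlt)
        · exact hne heq
      have hlt2 : ¬ M₂ ≤ M₁ := fun hle => by
        rcases hle.lt_or_eq with hlt | heq
        · exact h1.1 (h2.2 _ hlt)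
        · exact hne heq.symm
      obtain ⟨x, hx1, hx2⟩ := SetLike.not_le_iff_exists.mp hlt1
      obtain ⟨y, hy2, hy1⟩ := SetLike.not_le_iff_exists.mp hlt2
      obtain ⟨a, ha⟩ := IsPGroup.iff_orderOf.mp P.isPGroup' x
      obtain ⟨b, hb⟩ := IsPGroup.iff_orderOf.mp P.isPGroup' y
      rcases le_total a b with hab | hab
      · refine hx2 (key M₂ x (y ^ (p ^ (b - a))) (M₂.pow_mem hy2 _) ?_)
        rw [ha, orderOf_pow, hb, Nat.gcd_eq_right (Nat.pow_dvd_pow p (by omega)),
          Nat.pow_div (by omega) hp.pos, Nat.sub_sub_self hab]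
      · refine hy1 (key M₁ y (x ^ (p ^ (a - b))) (M₁.pow_mem hx1 _) ?_)
        rw [hb, orderOf_pow, ha, Nat.gcd_eq_right (Nat.pow_dvd_pow p (by omega)),
          Nat.pow_div (by omega) hp.pos, Nat.sub_sub_self hab]
    rcases eq_or_ne (P : Subgroup G) ⊥ with hbot | hbot
    · have h1 : Nat.card ↥(P : Subgroup G) = 1 := by rw [hbot]; exact card_bot
      haveI : Subsingleton ↥(P : Subgroup G) := (Nat.card_eq_one_iff_unique.mp h1).1
      infer_instance
    haveI : Nontrivial ↥(P : Subgroup G) := (nontrivial_iff_ne_bot _).mpr hbot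
    obtain ⟨M, hM, -⟩ := (eq_top_or_exists_le_coatom (⊥ : Subgroup ↥(P : Subgroup G))).resolve_left bot_ne_top
    obtain ⟨x, -, hx⟩ := SetLike.exists_of_lt (lt_top_iff_ne_top.mpr hM.1)
    refine ⟨x, fun y => ?_⟩
    rcases eq_top_or_exists_le_coatom (zpowers x) with h | ⟨M', hM', hle⟩
    · change y ∈ zpowers x
      rw [h]; exact mem_top y
    · exact absurd ((huniq M' M hM' hM) ▸ hle (mem_zpowers x)) hx
  infer_instance

end Cfsg.Agent.FG38
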