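import Cfsg.Agent.Lib.Involution.IndexTwo
import Cfsg.Agent.Lib.Involution.KleinSylow
import Cfsg.Agent.Lib.Transfer.Residual
import Cfsg.Agent.TwoFusion36.FusionTools
import Cfsg.Agent.TwoFusionB.DihedralSylow

/-!
# The three fusion patterns of involutions when a Sylow 2-subgroup is dihedral
-/

set_option autoImplicit false

open Subgroup DihedralGroup Cfsg.Agent.TwoFusionB

namespace Cfsg.Agent.FG38.DihedralTri

variable {k : ℕ}

local notation "D" => DihedralGroup (2 ^ (k + 1))

theorem isConj_sr (i : ZMod (2 ^ (k + 1))) : IsConj (sr i : D) (sr 0) ∨ IsConj (sr i : D) (sr 1) := by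
  rcases Fin.exists_fin_two.mp ⟨par k i, rfl⟩ with h | h
  · obtain ⟨y, rfl⟩ := exists_two_mul_of_par (k := k) h
    refine Or.inl (isConj_iff.mpr ⟨r y, ?_⟩)
    rw [inv_r, r_mul_sr, sr_mul_r]
    congr 1
    ring
  · obtain ⟨y, hy⟩ := exists_two_mul_of_par (k := k) (x := i - 1) (by rw [map_sub, h, map_one]; rfl)
    refine Or.inr (isConj_iff.mpr ⟨r y, ?_⟩)
    rw [inv_r, r_mul_sr, sr_mul_r]
    congr 1
    linear_combination hy

theorem not_isConj_sr : ¬ IsConj (sr 0 : D) (sr 1) := by
  rw [isConj_iff]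
  have h2 : (2 : ZMod 2) = 0 := rfl
  rintro ⟨x, hx⟩
  rcases x with j | j
  · rw [inv_r, r_mul_sr, sr_mul_r, sr.injEq] at hx
    have := congrArg (par k) hx
    rw [map_add, map_sub, map_neg, map_zero, map_one] at this
    have h3 : (0 : ZMod 2) = 1 := by linear_combination this + par k j * h2
    exact zero_ne_one h3
  · rw [inv_sr, sr_mul_sr, r_mul_sr, sr.injEq] at hx
    have := congrArg (par k) hx
    simp only [map_sub, map_zero, map_one] at this
    have h3 : (0 : ZMod 2) = 1 := by linear_combination this - par k j * h2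
    exact zero_ne_one h3

variable {G : Type*} [Group G] [Finite G]

/-- Pattern with two classes: one reflection class fused to the central involution, the other not. -/
theorem two_case (P : Sylow 2 G) (R : Subgroup G) (hRP : R ≤ (P : Subgroup G)) (hRi : R.relIndex (P : Subgroup G) = 2)
    {z a b : G} (hz : orderOf z = 2) (ha : a ∈ (P : Subgroup G)) (ha2 : a * a = 1)
    (hb : orderOf b = 2) (hR : ∀ v ∈ R, orderOf v = 2 → v = z)
    (hsq : ∃ v ∈ (P : Subgroup G), v * v = z) (hgen : (P : Subgroup G) ≤ closure {a, b})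
    (hall : ∀ x : G, orderOf x = 2 → IsConj x z ∨ IsConj x a ∨ IsConj x b) (haz : IsConj a z) (hbz : ¬ IsConj b z) :
    Nat.card {C : ConjClasses G // ∃ g : G, ConjClasses.mk g = C ∧ orderOf g = 2} = 2 ∧
      (∃ N : Subgroup G, N.Normal ∧ N.index = 2) ∧ ∀ N : Subgroup G, N.Normal → N.index ≠ 4 := by
  haveI : Fact (Nat.Prime 2) := ⟨Nat.prime_two⟩
  have hb1 : b * b = 1 := by rw [← sq, ← hb, pow_orderOf_eq_one]
  refine ⟨?_, ?_, fun N hN hN4 => ?_⟩
  · have hset : {C : ConjClasses G | ∃ g : G, ConjClasses.mk g = C ∧ orderOf g = 2} =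
        {ConjClasses.mk z, ConjClasses.mk b} := by
      ext C
      simp only [Set.mem_setOf_eq, Set.mem_insert_iff, Set.mem_singleton_iff]
      constructor
      · rintro ⟨g, rfl, hg⟩
        rw [ConjClasses.mk_eq_mk_iff_isConj, ConjClasses.mk_eq_mk_iff_isConj]
        rcases hall g hg with h | h | h
        · exact Or.inl h
        · exact Or.inl (h.trans haz)
        · exact Or.inr h
      · rintro (rfl | rfl)
        · exact ⟨z, rfl, hz⟩
        · exact ⟨b, rfl, hb⟩
    show Nat.card {C : ConjClasses G | ∃ g : G, ConjClasses.mk g = C ∧ orderOf g = 2} = 2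
    rw [hset, Nat.card_coe_set_eq, Set.ncard_pair fun e => hbz (ConjClasses.mk_eq_mk_iff_isConj.mp e).symm]
  · obtain ⟨M, hM, hMi, -⟩ := Involution.thompson_transfer P R hRP hRi hb1 fun g hg => hbz (by
      have := hR _ hg (by rw [← MulAut.conj_apply, MulEquiv.orderOf_eq, hb])
      exact isConj_iff.mpr ⟨g, this⟩)
    exact ⟨M, hM, hMi⟩
  · have hQ : IsPGroup 2 (G ⧸ N) := IsPGroup.of_card (n := 2) (by rw [← index_eq_card, hN4]; rfl)
    let π := QuotientGroup.mk' N
    have hπs : Function.Surjective π := QuotientGroup.mk'_surjective N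
    have hcomm : ∀ x y : G ⧸ N, x * y = y * x := by
      haveI := IsPGroup.isMulCommutative_of_card_eq_prime_sq (p := 2) (G := G ⧸ N) (by rw [← index_eq_card, hN4]; rfl)
      exact mul_comm'
    letI : CommGroup (G ⧸ N) := { mul_comm := hcomm }
    have hS : (P : Subgroup G).map π = ⊤ := by
      have := congrArg (Subgroup.map π) (Transfer.sup_eq_top_of_coprime_index (N := N) P.not_dvd_index
        (show N.index = 2 ^ 2 by rw [hN4]; rfl))
      rwa [Subgroup.map_sup, QuotientGroup.map_mk'_self, sup_bot_eq, map_top_of_surjective _ hπs] at this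
    have hle : ∀ g ∈ (P : Subgroup G), π g ^ 2 = 1 := by
      intro g hg
      have : (P : Subgroup G) ≤ ((powMonoidHom 2 : G ⧸ N →* G ⧸ N).comp π).ker := by
        refine hgen.trans ((closure_le _).mpr ?_)
        rintro v (rfl | rfl)
        · simp [← map_mul, ← map_pow, sq, ha2]
        · simp [← map_mul, ← map_pow, sq, hb1]
      exact this hg
    have hπz : π z = 1 := by
      obtain ⟨v, hv, rfl⟩ := hsq
      rw [map_mul, ← sq, hle v hv]
    have hπa : π a = 1 := by
      obtain ⟨c, hc⟩ := isConj_iff.mp haz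
      rw [← hc, map_mul, map_mul, map_inv, mul_comm (π c), mul_inv_cancel_right] at hπz
      exact hπz
    have hcard : Nat.card (G ⧸ N) ≤ 2 := by
      have h1 : (P : Subgroup G).map π ≤ zpowers (π b) := by
        rw [map_le_iff_le_comap]
        refine hgen.trans ((closure_le _).mpr ?_)
        rintro v (rfl | rfl)
        · exact mem_comap.mpr (hπa ▸ one_mem _)
        · exact mem_comap.mpr (mem_zpowers _)
      rw [hS, top_le_iff] at h1
      rw [← card_top, ← h1, Nat.card_zpowers]
      exact Nat.le_of_dvd two_pos (orderOf_dvd_of_pow_eq_one (by rw [← map_pow, sq, hb1, map_one]))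
    rw [← index_eq_card, hN4] at hcard
    omega

/-- The trichotomy. -/
theorem trichotomy (P : Sylow 2 G) (hk : 1 ≤ k) (e : (P : Subgroup G) ≃* D) :
    (Nat.card {C : ConjClasses G // ∃ g : G, ConjClasses.mk g = C ∧ orderOf g = 2} = 1 ∧
      ∀ N : Subgroup G, N.Normal → N.index ≠ 2) ∨
    (Nat.card {C : ConjClasses G // ∃ g : G, ConjClasses.mk g = C ∧ orderOf g = 2} = 2 ∧
      (∃ N : Subgroup G, N.Normal ∧ N.index = 2) ∧ ∀ N : Subgroup G, N.Normal → N.index ≠ 4) ∨
    (Nat.card {C : ConjClasses G // ∃ g : G, ConjClasses.mk g = C ∧ orderOf g = 2} = 3 ∧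
      Cfsg.HasNormalPComplement 2 G) := by
  haveI : Fact (Nat.Prime 2) := ⟨Nat.prime_two⟩
  set f : D →* G := emb e with hf
  have hfi : Function.Injective f := emb_injective e
  have hfP : ∀ d, f d ∈ (P : Subgroup G) := emb_mem e
  have hfs : ∀ v ∈ (P : Subgroup G), ∃ d, f d = v := fun v hv => by
    have : v ∈ f.range := by rw [hf, range_emb]; exact hv
    exact this
  have hord : ∀ d : D, orderOf (f d) = orderOf d := fun d => orderOf_injective f hfi d
  set R := (zpowers (r 1 : D)).map f with hR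
  have hRP : R ≤ (P : Subgroup G) := by rintro _ ⟨d, -, rfl⟩; exact hfP d
  have hRi : R.relIndex (P : Subgroup G) = 2 := by
    have h2 := relIndex_mul_relIndex ⊥ R (P : Subgroup G) bot_le hRP
    rw [relIndex_bot_left, relIndex_bot_left, hR, card_map_of_injective hfi, Nat.card_zpowers, orderOf_r_one,
      Nat.card_congr e.toEquiv, DihedralGroup.nat_card, mul_comm 2] at h2
    exact Nat.eq_of_mul_eq_mul_left (by positivity) h2
  haveI hRc : IsCyclic R := by rw [hR, MonoidHom.map_zpowers]; infer_instance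
  have hmemR : ∀ i, f (r i) ∈ R := fun i => mem_map_of_mem f ⟨i.val, by simp⟩
  set z := f (r (half k)) with hz
  set a := f (sr 0) with ha
  set b := f (sr 1) with hb
  have ha2 : orderOf a = 2 := by rw [ha, hord, orderOf_sr]
  have hb2 : orderOf b = 2 := by rw [hb, hord, orderOf_sr]
  have hz2 : orderOf z = 2 := by
    rw [hz, hord]
    refine orderOf_eq_prime ?_ ?_
    · rw [sq, r_mul_r, add_half_self]; rfl
    · rw [one_def, Ne, r.injEq]; exact half_ne_zero
  have hRu : ∀ v ∈ R, orderOf v = 2 → v = z := fun v hv hv2 => congrArg Subtype.val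
    (Involution.involution_unique_of_isCyclic (a := (⟨v, hv⟩ : R)) (b := ⟨z, hmemR _⟩)
      (by rwa [orderOf_mk]) (by rwa [orderOf_mk]))
  have hsq : ∃ v ∈ (P : Subgroup G), v * v = z := by
    refine ⟨f (r ((2 ^ (k - 1) : ℕ) : ZMod (2 ^ (k + 1)))), hfP _, ?_⟩
    rw [hz, ← map_mul, r_mul_r, half, ← Nat.cast_add, ← two_mul, ← pow_succ', Nat.sub_add_cancel hk]
  have hgen : (P : Subgroup G) ≤ closure {a, b} := by
    intro v hv
    obtain ⟨d, rfl⟩ := hfs v hv
    have hr : ∀ i : ZMod (2 ^ (k + 1)), f (r i) ∈ closure {a, b} := by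
      intro i
      have h1 : f (r 1) ∈ closure {a, b} := by
        rw [show (r 1 : D) = sr 0 * sr 1 by rw [sr_mul_sr, sub_zero], map_mul]
        exact mul_mem (subset_closure (Or.inl rfl)) (subset_closure (Or.inr rfl))
      have := pow_mem h1 i.val
      rwa [← map_pow, r_one_pow, ZMod.natCast_zmod_val] at this
    rcases d with i | i
    · exact hr i
    · rw [show (sr i : D) = sr 0 * r i by rw [sr_mul_r, zero_add], map_mul]
      exact mul_mem (subset_closure (Or.inl rfl)) (hr i)
  have hall : ∀ x : G, orderOf x = 2 → IsConj x z ∨ IsConj x a ∨ IsConj x b := by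
    intro x hx
    obtain ⟨v, hv, hxv, hv2⟩ := Involution.exists_isConj_mem_sylow P hx
    obtain ⟨d, rfl⟩ := hfs v hv
    rw [hord] at hv2
    rcases TwoFusionB.mul_self_eq_one_iff.mp ((sq d).symm.trans (orderOf_dvd_iff_pow_eq_one.mp hv2.dvd)) with h | h | ⟨i, h⟩
    · rw [h, orderOf_one] at hv2; omega
    · exact Or.inl (by rw [hz, ← h]; exact hxv)
    · subst h
      rcases isConj_sr i with h | h
      · exact Or.inr (Or.inl (hxv.trans (f.map_isConj h)))
      · exact Or.inr (Or.inr (hxv.trans (f.map_isConj h)))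
  have ha1 : a * a = 1 := by rw [ha, ← map_mul, sr_mul_self, map_one]
  have hb1 : b * b = 1 := by rw [hb, ← map_mul, sr_mul_self, map_one]
  by_cases haz : IsConj a z <;> by_cases hbz : IsConj b z
  · refine Or.inl ⟨?_, fun N hN hN2 => ?_⟩
    · have hset : {C : ConjClasses G | ∃ g : G, ConjClasses.mk g = C ∧ orderOf g = 2} = {ConjClasses.mk z} := by
        ext C
        simp only [Set.mem_setOf_eq, Set.mem_singleton_iff]
        constructor
        · rintro ⟨g, rfl, hg⟩
          rw [ConjClasses.mk_eq_mk_iff_isConj]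
          rcases hall g hg with h | h | h
          · exact h
          · exact h.trans haz
          · exact h.trans hbz
        · rintro rfl; exact ⟨z, rfl, hz2⟩
      show Nat.card {C : ConjClasses G | ∃ g : G, ConjClasses.mk g = C ∧ orderOf g = 2} = 1
      rw [hset, Nat.card_coe_set_eq, Set.ncard_singleton]
    · obtain ⟨v, hv, hvz⟩ := hsq
      have hzN : z ∈ N := hvz ▸ mul_self_mem_of_index_two hN2 v
      have hmem : ∀ x, IsConj x z → x ∈ N := fun x hx => by
        obtain ⟨c, hc⟩ := isConj_iff.mp hx.symm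
        exact hc ▸ hN.conj_mem z hzN c
      refine P.not_dvd_index (hN2.symm.dvd.trans (index_dvd_of_le (hgen.trans ((closure_le _).mpr ?_))))
      rintro v (rfl | rfl)
      · exact hmem _ haz
      · exact hmem _ hbz
  · exact Or.inr (Or.inl (two_case P R hRP hRi hz2 (hfP _) ha1 hb2 hRu hsq hgen hall haz hbz))
  · exact Or.inr (Or.inl (two_case P R hRP hRi hz2 (hfP _) hb1 ha2 hRu hsq
      (Set.pair_comm a b ▸ hgen) (fun x hx => (hall x hx).imp_right Or.symm) hbz haz))
  · have hout : ∀ u : G, orderOf u = 2 → u ∈ (P : Subgroup G) → ¬ IsConj u z →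
        ∃ M : Subgroup G, M.Normal ∧ M.index = 2 ∧ u ∉ M := fun u hu _ huz =>
      Involution.thompson_transfer P R hRP hRi (by rw [← sq, ← hu, pow_orderOf_eq_one]) fun g hg => huz (by
        have := hRu _ hg (by rw [← MulAut.conj_apply, MulEquiv.orderOf_eq, hu])
        exact isConj_iff.mpr ⟨g, this⟩)
    obtain ⟨M, hM, hMi, haM⟩ := hout a ha2 (hfP _) haz
    obtain ⟨M', hM', hMi', hbM⟩ := hout b hb2 (hfP _) hbz
    haveI := hM
    haveI := hM'
    have hcompl : Cfsg.HasNormalPComplement 2 G := by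
      haveI : (M ⊓ M').Normal := inferInstance
      obtain ⟨j, hj⟩ : ∃ j : ℕ, (M ⊓ M').index = 2 ^ j := by
        have hd : (M ⊓ M').index ∣ 2 ^ 2 := by
          rw [← relIndex_mul_index (inf_le_right : M ⊓ M' ≤ M'), inf_relIndex_right, hMi', sq]
          exact Nat.mul_dvd_mul_right (hMi ▸ relIndex_dvd_index_of_normal M M') 2
        obtain ⟨j, -, hj⟩ := (Nat.dvd_prime_pow Nat.prime_two).mp hd
        exact ⟨j, hj⟩
      have hle : (P : Subgroup G) ⊓ (M ⊓ M') ≤ R := by
        rintro v ⟨hv, hvM, hvM'⟩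
        obtain ⟨d, rfl⟩ := hfs v hv
        rcases d with i | i
        · exact hmemR i
        · exfalso
          rcases isConj_sr i with h | h
          · obtain ⟨c, hc⟩ := isConj_iff.mp (f.map_isConj h)
            exact haM (by rw [ha, ← hc]; exact hM.conj_mem _ hvM c)
          · obtain ⟨c, hc⟩ := isConj_iff.mp (f.map_isConj h)
            exact hbM (by rw [hb, ← hc]; exact hM'.conj_mem _ hvM' c)
      exact TwoFusion36.hasNormalPComplement_of_cyclic P (M ⊓ M') hj (isCyclic_of_le hle)
    refine Or.inr (Or.inr ⟨?_, hcompl⟩)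
    have hab : ¬ IsConj a b := by
      intro h
      obtain ⟨c, hc⟩ := isConj_iff.mp h
      have hN := Transfer.isComplement'_pResidual hcompl P
      obtain ⟨n, hn, s, hs, rfl⟩ := mem_sup_of_normal_left.mp (hN.sup_eq_top.ge (mem_top c))
      obtain ⟨d, rfl⟩ := hfs s hs
      refine not_isConj_sr (k := k) (isConj_iff.mpr ⟨d, hfi ?_⟩)
      let π := QuotientGroup.mk' (Cfsg.pResidual 2 G)
      have h1 : π n = 1 := (QuotientGroup.eq_one_iff n).mpr hn
      have h2 : π (f (d * sr 0 * d⁻¹)) = π b := by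
        rw [← hc]
        simp only [map_mul, map_inv, h1, one_mul, mul_inv_rev, inv_one, mul_one, ha]
      have h3 : f (d * sr 0 * d⁻¹) * b⁻¹ ∈ Cfsg.pResidual 2 G ⊓ (P : Subgroup G) :=
        mem_inf.mpr ⟨(QuotientGroup.eq_one_iff _).mp (show π _ = 1 by rw [map_mul, map_inv, h2, mul_inv_cancel]),
          mul_mem (hfP _) (inv_mem (hfP _))⟩
      rw [hN.disjoint.eq_bot, mem_bot, mul_inv_eq_one] at h3
      rw [h3, hb]
    have hset : {C : ConjClasses G | ∃ g : G, ConjClasses.mk g = C ∧ orderOf g = 2} =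
        {ConjClasses.mk z, ConjClasses.mk a, ConjClasses.mk b} := by
      ext C
      simp only [Set.mem_setOf_eq, Set.mem_insert_iff, Set.mem_singleton_iff]
      constructor
      · rintro ⟨g, rfl, hg⟩
        simp only [ConjClasses.mk_eq_mk_iff_isConj]
        exact hall g hg
      · rintro (rfl | rfl | rfl)
        · exact ⟨z, rfl, hz2⟩
        · exact ⟨a, rfl, ha2⟩
        · exact ⟨b, rfl, hb2⟩
    show Nat.card {C : ConjClasses G | ∃ g : G, ConjClasses.mk g = C ∧ orderOf g = 2} = 3
    rw [hset, Nat.card_coe_set_eq, Set.ncard_eq_three]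
    exact ⟨_, _, _, fun e => haz (ConjClasses.mk_eq_mk_iff_isConj.mp e).symm,
      fun e => hbz (ConjClasses.mk_eq_mk_iff_isConj.mp e).symm,
      fun e => hab (ConjClasses.mk_eq_mk_iff_isConj.mp e), rfl⟩

end Cfsg.Agent.FG38.DihedralTri
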