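import Cfsg.Prelude.Def_Transfer
import Mathlib.Algebra.Polynomial.Roots
import Mathlib.Algebra.CharP.Lemmas
import Mathlib.FieldTheory.Finite.Basic
import Mathlib.GroupTheory.PGroup

/-!
The order of a group on which an element of prime order acts irreducibly.
-/

set_option autoImplicit false

namespace Cfsg.Agent.FG38

open Subgroup

theorem card_le_of_irreducible_end {V : Type*} [AddCommGroup V] [Finite V] {p q : ℕ} [Fact p.Prime]
    [Fact q.Prime] (hpq : q ≠ p) (hqV : ∀ v : V, q • v = 0) (T : AddMonoid.End V) (hT : T ^ p = 1)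
    (hirr : ∀ W : AddSubgroup V, (∀ w ∈ W, T w ∈ W) → W = ⊥ ∨ W = ⊤) :
    Nat.card V ≤ q ^ orderOf (q : ZMod p) := by
  classical
  have hp : p.Prime := Fact.out
  have hq : q.Prime := Fact.out
  have hqp : ((q : ZMod p)) ≠ 0 := by
    rw [Ne, ZMod.natCast_eq_zero_iff, Nat.prime_dvd_prime_iff_eq hp hq]; exact Ne.symm hpq
  set o := orderOf (q : ZMod p) with ho
  by_cases hV : ∀ v : V, v = 0
  · haveI : Subsingleton V := ⟨fun a b => (hV a).trans (hV b).symm⟩
    rw [Nat.card_of_subsingleton (0 : V)]
    exact Nat.one_le_pow _ _ hq.pos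
  push Not at hV
  obtain ⟨v₀, hv₀⟩ := hV
  have hq0 : ((q : AddMonoid.End V)) = 0 := by
    apply AddMonoidHom.ext
    intro v
    exact (AddMonoid.End.natCast_apply q v).trans (hqV v)
  haveI : Nontrivial (AddMonoid.End V) :=
    ⟨⟨1, 0, fun h => hv₀ (DFunLike.congr_fun h v₀)⟩⟩
  haveI : CharP (AddMonoid.End V) q := (CharP.charP_iff_prime_eq_zero hq).mpr hq0
  let S := Subring.closure ({T} : Set (AddMonoid.End V))
  have hcommT : ∀ x ∈ S, Commute x T := fun x hx => by
    induction hx using Subring.closure_induction with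
    | mem y hy => rw [Set.mem_singleton_iff.mp hy]
    | zero => exact Commute.zero_left _
    | one => exact Commute.one_left _
    | add a b _ _ ha hb => exact ha.add_left hb
    | neg a _ ha => exact ha.neg_left
    | mul a b _ _ ha hb => exact ha.mul_left hb
  have hcomm : ∀ x ∈ S, ∀ y ∈ S, Commute x y := fun x hx y hy => by
    induction hy using Subring.closure_induction with
    | mem z hz => rw [Set.mem_singleton_iff.mp hz]; exact hcommT x hx
    | zero => exact Commute.zero_right _
    | one => exact Commute.one_right _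
    | add a b _ _ ha hb => exact ha.add_right hb
    | neg a _ ha => exact ha.neg_right
    | mul a b _ _ ha hb => exact ha.mul_right hb
  have hq1 : q ^ o ≡ 1 [MOD p] := by
    rw [← ZMod.natCast_eq_natCast_iff]; push_cast; exact pow_orderOf_eq_one _
  have hfrob : ∀ x ∈ S, x ^ (q ^ o) = x := fun x hx => by
    induction hx using Subring.closure_induction with
    | mem y hy =>
      rw [Set.mem_singleton_iff.mp hy]
      obtain ⟨c, hc⟩ : ∃ c, q ^ o = p * c + 1 := by
        have h1 : 1 ≤ q ^ o := Nat.one_le_pow _ _ hq.pos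
        obtain ⟨c, hc⟩ := (Nat.modEq_iff_dvd' h1).mp hq1.symm
        exact ⟨c, by omega⟩
      rw [hc, pow_succ, pow_mul, hT, one_pow, one_mul]
    | zero => exact zero_pow (pow_ne_zero _ hq.ne_zero)
    | one => exact one_pow _
    | add a b ha hb hxa hxb =>
      rw [add_pow_char_pow_of_commute q o (hcomm a ha b hb), hxa, hxb]
    | neg a ha hxa =>
      have h1 := add_pow_char_pow_of_commute q o (x := a) (y := -a) ((Commute.refl a).neg_right)
      rw [add_neg_cancel, zero_pow (pow_ne_zero _ hq.ne_zero), hxa] at h1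
      exact eq_neg_of_add_eq_zero_right h1.symm
    | mul a b ha hb hxa hxb => rw [(hcomm a ha b hb).mul_pow, hxa, hxb]
  haveI : Finite (AddMonoid.End V) :=
    Finite.of_injective (β := V → V) (fun f => (f : V → V)) DFunLike.coe_injective
  have hinv : ∀ x ∈ S, x ≠ 0 → ∀ v : V, x v = 0 → v = 0 := by
    intro x hx hx0 v hv
    have hW : ∀ w ∈ (AddMonoidHom.ker x), T w ∈ AddMonoidHom.ker x := by
      intro w hw
      change x w = 0 at hw
      change x (T w) = 0
      have := DFunLike.congr_fun (hcommT x hx).eq w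
      change x (T w) = T (x w) at this
      rw [this, hw, map_zero]
    rcases hirr _ hW with h | h
    · have : v ∈ AddMonoidHom.ker x := hv
      rwa [h, AddSubgroup.mem_bot] at this
    · exact absurd (show x = 0 from AddMonoidHom.ext fun w => h.ge (AddSubgroup.mem_top w)) hx0
  letI : CommRing S := { (inferInstance : Ring S) with
    mul_comm := fun a b => Subtype.ext (hcomm a a.2 b b.2).eq }
  haveI : NoZeroDivisors S := ⟨fun {a b} hab => by
    by_contra hne
    push Not at hne
    apply hne.2
    apply Subtype.ext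
    refine AddMonoidHom.ext fun w => hinv a a.2 (fun h => hne.1 (Subtype.ext h)) _ ?_
    exact DFunLike.congr_fun (congrArg Subtype.val hab) w⟩
  haveI : IsDomain S := NoZeroDivisors.to_isDomain _
  haveI : Fintype S := Fintype.ofFinite _
  have hScard : Fintype.card S ≤ q ^ o := by
    set P : Polynomial S := Polynomial.X ^ (q ^ o) - Polynomial.X
    have ho0 : o ≠ 0 := (orderOf_pos_iff.mpr (isOfFinOrder_iff_pow_eq_one.mpr
      ⟨p - 1, by have := hp.two_le; omega, ZMod.pow_card_sub_one_eq_one hqp⟩)).ne'
    have hn : 1 < q ^ o := Nat.one_lt_pow ho0 hq.one_lt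
    have hdeg : P.natDegree = q ^ o := by
      rw [Polynomial.natDegree_sub_eq_left_of_natDegree_lt] <;>
        simp [Polynomial.natDegree_X_pow, Polynomial.natDegree_X, hn]
    have hP0 : P ≠ 0 := fun h => by
      rw [h, Polynomial.natDegree_zero] at hdeg
      exact (pow_ne_zero _ hq.ne_zero) hdeg.symm
    calc Fintype.card S ≤ P.roots.toFinset.card := by
          refine Finset.card_le_card (s := Finset.univ) fun x _ => ?_
          rw [Multiset.mem_toFinset, Polynomial.mem_roots hP0]
          have hx : x ^ (q ^ o) = x := Subtype.ext (hfrob x x.2)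
          simp [P, hx]
      _ ≤ Multiset.card P.roots := Multiset.toFinset_card_le _
      _ ≤ q ^ o := hdeg ▸ Polynomial.card_roots' P
  let ev : AddMonoid.End V →+ V := AddMonoidHom.mk' (fun f => f v₀) (fun _ _ => rfl)
  have hW : S.toAddSubgroup.map ev = ⊤ := by
    refine (hirr _ ?_).resolve_left fun h => hv₀ ?_
    · rintro _ ⟨s, hs, rfl⟩
      exact ⟨T * s, S.mul_mem (Subring.subset_closure rfl) hs, rfl⟩
    · have : v₀ ∈ S.toAddSubgroup.map ev := ⟨1, S.one_mem, rfl⟩
      rwa [h, AddSubgroup.mem_bot] at this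
  have hsurj : Function.Surjective (fun s : S => (s : AddMonoid.End V) v₀) := fun w => by
    obtain ⟨s, hs, hsw⟩ := hW.ge (AddSubgroup.mem_top w)
    exact ⟨⟨s, hs⟩, hsw⟩
  have h1 := Nat.card_le_card_of_surjective _ hsurj
  rw [Nat.card_eq_fintype_card (α := S)] at h1
  exact h1.trans hScard

open scoped IsMulCommutative in
/-- A minimal non-trivial subgroup invariant under an element of prime order `p` acting
non-trivially has `q ^ ord_p(q)` elements. -/
theorem card_irreducible_prime_order {G : Type*} [Group G] [Finite G] {p q : ℕ} [Fact p.Prime]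
    [Fact q.Prime] (hpq : q ≠ p) (A : Subgroup G) (hA : Cfsg.IsElementaryAbelian q A) (hA1 : A ≠ ⊥)
    {g : G} (hg : g ^ p = 1) (hgA : ∀ a ∈ A, g * a * g⁻¹ ∈ A)
    (hirr : ∀ B : Subgroup G, B ≤ A → (∀ b ∈ B, g * b * g⁻¹ ∈ B) → B = ⊥ ∨ B = A)
    (hnc : ∃ a ∈ A, g * a ≠ a * g) : Nat.card A = q ^ orderOf (q : ZMod p) := by
  haveI := hA.1
  have hp : p.Prime := Fact.out
  have hq : q.Prime := Fact.out
  have hAq : IsPGroup q A := fun a => ⟨1, Subtype.ext (by simpa using hA.2 a a.2)⟩
  obtain ⟨e, he⟩ := IsPGroup.iff_card.mp hAq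
  let σ : A →* A := MonoidHom.mk' (fun a => ⟨g * a * g⁻¹, hgA a a.2⟩)
    (fun a b => Subtype.ext (by simp [mul_assoc]))
  have hσ : ∀ a : A, ((σ a : A) : G) = g * a * g⁻¹ := fun _ => rfl
  let T : AddMonoid.End (Additive A) := σ.toAdditive
  have hTk : ∀ (k : ℕ) (v : Additive A),
      ((Additive.toMul ((T ^ k) v) : A) : G) = g ^ k * ((Additive.toMul v : A) : G) * (g ^ k)⁻¹ := by
    intro k
    induction k with
    | zero => intro v; simp
    | succ k ih =>
      intro v
      rw [pow_succ' T]
      change g * ((Additive.toMul ((T ^ k) v) : A) : G) * g⁻¹ = _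
      rw [ih v, pow_succ']; group
  have hle : Nat.card (Additive A) ≤ q ^ orderOf (q : ZMod p) := by
    refine card_le_of_irreducible_end hpq (fun v => ?_) T ?_ ?_
    · apply Additive.toMul.injective
      apply Subtype.ext
      rw [toMul_nsmul, toMul_zero, coe_pow, coe_one]
      exact hA.2 _ (Additive.toMul v : A).2
    · refine AddMonoidHom.ext fun v => ?_
      apply Additive.toMul.injective
      apply Subtype.ext
      refine (hTk p v).trans ?_
      rw [hg]; simp
      rfl
    · intro W hW
      set B := (AddSubgroup.toSubgroup' W).map A.subtype with hB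
      have hBW : ∀ a : A, a ∈ AddSubgroup.toSubgroup' W ↔ Additive.ofMul a ∈ W := fun _ => Iff.rfl
      rcases hirr B (map_subtype_le _) (by
        rintro _ ⟨a, ha, rfl⟩
        exact ⟨σ a, (hBW _).mpr (hW _ ((hBW a).mp ha)), rfl⟩) with h | h
      · left
        rw [eq_bot_iff]
        intro w hw
        have : ((Additive.toMul w : A) : G) ∈ B := ⟨_, hw, rfl⟩
        rw [h, mem_bot] at this
        exact Additive.toMul.injective (Subtype.ext this)
      · right
        rw [eq_top_iff]
        intro w _
        obtain ⟨a, ha, haw⟩ := h.ge (Additive.toMul w : A).2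
        have : a = Additive.toMul w := Subtype.ext haw
        have h2 := (hBW a).mp ha
        rw [this] at h2
        exact h2
  -- fixed points are trivial
  have hfix : ∀ a ∈ A, g * a * g⁻¹ = a → a = 1 := by
    intro a ha hfa
    rcases hirr (A ⊓ centralizer ({g} : Set G)) inf_le_left (fun b hb => by
      have hbg : b * g = g * b := mem_centralizer_singleton_iff.mp hb.2
      rw [← hbg, mul_inv_cancel_right]; exact hb) with h | h
    · have : a ∈ A ⊓ centralizer ({g} : Set G) :=
        ⟨ha, mem_centralizer_singleton_iff.mpr (mul_inv_eq_iff_eq_mul.mp hfa).symm⟩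
      rwa [h, mem_bot] at this
    · obtain ⟨b, hb, hb'⟩ := hnc
      exact absurd ((mem_centralizer_singleton_iff.mp (h.ge hb).2).symm) hb'
  have hgn : zpowers g ≤ normalizer (A : Set G) := by
    rw [zpowers_le, mem_normalizer_iff]
    intro y
    refine ⟨hgA y, fun hy => ?_⟩
    obtain ⟨⟨z, hz⟩, hzy⟩ := Finite.surjective_of_injective (f := fun b : A => (⟨g * b * g⁻¹, hgA b b.2⟩ : A))
      (fun a b hab => Subtype.ext (mul_left_cancel (mul_right_cancel (congrArg Subtype.val hab)))) ⟨_, hy⟩
    have : z = y := mul_left_cancel (mul_right_cancel (congrArg Subtype.val hzy))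
    exact this ▸ hz
  letI : MulAction (zpowers g) A :=
    { smul := fun k a => ⟨(k : G) * a * (k : G)⁻¹, (mem_normalizer_iff.mp (hgn k.2) a).mp a.2⟩
      one_smul := fun a => Subtype.ext (by change ((1 : zpowers g) : G) * a * ((1 : zpowers g) : G)⁻¹ = a; simp)
      mul_smul := fun k l a => Subtype.ext (by
        change ((k * l : zpowers g) : G) * a * ((k * l : zpowers g) : G)⁻¹ =
          (k : G) * ((l : G) * a * (l : G)⁻¹) * (k : G)⁻¹
        simp [mul_assoc]) }
  have hP : IsPGroup p (zpowers g) := by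
    obtain ⟨i, -, hi⟩ := (Nat.dvd_prime_pow hp).mp
      (by rw [pow_one]; exact orderOf_dvd_of_pow_eq_one hg : orderOf g ∣ p ^ 1)
    exact IsPGroup.of_card (n := i) (by rw [Nat.card_zpowers, hi])
  have h1 := hP.card_modEq_card_fixedPoints A
  have hfp : MulAction.fixedPoints (zpowers g) A = {1} := by
    ext a
    rw [Set.mem_singleton_iff, MulAction.mem_fixedPoints]
    constructor
    · intro h
      exact Subtype.ext (hfix a a.2 (congrArg Subtype.val (h ⟨g, mem_zpowers g⟩)))
    · rintro rfl k
      exact Subtype.ext (show (k : G) * ((1 : A) : G) * (k : G)⁻¹ = 1 by simp)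
  rw [hfp, he] at h1
  simp only [Nat.card_eq_fintype_card, Fintype.card_unique] at h1
  have hmod : (q : ZMod p) ^ e = 1 := by
    have := (ZMod.natCast_eq_natCast_iff _ _ _).mpr h1
    push_cast at this
    exact this
  have he0 : e ≠ 0 := fun h => hA1 (card_eq_one.mp (by rw [he, h, pow_zero]))
  change Nat.card A ≤ _ at hle
  rw [he] at hle ⊢
  have h2 : e ≤ orderOf (q : ZMod p) := (Nat.pow_le_pow_iff_right hq.one_lt).mp hle
  have h3 : orderOf (q : ZMod p) ≤ e :=
    Nat.le_of_dvd (Nat.pos_of_ne_zero he0) (orderOf_dvd_of_pow_eq_one hmod)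
  rw [le_antisymm h2 h3]

end Cfsg.Agent.FG38
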