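import Cfsg.Agent.Lib.PComplement.GlaubermanThompson
import Cfsg.Agent.Lib.Transfer.Residual
import Cfsg.Agent.Lib.PGroup.Basic
import Cfsg.Agent.OddLocal43.RankTwoSolvable
import Cfsg.Agent.Lib.Fitting

/-!
# Normal subgroups whose non-central elements have maximal centralizers

`N` is normal in `G` and `C_G(x)` is maximal for every `x ∈ N` outside the centre of `N`.
The Frattini subgroup of `G` centralizes `N`; if `N` is not nilpotent, Glauberman-Thompson produces a
non-central normal `p`-subgroup and the elements of order prime to `p` act on it without fixed points.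
-/

set_option autoImplicit false

open Subgroup
open scoped commutatorElement

namespace Cfsg.Agent.FG38.MaxCent

variable {G : Type*} [Group G]

/-- The centre of `N` as a subgroup of `G`. -/
def zOf (N : Subgroup G) : Subgroup G := N ⊓ centralizer (N : Set G)

/-- The hypothesis. -/
def Hyp (N : Subgroup G) : Prop :=
  ∀ x : G, x ∈ N → x ∉ centralizer (N : Set G) → IsCoatom (centralizer ({x} : Set G))

/-- `x` has prime power order for `p`. -/
def IsPElem (p : ℕ) (x : G) : Prop := ∃ k : ℕ, x ^ p ^ k = 1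

theorem mem_zOf {N : Subgroup G} {x : G} : x ∈ zOf N ↔ x ∈ N ∧ ∀ a ∈ N, a * x = x * a :=
  mem_inf.trans (and_congr_right' mem_centralizer_iff)

instance zOf_normal (N : Subgroup G) [hN : N.Normal] : (zOf N).Normal := by
  unfold zOf
  infer_instance

theorem le_centralizer_singleton_iff {x : G} {S : Subgroup G} :
    S ≤ centralizer ({x} : Set G) ↔ x ∈ centralizer (S : Set G) := by
  simp only [SetLike.le_def, mem_centralizer_iff, Set.mem_singleton_iff, forall_eq, SetLike.mem_coe]
  exact ⟨fun h a ha => (h ha).symm, fun h a ha => (h a ha).symm⟩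

theorem centralizer_conj (g x : G) :
    centralizer ({g * x * g⁻¹} : Set G) = (centralizer ({x} : Set G)).map (MulAut.conj g).toMonoidHom := by
  ext a
  rw [mem_map_equiv, mem_centralizer_singleton_iff, mem_centralizer_singleton_iff, MulAut.conj_symm_apply]
  constructor
  · intro h
    calc g⁻¹ * a * g * x = g⁻¹ * (a * (g * x * g⁻¹)) * g := by group
      _ = _ := by rw [h]; group
  · intro h
    calc a * (g * x * g⁻¹) = g * (g⁻¹ * a * g * x) * g⁻¹ := by group
      _ = _ := by rw [h]; group

/-- A subgroup containing all elements of prime power order of `S` contains `S`. -/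
theorem le_of_prime_pow [Finite G] {S T : Subgroup G}
    (h : ∀ (q : ℕ), q.Prime → ∀ g ∈ S, IsPElem q g → g ∈ T) : S ≤ T := by
  rw [← subgroupOf_eq_top]
  exact OddLocal43.eq_top_of_prime_pow_mem fun q k hq g hg =>
    h q hq g g.2 ⟨k, by rw [← orderOf_dvd_iff_pow_eq_one, orderOf_coe, hg]⟩

variable [Finite G] {N : Subgroup G}

theorem coprime_of_pElem {p q : ℕ} (hp : p.Prime) (hq : q.Prime) (hpq : p ≠ q) {x y : G} (hx : IsPElem p x)
    (hy : IsPElem q y) : (orderOf x).Coprime (orderOf y) := by
  obtain ⟨i, hi⟩ := hx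
  obtain ⟨j, hj⟩ := hy
  exact (((Nat.coprime_primes hp hq).mpr hpq).pow i j).coprime_dvd_left (orderOf_dvd_of_pow_eq_one hi)
    |>.coprime_dvd_right (orderOf_dvd_of_pow_eq_one hj)

/-- An element of order prime to `p` whose prime power parts are central is central. -/
theorem mem_zOf_of_coprime {p : ℕ} {S : Subgroup G} (hS : S ≤ N) (hp : p.Prime)
    (h : ∀ q : ℕ, q.Prime → q ≠ p → ∀ w ∈ S, IsPElem q w → w ∈ zOf N) {u : G} (hu : u ∈ S)
    (hcop : ¬ p ∣ orderOf u) : u ∈ zOf N := by
  refine (le_of_prime_pow (S := zpowers u) (T := zOf N) fun q hq g hg hgq => ?_) (mem_zpowers u)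
  by_cases hg1 : g = 1
  · exact hg1 ▸ one_mem _
  refine h q hq ?_ g ((zpowers_le.mpr hu) hg) hgq
  rintro rfl
  obtain ⟨k, hk⟩ := hgq
  obtain ⟨i, -, hi⟩ := (Nat.dvd_prime_pow hq).mp (orderOf_dvd_of_pow_eq_one hk)
  rcases Nat.eq_zero_or_pos i with h0 | h0
  · exact hg1 (orderOf_eq_one_iff.mp (by rw [hi, h0, pow_zero]))
  · exact hcop ((hi ▸ dvd_pow_self q h0.ne').trans
      ((Subgroup.orderOf_dvd_natCard _ hg).trans (Nat.card_zpowers u).dvd))

/-- If the elements of order prime to `p` of `S` are central, `S` modulo that centre is a `p`-group. -/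
theorem exists_pow_mem_zOf {p : ℕ} {S : Subgroup G} (hS : S ≤ N) (hp : p.Prime)
    (h : ∀ q : ℕ, q.Prime → q ≠ p → ∀ w ∈ S, IsPElem q w → w ∈ zOf N) {u : G} (hu : u ∈ S) :
    ∃ a : ℕ, u ^ p ^ a ∈ zOf N := by
  obtain ⟨a, m, hm, ho⟩ := Nat.exists_eq_pow_mul_and_not_dvd (orderOf_pos u).ne' p hp.ne_one
  refine ⟨a, mem_zOf_of_coprime hS hp h (pow_mem hu _) ?_⟩
  rw [orderOf_pow' _ (pow_ne_zero _ hp.ne_zero), ho, Nat.gcd_mul_right_left, Nat.mul_div_cancel_left _ (pow_pos hp.pos _)]
  exact hm

theorem isNilpotent_of_central {p : ℕ} (hp : p.Prime) {S : Subgroup G} (hS : S ≤ N)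
    (h : ∀ q : ℕ, q.Prime → q ≠ p → ∀ w ∈ S, IsPElem q w → w ∈ zOf N) : Group.IsNilpotent ↥S := by
  haveI := Fact.mk hp
  apply Group.of_quotient_center_nilpotent
  refine IsPGroup.isNilpotent (p := p) fun x => ?_
  induction x using QuotientGroup.induction_on with
  | _ u =>
    obtain ⟨a, ha⟩ := exists_pow_mem_zOf hS hp h u.2
    refine ⟨a, ?_⟩
    rw [← QuotientGroup.mk_pow, QuotientGroup.eq_one_iff, mem_center_iff]
    exact fun v => Subtype.ext ((mem_zOf.mp ha).2 v (hS v.2))

theorem centralizer_eq_of_le (h : Hyp N) {x w : G} (hx : x ∈ N) (hxz : x ∉ zOf N) (hw : w ∈ N) (hwz : w ∉ zOf N)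
    (hle : centralizer ({x} : Set G) ≤ centralizer {w}) : centralizer ({x} : Set G) = centralizer {w} :=
  ((h x hx fun hc => hxz ⟨hx, hc⟩).le_iff.mp hle).resolve_left
    (fun e => (h w hw fun hc => hwz ⟨hw, hc⟩).1 e) |>.symm

/-- Commuting non-central elements of coprime order have the same centralizer. -/
theorem centralizer_eq_of_coprime (h : Hyp N) {x y : G} (hx : x ∈ N) (hxz : x ∉ zOf N) (hy : y ∈ N)
    (hyz : y ∉ zOf N) (hc : Commute x y) (hcop : (orderOf x).Coprime (orderOf y)) :
    centralizer ({x} : Set G) = centralizer {y} := by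
  have key : ∀ a b : G, Commute a b → (orderOf a).Coprime (orderOf b) → a ∈ zpowers (a * b) := by
    intro a b hab hcop'
    obtain ⟨u, v, huv⟩ := Nat.isCoprime_iff_coprime.mpr hcop'
    refine ⟨v * orderOf b, ?_⟩
    show (a * b) ^ (v * (orderOf b : ℤ)) = a
    rw [hab.mul_zpow, mul_comm v, zpow_mul b, zpow_natCast, pow_orderOf_eq_one, one_zpow, mul_one,
      show (orderOf b : ℤ) * v = 1 + (orderOf a : ℤ) * (-u) by linear_combination huv, zpow_add, zpow_one,
      zpow_mul, zpow_natCast, pow_orderOf_eq_one, one_zpow, mul_one]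
  have hle : ∀ a b : G, a ∈ zpowers b → centralizer ({b} : Set G) ≤ centralizer {a} := by
    intro a b hab g hg
    obtain ⟨i, rfl⟩ := mem_zpowers_iff.mp hab
    exact mem_centralizer_singleton_iff.mpr (Commute.zpow_right (mem_centralizer_singleton_iff.mp hg) i).eq
  have hmem : x * y ∈ N := mul_mem hx hy
  have hz : x * y ∉ zOf N := fun hz => hxz (zpowers_le.mpr hz (key x y hc hcop))
  have hyk : y ∈ zpowers (x * y) := hc.eq ▸ key y x hc.symm hcop.symm
  exact (centralizer_eq_of_le h hmem hz hx hxz (hle _ _ (key x y hc hcop))).symm.trans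
    (centralizer_eq_of_le h hmem hz hy hyz (hle _ _ hyk))

/-- Centralizers in `N` of non-central `p`-elements are nilpotent. -/
theorem isNilpotent_centralizer (h : Hyp N) {p : ℕ} (hp : p.Prime) {x : G} (hx : x ∈ N) (hxz : x ∉ zOf N)
    (hxp : IsPElem p x) : Group.IsNilpotent ↥(N ⊓ centralizer ({x} : Set G)) := by
  set S := N ⊓ centralizer ({x} : Set G) with hS
  by_cases hy : ∃ q : ℕ, q.Prime ∧ q ≠ p ∧ ∃ y ∈ S, IsPElem q y ∧ y ∉ zOf N
  · obtain ⟨q, hq, hqp, y, hyS, hyq, hyz⟩ := hy
    have hcy : centralizer ({y} : Set G) = centralizer {x} :=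
      centralizer_eq_of_coprime h hyS.1 hyz hx hxz (mem_centralizer_singleton_iff.mp hyS.2)
        (coprime_of_pElem hq hp hqp hyq hxp)
    have hle : S ≤ centralizer (S : Set G) := by
      refine le_of_prime_pow fun r hr w hw hwr => ?_
      rw [← le_centralizer_singleton_iff]
      by_cases hwz : w ∈ zOf N
      · intro a ha
        exact mem_centralizer_singleton_iff.mpr ((mem_zOf.mp hwz).2 a ha.1)
      have hcw : centralizer ({w} : Set G) = centralizer {x} := by
        by_cases hrp : r = p
        · rw [← hcy]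
          exact centralizer_eq_of_coprime h hw.1 hwz hyS.1 hyz
            (mem_centralizer_singleton_iff.mp (hcy ▸ hw.2)) (coprime_of_pElem hr hq (hrp ▸ hqp.symm) hwr hyq)
        · exact centralizer_eq_of_coprime h hw.1 hwz hx hxz (mem_centralizer_singleton_iff.mp hw.2)
            (coprime_of_pElem hr hp hrp hwr hxp)
      rw [hcw]
      exact inf_le_right
    haveI : IsMulCommutative ↥S := le_centralizer_iff_isMulCommutative.mp hle
    letI : CommGroup ↥S := { mul_comm := fun a b => mul_comm' a b }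
    exact CommGroup.isNilpotent
  · push Not at hy
    exact isNilpotent_of_central hp inf_le_left hy

/-- The Frattini subgroup centralizes `N`. -/
theorem frattini_le_centralizer (h : Hyp N) (hN : ¬ N ≤ centralizer (N : Set G)) :
    frattini G ≤ centralizer (N : Set G) := by
  rw [le_centralizer_iff]
  intro x hx
  rw [← le_centralizer_singleton_iff]
  by_cases hxz : x ∈ zOf N
  · obtain ⟨y, hy, hyc⟩ := SetLike.not_le_iff_exists.mp hN
    have hxy : x * y ∉ zOf N := fun hz => hyc ((zOf N).mul_mem_cancel_left hxz |>.mp hz).2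
    intro f hf
    have h1 := frattini_le_coatom (h (x * y) (mul_mem hx hy) fun hc => hxy ⟨mul_mem hx hy, hc⟩) hf
    have h2 := frattini_le_coatom (h y hy hyc) hf
    rw [mem_centralizer_singleton_iff] at h1 h2 ⊢
    have : f * x * y = x * f * y := by
      rw [mul_assoc, h1, mul_assoc x y, ← h2, ← mul_assoc]
    exact mul_right_cancel this
  · exact frattini_le_coatom (h x hx fun hc => hxz ⟨hx, hc⟩)

end Cfsg.Agent.FG38.MaxCent
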