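import Cfsg.Agent.FG38.MaxCentralizerStructure
import Cfsg.Prelude.Def_Solvable

/-!
# Normal subgroups whose non-central elements have maximal centralizers: the two cases
-/

set_option autoImplicit false

open Subgroup
open scoped commutatorElement

namespace Cfsg.Agent.FG38.MaxCent

universe u
variable {G : Type u} [Group G] [Finite G] {N : Subgroup G}

/-- The nilpotent case: commutators and `p`-th powers are central. -/
theorem nilpotent_case [hNn : N.Normal] (h : Hyp N) (hN : ¬ N ≤ centralizer (N : Set G))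
    (hnil : Group.IsNilpotent ↥N) :
    ∃ p : ℕ, p.Prime ∧ ∀ a ∈ N, ∀ b ∈ N, ⁅a, b⁆ ∈ zOf N ∧ a ^ p ∈ zOf N := by
  obtain ⟨p, hp, hc⟩ := exists_prime_of_nilpotent h hnil
  haveI := Fact.mk hp
  obtain ⟨P⟩ := (inferInstance : Nonempty (Sylow p ↥N))
  haveI := Transfer.nilpotent_sylow_normal hnil P
  haveI := P.characteristic_of_normal inferInstance
  set E := (P : Subgroup ↥N).map N.subtype with hE
  haveI : E.Normal := inferInstance
  have hEN : E ≤ N := map_subtype_le _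
  have hEp : IsPGroup p E := P.isPGroup'.map _
  have hle : N ≤ E ⊔ zOf N := by
    refine le_of_prime_pow fun q hq g hg hgq => ?_
    by_cases hqp : q = p
    · subst hqp
      obtain ⟨R, hR⟩ := (hgq.isPGroup.of_equiv (subgroupOfEquivOfLe (zpowers_le.mpr hg)).symm).exists_le_sylow
      haveI := (Sylow.unique_of_normal P inferInstance).instSubsingleton
      rw [Subsingleton.elim R P] at hR
      exact mem_sup_left ⟨⟨g, hg⟩, hR (mem_subgroupOf.mpr (mem_zpowers g)), rfl⟩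
    · exact mem_sup_right (hc q hq hqp g hg hgq)
  refine ⟨p, hp, fun a ha b hb => ?_⟩
  obtain ⟨e, he, c, hcz, rfl⟩ := mem_sup_of_normal_right.mp (hle ha)
  obtain ⟨e', he', c', hcz', rfl⟩ := mem_sup_of_normal_right.mp (hle hb)
  obtain ⟨h1, h2⟩ := comm_mem_zOf h hN hEN hEp he he'
  have k1 : ∀ v ∈ N, Commute v c := fun v hv => (mem_zOf.mp hcz).2 v hv
  have k2 : ∀ v ∈ N, Commute v c' := fun v hv => (mem_zOf.mp hcz').2 v hv
  constructor
  · have : ⁅e * c, e' * c'⁆ = ⁅e, e'⁆ := by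
      simp only [commutatorElement_def, mul_inv_rev]
      calc e * c * (e' * c') * (c⁻¹ * e⁻¹) * (c'⁻¹ * e'⁻¹)
          = e * (c * (e' * c')) * c⁻¹ * e⁻¹ * c'⁻¹ * e'⁻¹ := by group
        _ = e * e' * (c' * e⁻¹) * c'⁻¹ * e'⁻¹ := by rw [← (k1 _ hb).eq]; group
        _ = e * e' * e⁻¹ * e'⁻¹ := by rw [← (k2 _ (inv_mem (hEN he))).eq]; group
    exact this ▸ h1
  · rw [(k1 e (hEN he)).mul_pow]
    exact mul_mem h2 (pow_mem hcz p)

/-- A non-central prime power element generates everything modulo `E ⊔ Z`. -/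
theorem le_sup_zpowers [hNn : N.Normal] (h : Hyp N) (hN : ¬ N ≤ centralizer (N : Set G)) {p q : ℕ} (hp : p.Prime)
    {E : Subgroup G} [hEn : E.Normal] (hEN : E ≤ N) (hEp : IsPGroup p E) (hEz : ¬ E ≤ zOf N)
    (hall : ∀ g ∈ N, IsPElem p g → g ∈ E) (hq : q.Prime) (hqp : q ≠ p) {y : G} (hy : y ∈ N) (hyq : IsPElem q y)
    (hyz : y ∉ zOf N) : N ≤ E ⊔ zOf N ⊔ zpowers y := by
  obtain ⟨z, hz, hzz⟩ := SetLike.not_le_iff_exists.mp hEz
  have hzN := hEN hz
  set B := E ⊔ zOf N ⊔ zpowers y with hB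
  have hC : N ⊓ centralizer ({z} : Set G) ≤ E ⊔ zOf N := by
    refine le_of_prime_pow fun r hr w hw hwr => ?_
    by_cases hrp : r = p
    · exact mem_sup_left (hall w hw.1 (hrp ▸ hwr))
    · by_cases hwz : w ∈ zOf N
      · exact mem_sup_right hwz
      · exact absurd ((fixedPointFree h hp hr hrp hEN hEp hN hEz hw.1 hwr hwz).1 z hz
          (show Commute z w from (mem_centralizer_singleton_iff.mp hw.2).symm)) hzz
  have hyc : y ∉ centralizer ({z} : Set G) := fun hc => hzz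
    ((fixedPointFree h hp hq hqp hEN hEp hN hEz hy hyq hyz).1 z hz
      (show Commute z y from (mem_centralizer_singleton_iff.mp hc).symm))
  have hconj : ∀ g : G, g * y * g⁻¹ ∈ B := by
    intro g
    obtain ⟨m, hm, e, he, rfl⟩ := mem_sup_of_normal_right.mp
      ((fixedPointFree h hp hq hqp hEN hEp hN hEz hy hyq hyz).2.ge (mem_top g))
    have hm' : m * y = y * m := mem_centralizer_singleton_iff.mp hm
    have : m * e * y * (m * e)⁻¹ = (m * (e * (y * e⁻¹ * y⁻¹)) * m⁻¹) * y :=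
      calc m * e * y * (m * e)⁻¹ = m * (e * (y * e⁻¹ * y⁻¹)) * (y * m⁻¹) := by group
        _ = m * (e * (y * e⁻¹ * y⁻¹)) * (m⁻¹ * (m * y) * m⁻¹) := by group
        _ = _ := by rw [hm']; group
    rw [this]
    refine mul_mem (mem_sup_left (mem_sup_left ?_)) (mem_sup_right (mem_zpowers y))
    exact hEn.conj_mem _ (mul_mem he (hEn.conj_mem _ (inv_mem he) y)) m
  haveI hBn : B.Normal := by
    refine ⟨fun b hb g => ?_⟩
    have : B ≤ B.comap (MulAut.conj g).toMonoidHom := by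
      refine sup_le (fun v hv => ?_) (zpowers_le.mpr (hconj g))
      exact mem_comap.mpr (mem_sup_left ((inferInstance : (E ⊔ zOf N).Normal).conj_mem v hv g))
    exact this hb
  have hBN : B ≤ N := sup_le (sup_le hEN inf_le_left) (zpowers_le.mpr hy)
  have hM := h z hzN fun hc => hzz ⟨hzN, hc⟩
  have htop : centralizer ({z} : Set G) ⊔ B = ⊤ := hM.2 _ (lt_of_le_of_ne le_sup_left fun e =>
    hyc (e.ge (mem_sup_right (mem_sup_right (mem_zpowers y)))))
  intro v hv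
  obtain ⟨m, hm, b, hb, rfl⟩ := mem_sup_of_normal_right.mp (htop.ge (mem_top v))
  exact mul_mem (mem_sup_left (hC (mem_inf.mpr ⟨((N.mul_mem_cancel_right (hBN hb)).mp hv), hm⟩))) hb

/-- The non-nilpotent case. -/
theorem not_nilpotent_case [hNn : N.Normal] (h : Hyp N) (hN : ¬ N ≤ centralizer (N : Set G))
    (hnil : ¬ Group.IsNilpotent ↥N) :
    ∃ (p q : ℕ) (E : Subgroup G) (y : G), p.Prime ∧ q.Prime ∧ q ≠ p ∧ E.Normal ∧ E ≤ N ∧ IsPGroup p E ∧
      ¬ E ≤ zOf N ∧ y ∈ N ∧ y ∉ zOf N ∧ y ^ q ∈ zOf N ∧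
      (∀ a ∈ E, ∀ b ∈ E, ⁅a, b⁆ ∈ zOf N ∧ a ^ p ∈ zOf N) ∧
      (∀ v ∈ N, ∃ e ∈ E, ∃ c ∈ zOf N, ∃ i : ℤ, v = e * c * y ^ i) ∧
      (∀ e ∈ E, ⁅e, y⁆ ∈ zOf N → e ∈ zOf N) := by
  obtain ⟨p, E₀, hp, hE₀n, hE₀N, hE₀p, hE₀z⟩ := exists_normal_pSubgroup h hnil
  haveI := Fact.mk hp
  obtain ⟨P, hP⟩ := (hE₀p.of_equiv (subgroupOfEquivOfLe hE₀N).symm).exists_le_sylow
  set E := (P : Subgroup ↥N).map N.subtype with hEdef
  have hE₀E : E₀ ≤ E := fun a ha => ⟨⟨a, hE₀N ha⟩, hP (mem_subgroupOf.mpr ha), rfl⟩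
  haveI hPn : (P : Subgroup ↥N).Normal := by
    rw [← normalizer_eq_top_iff, ← index_eq_one]
    by_contra hne
    obtain ⟨r, hr, hdvd⟩ := Nat.exists_prime_and_dvd hne
    haveI := Fact.mk hr
    by_cases hrp : r = p
    · have h2 := hdvd.trans (index_dvd_of_le (le_normalizer (H := (P : Subgroup ↥N))))
      rw [hrp] at h2
      exact P.not_dvd_index h2
    obtain ⟨Q⟩ := (inferInstance : Nonempty (Sylow r ↥N))
    refine Q.not_dvd_index (hdvd.trans (index_dvd_of_le fun v hv => ?_))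
    have hvr : IsPElem r (v : G) := by
      obtain ⟨k, hk⟩ := isPElem_of_mem Q.isPGroup' hv
      exact ⟨k, congrArg Subtype.val hk⟩
    have key : ∀ a ∈ (P : Subgroup ↥N), v * a * v⁻¹ ∈ (P : Subgroup ↥N) := by
      intro a ha
      by_cases hvz : (v : G) ∈ zOf N
      · have : v * a * v⁻¹ = a := Subtype.ext (by
          simp only [Subgroup.coe_mul, Subgroup.coe_inv]
          rw [← (mem_zOf.mp hvz).2 a a.2]; group)
        rwa [this]
      · obtain ⟨m, hm, e, he, hme⟩ := mem_sup_of_normal_right.mp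
          ((fixedPointFree h hp hr hrp hE₀N hE₀p hN hE₀z v.2 hvr hvz).2.ge (mem_top (a : G)))
        have hm' : m * (v : G) = v * m := mem_centralizer_singleton_iff.mp hm
        have h1 : (v : G) * (a : G) * (v : G)⁻¹ = (a : G) * (e⁻¹ * ((v : G) * e * (v : G)⁻¹)) := by
          rw [← hme]
          calc (v : G) * (m * e) * (v : G)⁻¹ = ((v : G) * m) * (e * (v : G)⁻¹) := by group
            _ = _ := by rw [← hm']; group
        obtain ⟨w, hw, hwe⟩ := hE₀E (mul_mem (inv_mem he) (hE₀n.conj_mem e he (v : G)))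
        have : v * a * v⁻¹ = a * w := Subtype.ext (by
          simp only [Subgroup.coe_mul, Subgroup.coe_inv]
          rw [h1, ← hwe]; rfl)
        rw [this]
        exact mul_mem ha hw
    rw [mem_normalizer_iff_map_conj_eq]
    refine eq_of_le_of_card_ge ?_ (le_of_eq (card_map_of_injective (MulAut.conj v).injective).symm)
    rintro _ ⟨a, ha, rfl⟩
    exact key a ha
  haveI := P.characteristic_of_normal hPn
  haveI hEn : E.Normal := inferInstance
  have hEN : E ≤ N := map_subtype_le _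
  have hEp : IsPGroup p E := P.isPGroup'.map _
  have hEz : ¬ E ≤ zOf N := fun hle => hE₀z (hE₀E.trans hle)
  have hall : ∀ g ∈ N, IsPElem p g → g ∈ E := by
    intro g hg hgp
    obtain ⟨R, hR⟩ := (hgp.isPGroup.of_equiv (subgroupOfEquivOfLe (zpowers_le.mpr hg)).symm).exists_le_sylow
    haveI := (Sylow.unique_of_normal P hPn).instSubsingleton
    rw [Subsingleton.elim R P] at hR
    exact ⟨⟨g, hg⟩, hR (mem_subgroupOf.mpr (mem_zpowers g)), rfl⟩
  obtain ⟨q, hq, hqp, y, hy, hyq, hyz⟩ :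
      ∃ q : ℕ, q.Prime ∧ q ≠ p ∧ ∃ y ∈ N, IsPElem q y ∧ y ∉ zOf N := by
    by_contra hex
    push Not at hex
    exact hnil (isNilpotent_of_central hp le_rfl hex)
  have hgen : ∀ {x : G}, x ∈ N → IsPElem q x → x ∉ zOf N → ∀ v ∈ N,
      ∃ e ∈ E, ∃ c ∈ zOf N, ∃ i : ℤ, v = e * c * x ^ i := by
    intro x hx hxq hxz v hv
    obtain ⟨s, hs, t, ht, rfl⟩ := mem_sup_of_normal_left.mp
      (le_sup_zpowers h hN hp hEN hEp hEz hall hq hqp hx hxq hxz hv)
    obtain ⟨e, he, c, hc, rfl⟩ := mem_sup_of_normal_right.mp hs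
    obtain ⟨i, rfl⟩ := mem_zpowers_iff.mp ht
    exact ⟨e, he, c, hc, i, rfl⟩
  obtain ⟨j, hj⟩ := hyq
  have hyqz : y ^ q ∈ zOf N := by
    by_contra hne
    obtain ⟨e, he, c, hc, i, hi⟩ :=
      hgen (pow_mem hy q) ⟨j, by rw [← pow_mul, mul_comm, pow_mul, hj, one_pow]⟩ hne y hy
    obtain ⟨k, hk⟩ := isPElem_of_mem hEp he
    -- `y ^ (1 - q i)` is `e c`, with central `p ^ k`-th power
    have h1 : y ^ ((1 : ℤ) - q * i) = e * c := by
      rw [zpow_sub, zpow_one, zpow_mul, zpow_natCast]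
      exact mul_inv_eq_iff_eq_mul.mpr hi
    have h2 : (y ^ ((1 : ℤ) - q * i)) ^ p ^ k ∈ zOf N := by
      rw [h1, (show Commute e c from (mem_zOf.mp hc).2 e (hEN he)).mul_pow, hk, one_mul]
      exact pow_mem hc _
    rw [← zpow_natCast, ← zpow_mul] at h2
    have hcop : IsCoprime (((1 : ℤ) - q * i) * ((p ^ k : ℕ) : ℤ)) ((q ^ j : ℕ) : ℤ) := by
      refine IsCoprime.mul_left ?_ (Nat.isCoprime_iff_coprime.mpr (((Nat.coprime_primes hp hq).mpr hqp.symm).pow k j))
      rw [Nat.cast_pow]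
      exact (show IsCoprime ((1 : ℤ) - q * i) (q : ℤ) from ⟨1, i, by ring⟩).pow_right
    obtain ⟨a, b, hab⟩ := hcop
    have := zpow_mem h2 a
    rw [← zpow_mul, show ((1 : ℤ) - q * i) * ((p ^ k : ℕ) : ℤ) * a = 1 - b * ((q ^ j : ℕ) : ℤ) by
      linear_combination hab, zpow_sub, zpow_one, mul_comm b, zpow_mul, zpow_natCast, hj, one_zpow, inv_one,
      mul_one] at this
    exact hyz this
  refine ⟨p, q, E, y, hp, hq, hqp, hEn, hEN, hEp, hEz, hy, hyz, hyqz, fun a ha b hb => comm_mem_zOf h hN hEN hEp ha hb,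
    fun v hv => hgen hy ⟨j, hj⟩ hyz v hv, fun e he hc => ?_⟩
  refine (fixedPointFree h hp hq hqp hEN hEp hN hEz hy ⟨j, hj⟩ hyz).1 e he ?_
  set c := ⁅e, y⁆ with hcdef
  have hcy : Commute c y := ((mem_zOf.mp hc).2 y hy).symm
  have h1 : e * y * e⁻¹ = c * y := by rw [hcdef, commutatorElement_def]; group
  have h2 : c ^ q = 1 := by
    have h3 : (e * y * e⁻¹) ^ q = y ^ q := by
      rw [conj_pow, (mem_zOf.mp hyqz).2 e (hEN he)]; group
    rw [h1, hcy.mul_pow] at h3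
    exact mul_eq_right.mp h3
  have hcE : c ∈ E := by
    rw [hcdef, commutatorElement_def, show e * y * e⁻¹ * y⁻¹ = e * (y * e⁻¹ * y⁻¹) by group]
    exact mul_mem he (hEn.conj_mem _ (inv_mem he) y)
  obtain ⟨l, hl⟩ := isPElem_of_mem hEp hcE
  have hc1 : c = 1 := orderOf_eq_one_iff.mp (Nat.eq_one_of_dvd_coprimes
    (((Nat.coprime_primes hp hq).mpr hqp.symm).pow_left l) (orderOf_dvd_of_pow_eq_one hl)
    (orderOf_dvd_of_pow_eq_one h2))
  exact commutatorElement_eq_one_iff_mul_comm.mp (hcdef ▸ hc1)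

/-- The core consequence: a Frobenius structure modulo a central subgroup. -/
theorem frobenius_quotient {H : Type u} [Group H] [Finite H] {p q : ℕ} (hp : p.Prime) (hq : q.Prime) (hqp : q ≠ p)
    (K : Subgroup H) [K.Normal] (hK : IsPGroup p K) (y : H) (hy1 : y ≠ 1) (hyq : y ^ q = 1)
    (hgen : ∀ v : H, ∃ k ∈ K, ∃ i : ℤ, v = k * y ^ i) (hfpf : ∀ k ∈ K, Commute k y → k = 1) :
    IsComplement' K (zpowers y) ∧ Nat.card ↥(zpowers y) = q ∧
      (∀ k ∈ K, ∀ t ∈ zpowers y, Commute k t → k = 1 ∨ t = 1) := by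
  haveI := Fact.mk hq
  have ho : orderOf y = q := orderOf_eq_prime hyq hy1
  have hcard : Nat.card ↥(zpowers y) = q := by rw [Nat.card_zpowers, ho]
  refine ⟨isComplement'_of_disjoint_and_mul_eq_univ ?_ ?_, hcard, fun k hk t ht hc => ?_⟩
  · haveI := Fact.mk hp
    obtain ⟨a, ha⟩ := IsPGroup.iff_card.mp hK
    exact disjoint_iff.mpr (inf_eq_bot_of_coprime (by
      rw [hcard, ha]; exact ((Nat.coprime_primes hp hq).mpr hqp.symm).pow_left a))
  · refine Set.eq_univ_of_forall fun v => ?_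
    obtain ⟨k, hk, i, rfl⟩ := hgen v
    exact Set.mul_mem_mul hk (zpow_mem (mem_zpowers y) i)
  · by_cases ht1 : t = 1
    · exact Or.inr ht1
    refine Or.inl (hfpf k hk ?_)
    have : zpowers t = zpowers y := zpowers_eq_of_prime_card hq hcard ht ht1
    obtain ⟨l, hl⟩ := mem_zpowers_iff.mp (this.ge (mem_zpowers y))
    exact hl ▸ hc.zpow_right l
where
  zpowers_eq_of_prime_card {H : Type u} [Group H] [Finite H] {q : ℕ} {T : Subgroup H} {t : H} (hq : q.Prime)
      (hT : Nat.card ↥T = q) (ht : t ∈ T) (ht1 : t ≠ 1) : zpowers t = T := by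
    refine eq_of_le_of_card_ge (zpowers_le.mpr ht) ?_
    rw [hT, Nat.card_zpowers]
    have := (Nat.dvd_prime hq).mp (hT ▸ Subgroup.orderOf_dvd_natCard T ht)
    rcases this with h1 | h1
    · exact absurd (orderOf_eq_one_iff.mp h1) ht1
    · exact h1.ge

end Cfsg.Agent.FG38.MaxCent
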