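import Cfsg.Agent.FG38.MaxCentralizer
import Cfsg.Agent.Lib.Frobenius.Thompson

/-!
# Structure of normal subgroups whose non-central elements have maximal centralizers
-/

set_option autoImplicit false

open Subgroup
open scoped commutatorElement

namespace Cfsg.Agent.FG38.MaxCent

universe u
variable {G : Type u} [Group G] [Finite G] {N : Subgroup G}

theorem IsPElem.conj {p : ℕ} {x : G} (h : IsPElem p x) (g : G) : IsPElem p (g * x * g⁻¹) := by
  obtain ⟨k, hk⟩ := h
  exact ⟨k, by rw [conj_pow, hk, mul_one, mul_inv_cancel]⟩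

theorem IsPElem.isPGroup {p : ℕ} {x : G} (h : IsPElem p x) : IsPGroup p (zpowers x) := by
  obtain ⟨k, hk⟩ := h
  intro a
  refine ⟨k, Subtype.ext ?_⟩
  obtain ⟨i, hi⟩ := mem_zpowers_iff.mp a.2
  rw [SubmonoidClass.coe_pow, OneMemClass.coe_one, ← hi, ← zpow_natCast, ← zpow_mul, mul_comm, zpow_mul,
    zpow_natCast, hk, one_zpow]

theorem isPElem_of_mem {p : ℕ} {E : Subgroup G} (hE : IsPGroup p E) {x : G} (hx : x ∈ E) : IsPElem p x := by
  obtain ⟨k, hk⟩ := hE ⟨x, hx⟩
  exact ⟨k, congrArg Subtype.val hk⟩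

/-- The Frattini subgroup of a normal subgroup lies in the Frattini subgroup. -/
theorem map_frattini_le (E : Subgroup G) [E.Normal] : (frattini ↥E).map E.subtype ≤ frattini G := by
  haveI : (frattini ↥E).Characteristic := frattini_characteristic
  simp only [frattini, Order.radical, le_iInf_iff]
  intro M hM
  by_contra hle
  set F := (frattini ↥E).map E.subtype with hF
  have htop : M ⊔ F = ⊤ := hM.2 _ (lt_of_le_of_ne le_sup_left fun e => hle (e ▸ le_sup_right))
  have h2 : M.subgroupOf E ⊔ frattini ↥E = ⊤ := by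
    refine eq_top_iff.mpr fun e _ => ?_
    haveI : F.Normal := inferInstance
    obtain ⟨m, hm, f, hf, he⟩ := mem_sup_of_normal_right.mp (htop.ge (mem_top (e : G)))
    obtain ⟨f', hf', hff⟩ := hf
    have hmE : m ∈ E := by
      have : m = (e : G) * f⁻¹ := by rw [← he, mul_inv_cancel_right]
      rw [this, ← hff]; exact mul_mem e.2 (inv_mem f'.2)
    have : e = ⟨m, hmE⟩ * f' := Subtype.ext (by rw [← he, ← hff]; rfl)
    rw [this]
    exact mul_mem_sup (mem_subgroupOf.mpr hm) hf'
  have h3 : E ≤ M := subgroupOf_eq_top.mp (frattini_nongenerating h2)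
  exact hle ((map_subtype_le _).trans h3)

theorem comm_mem_zOf (h : Hyp N) (hN : ¬ N ≤ centralizer (N : Set G)) {p : ℕ} [Fact p.Prime] {E : Subgroup G}
    [E.Normal] (hEN : E ≤ N) (hEp : IsPGroup p E) {a b : G} (ha : a ∈ E) (hb : b ∈ E) :
    ⁅a, b⁆ ∈ zOf N ∧ a ^ p ∈ zOf N := by
  constructor
  · have hab : ⁅a, b⁆ ∈ N := by
      rw [commutatorElement_def]
      exact mul_mem (mul_mem (mul_mem (hEN ha) (hEN hb)) (inv_mem (hEN ha))) (inv_mem (hEN hb))
    refine mem_inf.mpr ⟨hab, frattini_le_centralizer h hN (map_frattini_le E ?_)⟩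
    exact ⟨⁅(⟨a, ha⟩ : E), ⟨b, hb⟩⁆, PGroup.comm_mem_frattini hEp _ _, rfl⟩
  · exact ⟨pow_mem (hEN ha) p, frattini_le_centralizer h hN (map_frattini_le E
      ⟨(⟨a, ha⟩ : E) ^ p, PGroup.pow_mem_frattini hEp _, rfl⟩)⟩

/-- A nilpotent `N`: only one prime is non-central. -/
theorem exists_prime_of_nilpotent (h : Hyp N) (hnil : Group.IsNilpotent ↥N) :
    ∃ p : ℕ, p.Prime ∧ ∀ q : ℕ, q.Prime → q ≠ p → ∀ w ∈ N, IsPElem q w → w ∈ zOf N := by
  by_cases hex : ∃ (p : ℕ) (x : G), p.Prime ∧ x ∈ N ∧ IsPElem p x ∧ x ∉ zOf N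
  · obtain ⟨p, x, hp, hx, hxp, hxz⟩ := hex
    refine ⟨p, hp, fun q hq hqp w hw hwq => ?_⟩
    by_contra hwz
    have hcomm : ∀ {a b : G}, a ∈ N → b ∈ N → (orderOf a).Coprime (orderOf b) → Commute a b :=
      fun {a b} ha hb hc => congrArg Subtype.val
        (Transfer.nilpotent_commute_of_coprime hnil (x := (⟨a, ha⟩ : N)) (y := ⟨b, hb⟩)
          (by rwa [← orderOf_coe, ← orderOf_coe])).eq
    have hwx := centralizer_eq_of_coprime h hw hwz hx hxz (hcomm hw hx (coprime_of_pElem hq hp hqp hwq hxp))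
      (coprime_of_pElem hq hp hqp hwq hxp)
    have hle : N ≤ centralizer ({x} : Set G) := by
      refine le_of_prime_pow fun r hr v hv hvr => ?_
      by_cases hvz : v ∈ zOf N
      · exact mem_centralizer_singleton_iff.mpr (((mem_zOf.mp hvz).2 x hx).symm)
      by_cases hrp : r = p
      · have hc := hcomm hv hw (coprime_of_pElem hr hq (hrp ▸ hqp.symm) hvr hwq)
        have := centralizer_eq_of_coprime h hv hvz hw hwz hc (coprime_of_pElem hr hq (hrp ▸ hqp.symm) hvr hwq)
        rw [← hwx, ← this]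
        exact mem_centralizer_singleton_iff.mpr rfl
      · exact mem_centralizer_singleton_iff.mpr (hcomm hv hx (coprime_of_pElem hr hp hrp hvr hxp)).eq
    exact hxz ⟨hx, le_centralizer_singleton_iff.mp hle⟩
  · push Not at hex
    exact ⟨2, Nat.prime_two, fun q hq _ w hw hwq => hex q w hq hw hwq⟩

/-- Every prime power element centralising coprime ones gives a nilpotent group. -/
theorem isNilpotent_of_commute {H : Type*} [Group H] [Finite H]
    (hc : ∀ p q : ℕ, p.Prime → q.Prime → p ≠ q → ∀ a b : H, IsPElem p a → IsPElem q b → Commute a b) :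
    Group.IsNilpotent H := by
  refine ((Group.isNilpotent_of_finite_tfae (G := H)).out 0 3).mpr ?_
  intro p hp P
  rw [← normalizer_eq_top_iff, ← index_eq_one]
  by_contra hne
  obtain ⟨q, hq, hdvd⟩ := Nat.exists_prime_and_dvd hne
  have hpP : ¬ p ∣ (normalizer ((P : Subgroup H) : Set H)).index := fun hd =>
    P.not_dvd_index (hd.trans (index_dvd_of_le le_normalizer))
  have hqp : q ≠ p := fun e => hpP (e ▸ hdvd)
  haveI := Fact.mk hq
  obtain ⟨Q⟩ := (inferInstance : Nonempty (Sylow q H))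
  refine Q.not_dvd_index (hdvd.trans (index_dvd_of_le fun b hb => ?_))
  refine centralizer_le_normalizer _ (mem_centralizer_iff.mpr fun a ha => ?_)
  exact (hc p q hp.out hq hqp.symm a b (isPElem_of_mem P.isPGroup' ha) (isPElem_of_mem Q.isPGroup' hb)).eq

/-- Under the assumption that every normal `p`-subgroup in `N` is central, so is every normal nilpotent one. -/
theorem nilpotent_le_zOf (hno : ∀ (p : ℕ), p.Prime → ∀ E : Subgroup G, E.Normal → E ≤ N → IsPGroup p E → E ≤ zOf N)
    {W : Subgroup G} [W.Normal] (hWN : W ≤ N) (hW : Group.IsNilpotent ↥W) : W ≤ zOf N := by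
  refine le_of_prime_pow fun q hq g hg hgq => ?_
  haveI := Fact.mk hq
  have hpg : IsPGroup q ((zpowers g).subgroupOf W) :=
    hgq.isPGroup.of_equiv (subgroupOfEquivOfLe (zpowers_le.mpr hg)).symm
  obtain ⟨R, hR⟩ := hpg.exists_le_sylow
  haveI := Transfer.nilpotent_sylow_normal hW R
  haveI := R.characteristic_of_normal inferInstance
  exact hno q hq ((R : Subgroup ↥W).map W.subtype) inferInstance ((map_subtype_le _).trans hWN)
    (R.isPGroup'.map _) ⟨⟨g, hg⟩, hR (mem_subgroupOf.mpr (mem_zpowers g)), rfl⟩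

theorem normalizer_inf_eq [hNn : N.Normal] (x : G) :
    centralizer ({x} : Set G) ≤ normalizer ((N ⊓ centralizer {x} : Subgroup G) : Set G) := by
  intro m hm n
  have hm' := mem_centralizer_singleton_iff.mp hm
  constructor
  · rintro ⟨h1, h2⟩
    exact mem_inf.mpr ⟨hNn.conj_mem _ h1 m, mul_mem (mul_mem hm h2) (inv_mem hm)⟩
  · rintro ⟨h1, h2⟩
    refine ⟨?_, ?_⟩
    · have := hNn.conj_mem _ h1 m⁻¹
      rwa [inv_inv, show m⁻¹ * (m * n * m⁻¹) * m = n by group] at this
    · have := mul_mem (mul_mem (inv_mem hm) h2) hm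
      rwa [show m⁻¹ * (m * n * m⁻¹) * m = n by group] at this

/-- A non-central normal `p`-subgroup exists unless `N` is nilpotent. -/
theorem exists_normal_pSubgroup [hNn : N.Normal] (h : Hyp N) (hnnil : ¬ Group.IsNilpotent ↥N) :
    ∃ (p : ℕ) (E : Subgroup G), p.Prime ∧ E.Normal ∧ E ≤ N ∧ IsPGroup p E ∧ ¬ E ≤ zOf N := by
  by_contra hno
  push Not at hno
  replace hno : ∀ (p : ℕ), p.Prime → ∀ E : Subgroup G, E.Normal → E ≤ N → IsPGroup p E → E ≤ zOf N :=
    fun p hp E => hno p E hp
  let π := QuotientGroup.mk' (zOf N)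
  have hπs := QuotientGroup.mk'_surjective (zOf N)
  have hZN : zOf N ≤ N := inf_le_left
  have hπ1 : ∀ g, π g = 1 ↔ g ∈ zOf N := fun g => QuotientGroup.eq_one_iff g
  let Nb := N.map π
  let ρ : ↥N →* ↥Nb := π.subgroupMap N
  have hρs : Function.Surjective ρ := π.subgroupMap_surjective N
  -- odd primes give normal complements
  have hodd : ∀ p : ℕ, p.Prime → p ≠ 2 → HasNormalPComplement p ↥Nb := by
    intro p hp hp2
    haveI := Fact.mk hp
    by_cases hpd : p ∣ Nat.card ↥Nb
    swap
    · exact Transfer.hasNormalPComplement_of_not_dvd hpd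
    obtain ⟨P⟩ := (inferInstance : Nonempty (Sylow p ↥N))
    set P₀ := (P : Subgroup ↥N).map N.subtype with hP₀
    set Pb := P₀.map π with hPb
    have hP₀N : P₀ ≤ N := map_subtype_le _
    have hP₀p : IsPGroup p P₀ := P.isPGroup'.map _
    have hmax : ∀ U : Subgroup G, U ≤ N → IsPGroup p U → P₀ ≤ U → U ≤ P₀ := by
      intro U hUN hU hle
      have h1 : IsPGroup p (U.subgroupOf N) := hU.of_equiv (subgroupOfEquivOfLe hUN).symm
      have h2 := P.is_maximal' h1 fun a ha => mem_subgroupOf.mpr (hle (mem_map_of_mem _ ha))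
      intro a ha
      exact ⟨⟨a, hUN ha⟩, h2.le (mem_subgroupOf.mpr ha), rfl⟩
    let P' : Sylow p ↥Nb := P.mapSurjective hρs
    have hP' : (P' : Subgroup ↥Nb).map Nb.subtype = Pb := by
      rw [Sylow.coe_mapSurjective, hPb, hP₀, map_map, map_map]
      rfl
    have hPb1 : Pb ≠ ⊥ := by
      intro e
      rw [e, map_eq_bot_iff_of_injective _ Nb.subtype_injective] at hP'
      exact hp.not_dvd_one (by
        have := P'.dvd_card_of_dvd_card hpd
        rwa [hP', card_bot] at this)
    haveI : Nontrivial ↥Pb := (nontrivial_iff_ne_bot Pb).mpr hPb1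
    haveI : Nontrivial ↥(center ↥Pb) := (hP₀p.map π).center_nontrivial
    obtain ⟨zb, hzb⟩ := exists_ne (1 : ↥(center ↥Pb))
    obtain ⟨z, hzP, hzq⟩ := mem_map.mp (zb : ↥Pb).2
    have hzz : z ∉ zOf N := fun hz => hzb (Subtype.ext (Subtype.ext (hzq.symm.trans ((hπ1 z).mpr hz))))
    have hzN : z ∈ N := hP₀N hzP
    have hzp : IsPElem p z := isPElem_of_mem hP₀p hzP
    have hM : IsCoatom (centralizer ({z} : Set G)) := h z hzN fun hc => hzz ⟨hzN, hc⟩
    have hcz : ∀ a ∈ P₀, ∃ c ∈ zOf N, a * z * a⁻¹ = z * c := by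
      intro a ha
      refine ⟨z⁻¹ * (a * z * a⁻¹), (hπ1 _).mp ?_, (mul_inv_cancel_left _ _).symm⟩
      have := congrArg Subtype.val (mem_center_iff.mp zb.2 ⟨π a, mem_map_of_mem π ha⟩)
      simp only [Subgroup.coe_mul, ← hzq] at this
      rw [map_mul, map_inv, map_mul, map_mul, map_inv, this]
      group
    set S := N ⊓ centralizer ({z} : Set G) with hS
    have hSnil : Group.IsNilpotent ↥S := isNilpotent_centralizer h hp hzN hzz hzp
    have hMS : centralizer ({z} : Set G) ≤ normalizer (S : Set G) := normalizer_inf_eq z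
    have hzS : z ∈ S := ⟨hzN, mem_centralizer_singleton_iff.mpr rfl⟩
    have hNS : normalizer (S : Set G) = centralizer ({z} : Set G) := by
      rcases hM.le_iff.mp hMS with e | e
      · haveI : S.Normal := normalizer_eq_top_iff.mp e
        exact absurd (nilpotent_le_zOf hno inf_le_left hSnil hzS) hzz
      · exact e
    have hP₀M : P₀ ≤ centralizer ({z} : Set G) := by
      intro a ha
      rw [← hNS]
      obtain ⟨c, hc, hac⟩ := hcz a ha
      intro n
      have key : ∀ v ∈ N, Commute v z → Commute (a * v * a⁻¹) z := by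
        intro v hv hvz
        have h1 : Commute (a * v * a⁻¹) (a * z * a⁻¹) := (hvz.map (MulAut.conj a).toMonoidHom)
        rw [hac] at h1
        have h2 : Commute (a * v * a⁻¹) c := (mem_zOf.mp hc).2 _ (hNn.conj_mem v hv a)
        have := h1.mul_right h2.inv_right
        rwa [mul_inv_cancel_right] at this
      constructor
      · rintro ⟨h1, h2⟩
        exact ⟨hNn.conj_mem n h1 a, mem_centralizer_singleton_iff.mpr
          (key n h1 (mem_centralizer_singleton_iff.mp h2)).eq⟩
      · rintro ⟨h1, h2⟩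
        have hnN : n ∈ N := by
          have := hNn.conj_mem _ h1 a⁻¹
          rwa [inv_inv, show a⁻¹ * (a * n * a⁻¹) * a = n by group] at this
        refine ⟨hnN, mem_centralizer_singleton_iff.mpr ?_⟩
        have h3 := (mem_centralizer_singleton_iff.mp h2 : _)
        have h4 : Commute (a * n * a⁻¹) (a * z * a⁻¹) := by
          rw [hac]
          exact (show Commute (a * n * a⁻¹) z from h3).mul_right ((mem_zOf.mp hc).2 _ h1)
        have h5 : Commute n z := by simpa [mul_assoc] using h4.map (MulAut.conj a⁻¹).toMonoidHom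
        exact h5.eq
    have hP₀S : P₀ ≤ S := le_inf hP₀N hP₀M
    have hMP : centralizer ({z} : Set G) ≤ normalizer (P₀ : Set G) := by
      intro m hm
      rw [mem_normalizer_iff_map_conj_eq]
      set U := P₀.map (MulAut.conj m).toMonoidHom with hU
      refine eq_of_le_of_card_ge ?_ (le_of_eq (card_map_of_injective (MulAut.conj m).injective).symm)
      have hUS : U ≤ S := by
        rintro _ ⟨a, ha, rfl⟩
        exact (hMS hm a).mp (hP₀S ha)
      -- both lie in the unique Sylow subgroup of `S`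
      obtain ⟨T, hT⟩ := (hP₀p.of_equiv (subgroupOfEquivOfLe hP₀S).symm).exists_le_sylow
      haveI := Transfer.nilpotent_sylow_normal hSnil T
      haveI := (Sylow.unique_of_normal T inferInstance).instSubsingleton
      obtain ⟨T', hT'⟩ := ((hP₀p.map (MulAut.conj m).toMonoidHom).of_equiv
        (subgroupOfEquivOfLe hUS).symm).exists_le_sylow
      rw [Subsingleton.elim T' T] at hT'
      have h1 := hmax ((T : Subgroup ↥S).map S.subtype) ((map_subtype_le _).trans inf_le_left)
        (T.isPGroup'.map _) fun a ha => ⟨⟨a, hP₀S ha⟩, hT (mem_subgroupOf.mpr ha), rfl⟩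
      exact fun a ha => h1 ⟨⟨a, hUS ha⟩, hT' (mem_subgroupOf.mpr ha), rfl⟩
    set Wb := centerThompsonOf p Pb with hWb
    have hWbP : Wb ≤ Pb := inf_le_left.trans (Thompson.thompsonSubgroupOf_le Pb)
    set W := Wb.comap π with hW
    have hMW : centralizer ({z} : Set G) ≤ normalizer (W : Set G) := by
      intro m hm
      have h1 : π m ∈ normalizer (Wb : Set (G ⧸ zOf N)) :=
        PComplement.normalizer_le_normalizer_centerThompsonOf Pb
          (le_normalizer_map _ (mem_map_of_mem π (hMP hm)))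
      intro n
      rw [SetLike.mem_coe, SetLike.mem_coe, hW, mem_comap, mem_comap, map_mul, map_mul, map_inv]
      exact h1 (π n)
    have hWN : W ≤ N := by
      intro w hw
      obtain ⟨n, hn, e⟩ := mem_map.mp (hWbP hw)
      have h1 : n⁻¹ * w ∈ zOf N := (hπ1 _).mp (by rw [map_mul, map_inv, e, inv_mul_cancel])
      have := mul_mem (hP₀N hn) (hZN h1)
      rwa [mul_inv_cancel_left] at this
    have hnW : normalizer (W : Set G) = centralizer ({z} : Set G) := by
      rcases hM.le_iff.mp hMW with e | e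
      · exfalso
        haveI : W.Normal := normalizer_eq_top_iff.mp e
        have hWnil : Group.IsNilpotent ↥W := by
          refine isNilpotent_of_central hp hWN fun q hq hqp w hw hwq => ?_
          rw [← hπ1]
          obtain ⟨i, hi⟩ := isPElem_of_mem (hP₀p.map π) (hWbP hw)
          obtain ⟨j, hj⟩ := hwq
          have h1 : orderOf (π w) ∣ p ^ i := orderOf_dvd_of_pow_eq_one hi
          have h2 : orderOf (π w) ∣ q ^ j := orderOf_dvd_of_pow_eq_one (by rw [← map_pow, hj, map_one])
          exact orderOf_eq_one_iff.mp (Nat.eq_one_of_dvd_coprimes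
            (((Nat.coprime_primes hq hp).mpr hqp).pow j i).symm h1 h2)
        refine PComplement.centerThompsonOf_ne_bot (hP₀p.map π) hPb1 ?_
        rw [← hWb, eq_bot_iff]
        intro wb hwb
        obtain ⟨w, rfl⟩ := hπs wb
        exact mem_bot.mpr ((hπ1 w).mpr (nilpotent_le_zOf hno hWN hWnil hwb))
      · exact e
    refine PComplement.glauberman_thompson hp2 P' ?_
    refine Frobenius.hasNormalPComplement_of_isNilpotent ?_ p
    set X := centerThompsonOf p (P' : Subgroup ↥Nb) with hX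
    have hXW : X.map Nb.subtype = Wb := by
      rw [hX, PComplement.centerThompsonOf_map _ _ (fun _ _ _ _ e => Nb.subtype_injective e), hP', hWb]
    have hXS : (normalizer (X : Set ↥Nb)).map Nb.subtype ≤ S.map π := by
      rintro _ ⟨⟨_, n, hn, rfl⟩, hv, rfl⟩
      refine ⟨n, ⟨hn, ?_⟩, rfl⟩
      rw [← hnW]
      intro a
      rw [SetLike.mem_coe, SetLike.mem_coe, hW, mem_comap, mem_comap, map_mul, map_mul, map_inv]
      have h1 : π n ∈ normalizer ((X.map Nb.subtype : Subgroup (G ⧸ zOf N)) : Set (G ⧸ zOf N)) :=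
        le_normalizer_map Nb.subtype ⟨_, hv, rfl⟩
      rw [hXW] at h1
      exact h1 (π a)
    haveI := hSnil
    haveI : Group.IsNilpotent ↥(S.map π) :=
      Group.nilpotent_of_surjective (π.subgroupMap S) (π.subgroupMap_surjective S)
    exact (Group.isNilpotent_congr (equivMapOfInjective _ Nb.subtype Nb.subtype_injective)).mpr
      ((Group.isNilpotent_congr (subgroupOfEquivOfLe hXS)).mp inferInstance)
  -- the `2`-elements form a subgroup
  have hres : ∀ (r : ℕ), r.Prime → r ≠ 2 → ∃ K : Subgroup ↥Nb, K.Normal ∧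
      ∀ g : ↥Nb, g ∈ K ↔ ¬ r ∣ orderOf g := by
    intro r hr hr2
    haveI := Fact.mk hr
    refine ⟨pResidual r ↥Nb, inferInstance, fun g => ?_⟩
    rw [Transfer.mem_pResidual_iff_coprime (hodd r hr hr2), Nat.coprime_comm, hr.coprime_iff_not_dvd]
  have htwo : ∀ (g : ↥Nb), (∀ r : ℕ, r.Prime → r ≠ 2 → ¬ r ∣ orderOf g) → IsPElem 2 g := fun g hg => by
    refine ⟨(orderOf g).factorization 2, ?_⟩
    rw [← orderOf_dvd_iff_pow_eq_one]
    exact (Nat.eq_prime_pow_of_unique_prime_dvd (orderOf_pos g).ne' fun {d} hd hdg => by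
      by_contra hne; exact hg d hd hne hdg) ▸ by
        rw [Nat.Prime.factorization_pow Nat.prime_two, Finsupp.single_eq_same]
  have htwo' : ∀ (g : ↥Nb), IsPElem 2 g → ∀ r : ℕ, r.Prime → r ≠ 2 → ¬ r ∣ orderOf g := by
    rintro g ⟨k, hk⟩ r hr hr2 hd
    exact hr2 ((Nat.prime_dvd_prime_iff_eq hr Nat.prime_two).mp
      (hr.dvd_of_dvd_pow (hd.trans (orderOf_dvd_of_pow_eq_one hk))))
  have hno2 : ∀ g : ↥Nb, IsPElem 2 g → g = 1 := by
    let T : Subgroup G :=
      { carrier := {v | ∃ hv : v ∈ N, IsPElem 2 (ρ ⟨v, hv⟩)}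
        one_mem' := ⟨one_mem N, ⟨0, by rw [pow_zero, pow_one]; exact ρ.map_one⟩⟩
        mul_mem' := by
          rintro a b ⟨ha, ha2⟩ ⟨hb, hb2⟩
          refine ⟨mul_mem ha hb, htwo _ fun r hr hr2 => ?_⟩
          obtain ⟨K, -, hK⟩ := hres r hr hr2
          refine (hK _).mp ?_
          rw [show (⟨a * b, mul_mem ha hb⟩ : ↥N) = ⟨a, ha⟩ * ⟨b, hb⟩ from rfl, map_mul]
          exact mul_mem ((hK _).mpr (htwo' _ ha2 r hr hr2)) ((hK _).mpr (htwo' _ hb2 r hr hr2))
        inv_mem' := by
          rintro a ⟨ha, k, hk⟩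
          refine ⟨inv_mem ha, k, ?_⟩
          rw [show (⟨a⁻¹, inv_mem ha⟩ : ↥N) = ⟨a, ha⟩⁻¹ from rfl, map_inv, inv_pow, hk, inv_one] }
    haveI : T.Normal := by
      refine ⟨fun v hvT g => ?_⟩
      obtain ⟨hv, k, hk⟩ := hvT
      refine ⟨hNn.conj_mem v hv g, k, Subtype.ext ?_⟩
      have h1 : π v ^ 2 ^ k = 1 := congrArg Subtype.val hk
      show π (g * v * g⁻¹) ^ 2 ^ k = 1
      rw [map_mul, map_mul, map_inv, conj_pow, h1, mul_one, mul_inv_cancel]
    have hTN : T ≤ N := fun v hv => hv.1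
    have hTnil : Group.IsNilpotent ↥T := by
      refine isNilpotent_of_central Nat.prime_two hTN fun q hq hq2 w hwT hwq => ?_
      obtain ⟨hw, k, hk⟩ := hwT
      rw [← hπ1]
      obtain ⟨j, hj⟩ := hwq
      have h1 : orderOf (π w) ∣ 2 ^ k := orderOf_dvd_of_pow_eq_one (congrArg Subtype.val hk)
      have h2 : orderOf (π w) ∣ q ^ j := orderOf_dvd_of_pow_eq_one (by rw [← map_pow, hj, map_one])
      exact orderOf_eq_one_iff.mp (Nat.eq_one_of_dvd_coprimes
        (((Nat.coprime_primes hq Nat.prime_two).mpr hq2).pow j k).symm h1 h2)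
    intro g hg
    obtain ⟨⟨v, hv⟩, rfl⟩ := hρs g
    exact Subtype.ext ((hπ1 v).mpr (nilpotent_le_zOf hno hTN hTnil ⟨hv, hg⟩))
  have hodd2 : ∀ g : ↥Nb, ¬ 2 ∣ orderOf g := by
    intro g hd
    have h1 : g ^ (orderOf g / 2) = 1 := hno2 _ ⟨1, by
      rw [pow_one, ← pow_mul, Nat.div_mul_cancel hd, pow_orderOf_eq_one]⟩
    have h2 := orderOf_pow_orderOf_div (orderOf_pos g).ne' hd
    rw [h1, orderOf_one] at h2
    omega
  have hNbnil : Group.IsNilpotent ↥Nb := by
    refine isNilpotent_of_commute fun p q hp hq hpq a b ha hb => ?_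
    rw [commute_iff_eq, ← commutatorElement_eq_one_iff_mul_comm, ← orderOf_eq_one_iff]
    by_contra hne
    obtain ⟨r, hr, hrd⟩ := Nat.exists_prime_and_dvd hne
    have hr2 : r ≠ 2 := fun e => hodd2 _ (e ▸ hrd)
    obtain ⟨K, hKn, hK⟩ := hres r hr hr2
    refine (hK _).mp ?_ hrd
    have hnd : ∀ {s : ℕ} {v : ↥Nb}, s.Prime → s ≠ r → IsPElem s v → v ∈ K := by
      rintro s v hs hsr ⟨k, hk⟩
      refine (hK v).mpr fun hd => hsr ?_
      exact ((Nat.prime_dvd_prime_iff_eq hr hs).mp (hr.dvd_of_dvd_pow (hd.trans (orderOf_dvd_of_pow_eq_one hk)))).symm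
    rw [commutatorElement_def]
    by_cases hpr : p = r
    · have hbK := hnd hq (fun e => hpq (hpr.trans e.symm)) hb
      exact mul_mem (hKn.conj_mem b hbK a) (inv_mem hbK)
    · have haK := hnd hp hpr ha
      rw [show a * b * a⁻¹ * b⁻¹ = a * (b * a⁻¹ * b⁻¹) by group]
      exact mul_mem haK (hKn.conj_mem _ (inv_mem haK) b)
  haveI := hNbnil
  refine hnnil (Subgroup.isNilpotent_of_ker_le_center ρ ?_)
  intro v hv
  rw [mem_center_iff]
  exact fun w => Subtype.ext ((mem_zOf.mp ((hπ1 (v : G)).mp (congrArg Subtype.val (MonoidHom.mem_ker.mp hv)))).2 w w.2)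

/-- Two primes cannot both give non-central normal subgroups unless `N` is nilpotent. -/
theorem two_primes [N.Normal] (h : Hyp N) {p q : ℕ} (hp : p.Prime) (hq : q.Prime) (hpq : p ≠ q)
    {E R : Subgroup G} [E.Normal] [R.Normal] (hEN : E ≤ N) (hE : IsPGroup p E) (hRN : R ≤ N) (hR : IsPGroup q R)
    (hER : ∀ a ∈ E, ∀ b ∈ R, Commute a b) (hEz : ¬ E ≤ zOf N) (hRz : ¬ R ≤ zOf N) : False := by
  obtain ⟨e, he, hez⟩ := SetLike.not_le_iff_exists.mp hEz
  obtain ⟨r, hr, hrz⟩ := SetLike.not_le_iff_exists.mp hRz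
  have hcop := fun (a : G) (ha : a ∈ E) (b : G) (hb : b ∈ R) =>
    coprime_of_pElem hp hq hpq (isPElem_of_mem hE ha) (isPElem_of_mem hR hb)
  have hCR : ∀ b ∈ R, b ∉ zOf N → centralizer ({b} : Set G) = centralizer {e} := fun b hb hbz =>
    (centralizer_eq_of_coprime h (hEN he) hez (hRN hb) hbz (hER e he b hb) (hcop e he b hb)).symm
  have hCE : ∀ a ∈ E, a ∉ zOf N → centralizer ({a} : Set G) = centralizer {e} := fun a ha haz =>
    (centralizer_eq_of_coprime h (hEN ha) haz (hRN hr) hrz (hER a ha r hr) (hcop a ha r hr)).trans (hCR r hr hrz)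
  -- an element outside the common centralizer
  obtain ⟨s, hs, t, htN, hts, htM⟩ : ∃ s : ℕ, s.Prime ∧ ∃ t ∈ N, IsPElem s t ∧ t ∉ centralizer ({e} : Set G) := by
    by_contra hall
    push Not at hall
    exact hez ⟨hEN he, le_centralizer_singleton_iff.mp (le_of_prime_pow fun s hs t ht hts => hall s hs t ht hts)⟩
  have htz : t ∉ zOf N := fun ht => htM (mem_centralizer_singleton_iff.mpr ((mem_zOf.mp ht).2 e (hEN he)).symm)
  have key : ∀ (U V : Subgroup G) [U.Normal] (u v : ℕ), u.Prime → v.Prime → u ≠ v → u ≠ s → U ≤ N → IsPGroup u U →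
      V ≤ N → IsPGroup v V → (∀ a ∈ U, ∀ b ∈ V, Commute a b) → ¬ U ≤ zOf N → ¬ V ≤ zOf N →
      (∀ a ∈ U, a ∉ zOf N → centralizer ({a} : Set G) = centralizer {e}) →
      (∀ b ∈ V, b ∉ zOf N → centralizer ({b} : Set G) = centralizer {e}) → False := by
    intro U V _ u v hu hv huv hus hUN hU hVN hV hUV hUz hVz hCU hCV
    have hfix : ∀ a ∈ U, Commute a t → a ∈ zOf N := by
      intro a ha hat
      by_contra haz
      have := centralizer_eq_of_coprime h (hUN ha) haz htN htz hat
        (coprime_of_pElem hu hs hus (isPElem_of_mem hU ha) hts)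
      rw [hCU a ha haz] at this
      exact htM (this ▸ mem_centralizer_singleton_iff.mpr rfl)
    obtain ⟨a₀, ha₀, ha₀z⟩ := SetLike.not_le_iff_exists.mp hUz
    have hMt : IsCoatom (centralizer ({t} : Set G)) := h t htN fun hc => htz ⟨htN, hc⟩
    have htop : centralizer ({t} : Set G) ⊔ U = ⊤ := hMt.2 _ (lt_of_le_of_ne le_sup_left fun e' =>
      ha₀z (hfix a₀ ha₀ (mem_centralizer_singleton_iff.mp (e'.ge (mem_sup_right ha₀)))))
    obtain ⟨b, hb, hbz⟩ := SetLike.not_le_iff_exists.mp hVz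
    obtain ⟨m, hm, a, ha, hma⟩ := mem_sup_of_normal_right.mp (htop.ge (mem_top b))
    -- `a` is a power of `m`
    have hab : Commute b a⁻¹ := ((hUV a ha b hb).symm).inv_right
    have hm' : m = b * a⁻¹ := by rw [← hma, mul_inv_cancel_right]
    obtain ⟨i, hi⟩ := isPElem_of_mem hV hb
    obtain ⟨j, hj⟩ := isPElem_of_mem hU (inv_mem ha)
    have hpow : a⁻¹ ^ v ^ i = m ^ v ^ i := by rw [hm', hab.mul_pow, hi, one_mul]
    have hat : Commute a⁻¹ t := by
      have h1 : Commute (a⁻¹ ^ v ^ i) t := hpow ▸ (show Commute m t from mem_centralizer_singleton_iff.mp hm).pow_left _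
      have h2 : a⁻¹ ∈ zpowers (a⁻¹ ^ v ^ i) := OddLocal43.mem_zpowers_pow_of_coprime
        (((Nat.coprime_primes hu hv).mpr huv).pow j i |>.coprime_dvd_left (orderOf_dvd_of_pow_eq_one hj))
      obtain ⟨l, hl⟩ := mem_zpowers_iff.mp h2
      exact hl ▸ h1.zpow_left l
    have haz : a⁻¹ ∈ zOf N := hfix _ (inv_mem ha) hat
    have hbt : Commute b t := by
      have : b = m * a := hma.symm
      rw [this]
      exact (show Commute m t from mem_centralizer_singleton_iff.mp hm).mul_left (Commute.inv_left_iff.mp hat)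
    exact htM (hCV b hb hbz ▸ mem_centralizer_singleton_iff.mpr hbt.symm.eq)
  by_cases hps : p = s
  · exact key R E q p hq hp hpq.symm (fun e' => hpq (hps.trans e'.symm)) hRN hR hEN hE
      (fun a ha b hb => (hER b hb a ha).symm) hRz hEz hCR hCE
  · exact key E R p q hp hq hpq hps hEN hE hRN hR hER hEz hRz hCE hCR

/-- Elements of order prime to `p` act without fixed points on a non-central normal `p`-subgroup. -/
theorem fixedPointFree [hNn : N.Normal] (h : Hyp N) {p q : ℕ} (hp : p.Prime) (hq : q.Prime) (hqp : q ≠ p)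
    {E : Subgroup G} [hEn : E.Normal] (hEN : E ≤ N) (hE : IsPGroup p E) (hN : ¬ N ≤ centralizer (N : Set G))
    (hEz : ¬ E ≤ zOf N) {y : G} (hy : y ∈ N) (hyq : IsPElem q y) (hyz : y ∉ zOf N) :
    (∀ a ∈ E, Commute a y → a ∈ zOf N) ∧ centralizer ({y} : Set G) ⊔ E = ⊤ := by
  haveI := Fact.mk hp
  haveI := Fact.mk hq
  set My := centralizer ({y} : Set G) with hMy
  have hMc : IsCoatom My := h y hy fun hc => hyz ⟨hy, hc⟩
  set W := E ⊓ My with hW
  have hWeq : ∀ a ∈ W, a ∉ zOf N → centralizer ({a} : Set G) = My := fun a ha haz =>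
    centralizer_eq_of_coprime h (hEN ha.1) haz hy hyz (mem_centralizer_singleton_iff.mp ha.2)
      (coprime_of_pElem hp hq hqp.symm (isPElem_of_mem hE ha.1) hyq)
  have hfpf : W ≤ zOf N := by
    by_contra hWz
    obtain ⟨w, hw, hwz⟩ := SetLike.not_le_iff_exists.mp hWz
    -- `W` is normal
    have hEW : E ≤ normalizer (W : Set G) := by
      intro a ha
      rw [mem_normalizer_iff_map_conj_eq]
      refine eq_of_le_of_card_ge ?_ (le_of_eq (card_map_of_injective (MulAut.conj a).injective).symm)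
      rintro _ ⟨b, hb, rfl⟩
      refine ⟨hEn.conj_mem b hb.1 a, ?_⟩
      show a * b * a⁻¹ ∈ My
      rw [show a * b * a⁻¹ = ⁅a, b⁆ * b by rw [commutatorElement_def]; group]
      exact mul_mem (mem_centralizer_singleton_iff.mpr
        ((mem_zOf.mp (comm_mem_zOf h hN hEN hE ha hb.1).1).2 y hy).symm) hb.2
    have hMW : My ≤ normalizer (W : Set G) := by
      intro m hm
      rw [mem_normalizer_iff_map_conj_eq]
      refine eq_of_le_of_card_ge ?_ (le_of_eq (card_map_of_injective (MulAut.conj m).injective).symm)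
      rintro _ ⟨b, hb, rfl⟩
      exact mem_inf.mpr ⟨hEn.conj_mem b hb.1 m, mul_mem (mul_mem hm hb.2) (inv_mem hm)⟩
    haveI hWn : W.Normal := by
      rw [← normalizer_eq_top_iff]
      by_cases hEM : E ≤ My
      · -- then `W = E`
        rw [normalizer_eq_top_iff, hW, inf_eq_left.mpr hEM]
        exact hEn
      · exact top_le_iff.mp ((hMc.2 _ (lt_of_le_of_ne le_sup_left
          fun e' => hEM (e' ▸ le_sup_right))).ge.trans (sup_le hMW hEW))
    have hCW : centralizer (W : Set G) = My := by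
      refine le_antisymm (fun g hg => ?_) (fun g hg => mem_centralizer_iff.mpr fun a ha => ?_)
      · rw [← hWeq w hw hwz]
        exact mem_centralizer_singleton_iff.mpr (mem_centralizer_iff.mp hg w hw).symm
      · by_cases haz : a ∈ zOf N
        · -- `a` central and `a * w` non-central
          have h1 : a * w ∈ W := mul_mem ha hw
          have h2 : a * w ∉ zOf N := fun hh => hwz ((mul_mem_cancel_left haz).mp hh)
          have h3 : Commute g (a * w) := mem_centralizer_singleton_iff.mp ((hWeq _ h1 h2).symm ▸ hg)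
          have h4 : Commute g w := mem_centralizer_singleton_iff.mp ((hWeq w hw hwz).symm ▸ hg)
          have := h3.mul_right h4.inv_right
          rw [mul_inv_cancel_right] at this
          exact this.symm.eq
        · exact (mem_centralizer_singleton_iff.mp ((hWeq a ha haz).symm ▸ hg)).symm
    haveI : My.Normal := hCW ▸ inferInstance
    set A := N ⊓ My with hA
    have hAnil : Group.IsNilpotent ↥A := isNilpotent_centralizer h hq hy hyz hyq
    have hyA : y ∈ A := ⟨hy, mem_centralizer_singleton_iff.mpr rfl⟩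
    obtain ⟨R, hR⟩ := (hyq.isPGroup.of_equiv (subgroupOfEquivOfLe (zpowers_le.mpr hyA)).symm).exists_le_sylow
    haveI := Transfer.nilpotent_sylow_normal hAnil R
    haveI := R.characteristic_of_normal inferInstance
    refine two_primes h hp hq hqp.symm (E := W) (R := (R : Subgroup ↥A).map A.subtype) (inf_le_left.trans hEN)
      (hE.to_le inf_le_left) ((map_subtype_le _).trans inf_le_left) (R.isPGroup'.map _) ?_ hWz
      fun hle => hyz (hle ⟨⟨y, hyA⟩, hR (mem_subgroupOf.mpr (mem_zpowers y)), rfl⟩)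
    intro a ha b hb
    have hbM : b ∈ My := ((map_subtype_le _ hb) : b ∈ A).2
    rw [← hCW] at hbM
    exact mem_centralizer_iff.mp hbM a ha
  refine ⟨fun a ha hay => hfpf ⟨ha, mem_centralizer_singleton_iff.mpr hay.eq⟩, ?_⟩
  exact hMc.2 _ (lt_of_le_of_ne le_sup_left fun e' => hEz fun a ha => hfpf ⟨ha, e'.ge (mem_sup_right ha)⟩)

end Cfsg.Agent.FG38.MaxCent
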