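import Mathlib.GroupTheory.Nilpotent
import Mathlib.GroupTheory.PGroup
import Mathlib.Data.Nat.Choose.Dvd
import Mathlib.Logic.Function.Iterate

/-!
Polynomial maps `ℕ → G` for the lower central series (Leibman), and the Hall–Petrescu consequence
`(xy)^p = 1` in class less than `p`.
-/

set_option autoImplicit false

namespace Cfsg.Agent.FG38

open Subgroup
open scoped commutatorElement

variable {G : Type*} [Group G]

/-- The filtration `G, G, γ₂, γ₃, …`. -/
def filt (G : Type*) [Group G] (i : ℕ) : Subgroup G := (⊤ : Subgroup G).lowerCentralSeries (i - 1)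

theorem commutator_le_of_rotate {H₁ H₂ H₃ N : Subgroup G} [N.Normal]
    (h1 : ⁅⁅H₂, H₃⁆, H₁⁆ ≤ N) (h2 : ⁅⁅H₃, H₁⁆, H₂⁆ ≤ N) : ⁅⁅H₁, H₂⁆, H₃⁆ ≤ N := by
  have hbot : ∀ {K : Subgroup G}, K ≤ N ↔ K.map (QuotientGroup.mk' N) = ⊥ := by
    intro K
    rw [Subgroup.map_eq_bot_iff, QuotientGroup.ker_mk']
  rw [hbot] at h1 h2 ⊢
  rw [map_commutator, map_commutator] at h1 h2 ⊢
  exact commutator_commutator_eq_bot_of_rotate h1 h2

theorem lcs_commutator_le (i j : ℕ) :
    ⁅(⊤ : Subgroup G).lowerCentralSeries i, (⊤ : Subgroup G).lowerCentralSeries j⁆ ≤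
      (⊤ : Subgroup G).lowerCentralSeries (i + j + 1) := by
  induction j generalizing i with
  | zero => rfl
  | succ j ih =>
    rw [commutator_comm, Subgroup.lowerCentralSeries_succ _ j]
    apply commutator_le_of_rotate
    · have h1 : ⁅(⊤ : Subgroup G), (⊤ : Subgroup G).lowerCentralSeries i⁆ ≤
          (⊤ : Subgroup G).lowerCentralSeries (i + 1) := by
        rw [commutator_comm]; rfl
      refine (commutator_mono h1 le_rfl).trans ((ih (i + 1)).trans ?_)
      exact Subgroup.lowerCentralSeries_antitone _ (by omega)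
    · refine (commutator_mono (ih i) le_rfl).trans ?_
      exact Subgroup.lowerCentralSeries_antitone (⊤ : Subgroup G) (show i + (j + 1) + 1 ≤ i + j + 1 + 1 by omega)

theorem filt_antitone : Antitone (filt G) := fun _ _ h =>
  Subgroup.lowerCentralSeries_antitone _ (by omega)

theorem filt_zero : filt G 0 = ⊤ := rfl

instance filt_normal (i : ℕ) : (filt G i).Normal := by
  unfold filt; infer_instance

theorem filt_commutator (i j : ℕ) : ⁅filt G i, filt G j⁆ ≤ filt G (i + j) := by
  rcases Nat.eq_zero_or_pos i with rfl | hi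
  · rw [zero_add, filt_zero]; exact commutator_le_right _ _
  rcases Nat.eq_zero_or_pos j with rfl | hj
  · rw [add_zero, filt_zero]; exact commutator_le_left _ _
  exact (lcs_commutator_le _ _).trans (Subgroup.lowerCentralSeries_antitone _ (by omega))

/-- The right difference. -/
def diff (f : ℕ → G) (n : ℕ) : G := (f n)⁻¹ * f (n + 1)

/-- Polynomial maps of shift `d`. -/
def IsPoly (d : ℕ) (f : ℕ → G) : Prop := ∀ k n, (diff^[k] f) n ∈ filt G (d + k)

theorem isPoly_iff {d : ℕ} {f : ℕ → G} :
    IsPoly d f ↔ (∀ n, f n ∈ filt G d) ∧ IsPoly (d + 1) (diff f) := by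
  constructor
  · intro h
    refine ⟨fun n => h 0 n, fun k n => ?_⟩
    have := h (k + 1) n
    rw [Function.iterate_succ_apply] at this
    rwa [show d + 1 + k = d + (k + 1) by omega]
  · rintro ⟨h1, h2⟩ k n
    cases k with
    | zero => exact h1 n
    | succ k =>
      rw [Function.iterate_succ_apply, show d + (k + 1) = d + 1 + k by omega]
      exact h2 k n

theorem IsPoly.mono {d e : ℕ} {f : ℕ → G} (h : IsPoly d f) (he : e ≤ d) : IsPoly e f :=
  fun k n => filt_antitone (by omega) (h k n)

theorem diff_shift (f : ℕ → G) : diff (fun n => f (n + 1)) = fun n => diff f (n + 1) := rfl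

theorem iterate_diff_shift (k : ℕ) : ∀ f : ℕ → G,
    diff^[k] (fun n => f (n + 1)) = fun n => (diff^[k] f) (n + 1) := by
  induction k with
  | zero => intro f; rfl
  | succ k ih => intro f; rw [Function.iterate_succ_apply, diff_shift, ih (diff f), Function.iterate_succ_apply]

theorem IsPoly.shift {d : ℕ} {f : ℕ → G} (h : IsPoly d f) : IsPoly d (fun n => f (n + 1)) := by
  intro k n
  rw [iterate_diff_shift]
  exact h k (n + 1)

theorem diff_one : diff (fun _ : ℕ => (1 : G)) = fun _ => 1 := by funext n; simp [diff]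

theorem isPoly_one (d : ℕ) : IsPoly d (fun _ => (1 : G)) := by
  intro k n
  rw [Function.iterate_fixed diff_one]
  exact one_mem _

theorem isPoly_const (c : G) : IsPoly 0 (fun _ => c) := by
  refine isPoly_iff.mpr ⟨fun _ => by rw [filt_zero]; trivial, ?_⟩
  have : diff (fun _ : ℕ => c) = fun _ => 1 := by funext n; simp [diff]
  rw [this]
  exact isPoly_one 1

theorem isPoly_pow (x : G) : IsPoly 0 (fun n => x ^ n) := by
  refine isPoly_iff.mpr ⟨fun _ => by rw [filt_zero]; trivial, ?_⟩
  have : diff (fun n : ℕ => x ^ n) = fun _ => x := by funext n; simp [diff, pow_succ]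
  rw [this]
  refine isPoly_iff.mpr ⟨fun _ => trivial, ?_⟩
  have : diff (fun _ : ℕ => x) = fun _ => 1 := by funext n; simp [diff]
  rw [this]
  exact isPoly_one 2

variable [Finite G] {N : ℕ}

theorem IsPoly.eq_of_eqOn (hN : filt G N = ⊥) : ∀ (j d : ℕ) {f g : ℕ → G}, N ≤ d + j →
    IsPoly d f → IsPoly d g → (∀ i < j, f i = g i) → f = g := by
  intro j
  induction j with
  | zero =>
    intro d f g hd hf hg _
    funext n
    have h1 : f n ∈ filt G N := filt_antitone (by omega) (hf 0 n)
    have h2 : g n ∈ filt G N := filt_antitone (by omega) (hg 0 n)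
    rw [hN, mem_bot] at h1 h2
    rw [h1, h2]
  | succ j ih =>
    intro d f g hd hf hg h
    have hdiff : diff f = diff g := ih (d + 1) (by omega) (isPoly_iff.mp hf).2 (isPoly_iff.mp hg).2
      (fun i hi => by simp only [diff]; rw [h i (by omega), h (i + 1) (by omega)])
    funext n
    induction n with
    | zero => exact h 0 (by omega)
    | succ n ihn =>
      have := congrFun hdiff n
      simp only [diff, ihn] at this
      exact mul_left_cancel this

theorem finite_isPoly (hN : filt G N = ⊥) (d : ℕ) : {f : ℕ → G | IsPoly d f}.Finite := by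
  rw [← Set.finite_coe_iff]
  refine Finite.of_injective (fun f : {f : ℕ → G | IsPoly d f} => fun i : Fin N => f.1 i) ?_
  intro f g h
  exact Subtype.ext (IsPoly.eq_of_eqOn hN N d (by omega) f.2 g.2 (fun i hi => congrFun h ⟨i, hi⟩))

omit [Finite G] in
/-- The statement proved by downward induction on `m`. -/
def PolyClosed (G : Type*) [Group G] (m : ℕ) : Prop :=
  (∀ a, m ≤ a → ∀ f g : ℕ → G, IsPoly a f → IsPoly a g → IsPoly a (f * g) ∧ IsPoly a f⁻¹) ∧
  (∀ a b, m ≤ a + b → ∀ f g : ℕ → G, IsPoly a f → IsPoly b g → IsPoly (a + b) (fun n => ⁅f n, g n⁆))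

theorem polyClosed_conj (hN : filt G N = ⊥) {m : ℕ} (h : PolyClosed G m) {a b : ℕ} (ha : m ≤ a)
    {A f : ℕ → G} (hA : IsPoly a A) (hf : IsPoly b f) :
    IsPoly a (f * A * f⁻¹) ∧ IsPoly a (f⁻¹ * A * f) := by
  have hfwd : ∀ B : ℕ → G, IsPoly a B → IsPoly a (f * B * f⁻¹) := by
    intro B hB
    have h1 : IsPoly a (fun n => ⁅f n, B n⁆) := (h.2 b a (by omega) f B hf hB).mono (by omega)
    have h2 := (h.1 a ha _ B h1 hB).1
    have e : f * B * f⁻¹ = (fun n => ⁅f n, B n⁆) * B := by
      funext n; simp [commutatorElement_def]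
    rwa [e]
  refine ⟨hfwd A hA, ?_⟩
  haveI := (finite_isPoly (G := G) hN a).to_subtype
  let φ : {g : ℕ → G | IsPoly a g} → {g : ℕ → G | IsPoly a g} := fun B => ⟨f * B.1 * f⁻¹, hfwd _ B.2⟩
  have hinj : Function.Injective φ := fun B C hBC =>
    Subtype.ext (mul_left_cancel (mul_right_cancel (congrArg Subtype.val hBC)))
  obtain ⟨B, hB⟩ := (Finite.injective_iff_surjective.mp hinj) ⟨A, hA⟩
  have : f⁻¹ * A * f = B.1 := by
    have hB' : f * B.1 * f⁻¹ = A := congrArg Subtype.val hB
    rw [← hB']; simp [mul_assoc]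
  rw [this]
  exact B.2

theorem polyClosed_step (hN : filt G N = ⊥) {m : ℕ} (h : PolyClosed G (m + 1)) : PolyClosed G m := by
  have hA : ∀ a, m ≤ a → ∀ f g : ℕ → G, IsPoly a f → IsPoly a g →
      IsPoly a (f * g) ∧ IsPoly a f⁻¹ := by
    intro a ha f g hf hg
    rcases eq_or_lt_of_le ha with rfl | hlt
    swap
    · exact h.1 a hlt f g hf hg
    obtain ⟨hf1, hf2⟩ := isPoly_iff.mp hf
    obtain ⟨hg1, hg2⟩ := isPoly_iff.mp hg
    constructor
    · refine isPoly_iff.mpr ⟨fun n => mul_mem (hf1 n) (hg1 n), ?_⟩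
      have e : diff (f * g) = g⁻¹ * diff f * g * diff g := by
        funext n; simp [diff, mul_assoc]
      rw [e]
      exact (h.1 (m + 1) le_rfl _ _ (polyClosed_conj hN h le_rfl hf2 hg).2 hg2).1
    · refine isPoly_iff.mpr ⟨fun n => inv_mem (hf1 n), ?_⟩
      have e : diff f⁻¹ = f * (diff f)⁻¹ * f⁻¹ := by
        funext n; simp [diff, mul_assoc]
      rw [e]
      exact (polyClosed_conj hN h le_rfl (h.1 (m + 1) le_rfl _ _ hf2 hf2).2 hf).1
  refine ⟨hA, fun a b hab f g hf hg => ?_⟩
  rcases eq_or_lt_of_le hab with heq | hlt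
  swap
  · exact h.2 a b hlt f g hf hg
  obtain ⟨hf1, hf2⟩ := isPoly_iff.mp hf
  obtain ⟨hg1, hg2⟩ := isPoly_iff.mp hg
  refine isPoly_iff.mpr ⟨fun n => filt_commutator a b (commutator_mem_commutator (hf1 n) (hg1 n)), ?_⟩
  set u := diff f with hu
  set v := diff g with hv
  set g' := fun n => g (n + 1) with hg'
  have hw : IsPoly (a + b + 1) (fun n => ⁅f n, v n⁆) :=
    (h.2 a (b + 1) (by omega) f v hf hg2).mono (by omega)
  have hz : IsPoly (a + b + 1) (fun n => ⁅u n, g' n⁆) :=
    (h.2 (a + 1) b (by omega) u g' hf2 hg.shift).mono (by omega)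
  have hm : m + 1 ≤ a + b + 1 := by omega
  have h1 := (polyClosed_conj hN h hm hw hg).1
  have h2 := (polyClosed_conj hN h hm hz hg.shift).2
  have h3 := (polyClosed_conj hN h hm h2 hf).1
  have h4 := (polyClosed_conj hN h hm h3 hg.shift).1
  have e : diff (fun n => ⁅f n, g n⁆) = (g * (fun n => ⁅f n, v n⁆) * g⁻¹) *
      (g' * (f * (g'⁻¹ * (fun n => ⁅u n, g' n⁆) * g') * f⁻¹) * g'⁻¹) := by
    funext n
    simp only [hu, hv, hg', diff, commutatorElement_def, Pi.mul_apply, Pi.inv_apply]
    group
  rw [e]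
  exact (h.1 (a + b + 1) hm _ _ h1 h4).1

theorem polyClosed (hN : filt G N = ⊥) (m : ℕ) : PolyClosed G m := by
  have hbase : PolyClosed G N := by
    have key : ∀ a, N ≤ a → ∀ f : ℕ → G, IsPoly a f → f = fun _ => 1 := fun a ha f hf =>
      IsPoly.eq_of_eqOn hN 0 a (by omega) hf (isPoly_one a) (fun i hi => absurd hi (by omega))
    refine ⟨fun a ha f g hf hg => ?_, fun a b hab f g hf hg => ?_⟩
    · have e1 : f * g = fun _ => 1 := by
        rw [key a ha f hf, key a ha g hg]; funext n; simp
      have e2 : f⁻¹ = fun _ => 1 := by rw [key a ha f hf]; funext n; simp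
      rw [e1, e2]
      exact ⟨isPoly_one a, isPoly_one a⟩
    · have : (fun n => ⁅f n, g n⁆) = fun _ => 1 := by
        funext n
        have := filt_antitone hab (filt_commutator a b (commutator_mem_commutator (hf 0 n) (hg 0 n)))
        rwa [hN, mem_bot] at this
      rw [this]; exact isPoly_one _
  by_cases hm : N ≤ m
  · exact ⟨fun a ha => hbase.1 a (hm.trans ha), fun a b hab => hbase.2 a b (hm.trans hab)⟩
  obtain ⟨d, rfl⟩ := Nat.exists_eq_add_of_le (Nat.le_of_not_le hm)
  clear hm
  induction d generalizing m with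
  | zero => exact hbase
  | succ d ih =>
    refine polyClosed_step hN ?_
    exact ih (m + 1) (by rwa [show m + 1 + d = m + (d + 1) by omega])
      (by rwa [show m + 1 + d = m + (d + 1) by omega])

theorem isPoly_choose_pow : ∀ (k d : ℕ) {c : G}, c ∈ filt G (d + k) →
    IsPoly d (fun n => c ^ n.choose k) := by
  intro k
  induction k with
  | zero =>
    intro d c hc
    simp only [Nat.choose_zero_right, pow_one]
    refine isPoly_iff.mpr ⟨fun _ => hc, ?_⟩
    have : diff (fun _ : ℕ => c) = fun _ => 1 := by funext n; simp [diff]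
    rw [this]; exact isPoly_one _
  | succ k ih =>
    intro d c hc
    refine isPoly_iff.mpr ⟨fun n => pow_mem (filt_antitone (by omega) hc) _, ?_⟩
    have : diff (fun n : ℕ => c ^ n.choose (k + 1)) = fun n => c ^ n.choose k := by
      funext n
      simp only [diff, Nat.choose_succ_succ']
      rw [add_comm (n.choose k), pow_add, inv_mul_cancel_left]
    rw [this]
    exact ih (d + 1) (by rwa [show d + 1 + k = d + (k + 1) by omega])

theorem iterate_diff_eq : ∀ (k : ℕ) {f : ℕ → G}, (∀ i < k, f i = 1) → (diff^[k] f) 0 = f k := by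
  intro k
  induction k with
  | zero => intro f _; rfl
  | succ k ih =>
    intro f h
    have h1 : ∀ i < k, diff f i = 1 := fun i hi => by
      simp [diff, h i (by omega), h (i + 1) (by omega)]
    rw [Function.iterate_succ_apply, ih h1]
    simp [diff, h k (Nat.lt_succ_self k)]

/-- A polynomial sequence vanishing at `0, 1` vanishes at `p` when the class is below `p` and the
derived subgroup has exponent dividing `p`. -/
theorem isPoly_apply_prime {p : ℕ} (hp : p.Prime) (hN : filt G p = ⊥)
    (hexp : ∀ z ∈ filt G 2, z ^ p = 1) {f : ℕ → G} (hf : IsPoly 0 f) (h0 : f 0 = 1) (h1 : f 1 = 1) :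
    f p = 1 := by
  have key : ∀ (r k : ℕ), k + r = p → 2 ≤ k → ∀ f : ℕ → G, IsPoly 0 f → (∀ i < k, f i = 1) → f p = 1 := by
    intro r
    induction r with
    | zero =>
      intro k hk _ f hf hv
      have : f = fun _ => 1 := IsPoly.eq_of_eqOn hN p 0 (by omega) hf (isPoly_one 0)
        (fun i hi => hv i (by omega))
      rw [this]
    | succ r ih =>
      intro k hk hk2 f hf hv
      set c := f k with hc
      have hck : c ∈ filt G k := by
        have := hf k 0
        rwa [iterate_diff_eq k hv, zero_add] at this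
      have hq : IsPoly 0 (fun n => c ^ n.choose k) := isPoly_choose_pow k 0 (by rwa [zero_add])
      have hcl := polyClosed hN 0
      have hh : IsPoly 0 (f * (fun n => c ^ n.choose k)⁻¹) :=
        (hcl.1 0 le_rfl f _ hf (hcl.1 0 le_rfl _ _ hq hq).2).1
      have := ih (k + 1) (by omega) (by omega) _ hh (fun i hi => by
        simp only [Pi.mul_apply, Pi.inv_apply]
        rcases Nat.lt_succ_iff_lt_or_eq.mp hi with h | rfl
        · rw [hv i h, Nat.choose_eq_zero_of_lt h, pow_zero, inv_one, mul_one]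
        · rw [Nat.choose_self, pow_one, hc, mul_inv_cancel])
      simp only [Pi.mul_apply, Pi.inv_apply] at this
      obtain ⟨e, he⟩ := hp.dvd_choose_self (show k ≠ 0 by omega) (show k < p by omega)
      rw [he, pow_mul, hexp c (filt_antitone hk2 hck), one_pow, inv_one, mul_one] at this
      exact this
  refine key (p - 2) 2 (by have := hp.two_le; omega) le_rfl f hf fun i hi => ?_
  interval_cases i
  · exact h0
  · exact h1

/-- Hall–Petrescu: in class less than `p`, with `p`-th powers in the derived subgroup trivial, the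
product of two elements of order dividing `p` has order dividing `p`. -/
theorem mul_pow_prime_eq_one {p : ℕ} (hp : p.Prime)
    (hcl : (⊤ : Subgroup G).lowerCentralSeries (p - 1) = ⊥)
    (hexp : ∀ z ∈ _root_.commutator G, z ^ p = 1) {x y : G} (hx : x ^ p = 1) (hy : y ^ p = 1) :
    (x * y) ^ p = 1 := by
  have hN : filt G p = ⊥ := hcl
  have hexp2 : ∀ z ∈ filt G 2, z ^ p = 1 := by
    intro z hz
    exact hexp z (top_lowerCentralSeries_one (G := G) ▸ hz)
  have hcl' := polyClosed hN 0
  have hP : ∀ z : G, IsPoly 0 (fun n => z ^ n) := isPoly_pow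
  have hf := (hcl'.1 0 le_rfl _ _ ((hcl'.1 0 le_rfl _ _ (hP (x * y))
    (hcl'.1 0 le_rfl _ _ (hP y) (hP y)).2).1) (hcl'.1 0 le_rfl _ _ (hP x) (hP x)).2).1
  have := isPoly_apply_prime hp hN hexp2 hf (by simp) (by simp [mul_assoc])
  simpa [hx, hy] using this

end Cfsg.Agent.FG38
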