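import Cfsg.Prelude.Def_LocalStructure
import Cfsg.Agent.Lib.Coprime.Action
import Cfsg.Agent.Lib.Fitting.Minimal
import Cfsg.Agent.FG38.PolyMap
import Cfsg.Agent.FG38.Irreducible

/-!
Minimal non-`p`-closed and minimal non-`p`-exponent-closed groups.
-/

set_option autoImplicit false

namespace Cfsg.Agent.FG38

open Subgroup
open scoped commutatorElement Pointwise

theorem closed_of_pgroup_normal {G : Type*} [Group G] [Finite G] {p : ℕ} [Fact p.Prime]
    (N : Subgroup G) [N.Normal] (hN : IsPGroup p N) (h : Cfsg.IsPClosed p (G ⧸ N)) :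
    Cfsg.IsPClosed p G := by
  intro P
  have hn := h (P.mapSurjective (QuotientGroup.mk'_surjective N))
  rw [Sylow.coe_mapSurjective] at hn
  have h2 := hn.comap (QuotientGroup.mk' N)
  rwa [comap_map_eq, QuotientGroup.ker_mk', sup_eq_left.mpr (hN.le_sylow_of_normal P)] at h2

theorem closed_iff_exists {G : Type*} [Group G] [Finite G] {p : ℕ} [Fact p.Prime] :
    Cfsg.IsPClosed p G ↔ ∃ P : Sylow p G, (P : Subgroup G).Normal := by
  refine ⟨fun h => ⟨Classical.arbitrary _, h _⟩, fun ⟨P, hP⟩ Q => ?_⟩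
  haveI := hP
  haveI : Subsingleton (Sylow p G) := (Sylow.unique_of_normal P hP).instSubsingleton
  rwa [Subsingleton.elim Q P]

theorem mem_normalizer_fintype' {G : Type*} [Group G] [Finite G] {B : Subgroup G} {g : G}
    (h : ∀ b ∈ B, g * b * g⁻¹ ∈ B) : g ∈ normalizer (B : Set G) := by
  rw [mem_normalizer_iff]
  intro y
  refine ⟨h y, fun hy => ?_⟩
  obtain ⟨⟨z, hz⟩, hzy⟩ := Finite.surjective_of_injective (f := fun b : B => (⟨g * b * g⁻¹, h b b.2⟩ : B))
    (fun a b hab => Subtype.ext (mul_left_cancel (mul_right_cancel (congrArg Subtype.val hab)))) ⟨_, hy⟩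
  have : z = y := mul_left_cancel (mul_right_cancel (congrArg Subtype.val hzy))
  exact this ▸ hz

/-- Common analysis of the two minimal configurations. -/
theorem structure_semidirect {G : Type*} [Group G] [Finite G] {p : ℕ} [hp : Fact p.Prime]
    (N : Subgroup G) (hN : Fitting.IsMinNormal N) (hpN : ¬ p ∣ Nat.card N) (P : Subgroup G)
    (hP : IsPGroup p P) (hPN : P ⊔ N = ⊤)
    (hcl : ∀ P₀ Q : Subgroup G, P₀ ≤ P → Q ≤ N → P₀ ≤ normalizer (Q : Set G) → P₀ ⊔ Q ≠ ⊤ →
      Q ≤ normalizer (P₀ : Set G))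
    (hnc : ¬ N ≤ centralizer (P : Set G)) :
    ∃ (q : ℕ) (g : G), q.Prime ∧ q ≠ p ∧ Cfsg.IsElementaryAbelian q N ∧ P = zpowers g ∧
      (zpowers (g ^ p)).Normal ∧ N ≤ centralizer (zpowers (g ^ p) : Set G) ∧
      (g ^ p = 1 → Nat.card N = q ^ orderOf (q : ZMod p)) := by
  haveI := hN.1
  have hnormN : normalizer (N : Set G) = ⊤ := normalizer_eq_top_iff.mpr hN.1
  have hcop : (Nat.card P).Coprime (Nat.card N) := by
    obtain ⟨a, ha⟩ := IsPGroup.iff_card.mp hP
    rw [ha]
    exact Nat.Coprime.pow_left _ (hp.out.coprime_iff_not_dvd.mpr hpN)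
  have hinf : P ⊓ N = ⊥ := inf_eq_bot_of_coprime hcop
  -- proper `P₀ ⊔ Q` forces centralisation
  have hcent : ∀ P₀ Q : Subgroup G, P₀ ≤ P → Q ≤ N → P₀ ≤ normalizer (Q : Set G) → P₀ ⊔ Q ≠ ⊤ →
      Q ≤ centralizer (P₀ : Set G) := by
    intro P₀ Q h1 h2 h3 h4 x hx
    rw [mem_centralizer_iff]
    intro y hy
    have hmem : y * x * y⁻¹ * x⁻¹ ∈ P₀ ⊓ Q := by
      refine ⟨?_, Q.mul_mem ((mem_normalizer_iff.mp (h3 hy) x).mp hx) (Q.inv_mem hx)⟩
      have h5 := (mem_normalizer_iff.mp (hcl P₀ Q h1 h2 h3 h4 hx) y⁻¹).mp (P₀.inv_mem hy)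
      have h6 := P₀.mul_mem hy h5
      simpa [mul_assoc] using h6
    have hbot : P₀ ⊓ Q = ⊥ := eq_bot_iff.mpr ((inf_le_inf h1 h2).trans hinf.le)
    rw [hbot, mem_bot, mul_inv_eq_one, mul_inv_eq_iff_eq_mul] at hmem
    exact hmem
  have hsupeq : ∀ P₀ Q : Subgroup G, P₀ ≤ P → Q ≤ N → P₀ ≤ normalizer (Q : Set G) → P₀ ⊔ Q = ⊤ →
      P₀ = P ∧ Q = N := by
    intro P₀ Q h1 h2 h3 h4
    constructor
    · refine le_antisymm h1 fun x hx => ?_
      have : x ∈ ((P₀ ⊔ N : Subgroup G)) := (sup_le_sup_left h2 P₀) (h4.symm ▸ mem_top x)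
      obtain ⟨a, ha, b, hb, rfl⟩ := (mem_sup_of_normal_right (s := P₀) (t := N)).mp this
      have hb' : b ∈ P ⊓ N := ⟨by simpa using P.mul_mem (P.inv_mem (h1 ha)) hx, hb⟩
      rw [hinf, mem_bot] at hb'
      rw [hb', mul_one]; exact ha
    · refine le_antisymm h2 fun x hx => ?_
      have h5 : (↑(P₀ ⊔ Q) : Set G) = (P₀ : Set G) * (Q : Set G) := coe_mul_of_left_le_normalizer_right _ _ h3
      have hxm : x ∈ (P₀ : Set G) * (Q : Set G) := by rw [← h5, h4]; trivial
      obtain ⟨a, ha, b, hb, rfl⟩ := hxm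
      have ha' : a ∈ P ⊓ N := ⟨h1 ha, by simpa using N.mul_mem hx (N.inv_mem (h2 hb))⟩
      rw [hinf, mem_bot] at ha'
      simpa [ha'] using hb
  -- N is a q-group
  obtain ⟨q, hq, hqN⟩ := Nat.exists_prime_and_dvd
    (show Nat.card N ≠ 1 from fun h => hN.2.1 (eq_bot_of_card_eq N h))
  have hqp : q ≠ p := fun h => hpN (h ▸ hqN)
  haveI := Fact.mk hq
  have hsolvP : Group.IsSolvable P := by haveI := hP.isNilpotent; infer_instance
  have hPnorm : P ≤ normalizer (N : Set G) := hnormN ▸ le_top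
  have hNq : IsPGroup q N := by
    by_contra hNq
    apply hnc
    have hC : ∀ r : ℕ, r.Prime →
        r ^ (Nat.card N).factorization r ∣ Nat.card ↥(N ⊓ centralizer (P : Set G)) := by
      intro r hr
      haveI := Fact.mk hr
      obtain ⟨Q, hQ⟩ := Coprime.exists_invariant_sylow P N hPnorm hcop (Or.inl hsolvP) r
      set Q' := (Q : Subgroup N).map N.subtype
      have hQ'N : Q' ≤ N := map_subtype_le _
      have hle : Q' ≤ centralizer (P : Set G) := by
        apply hcent P Q' le_rfl hQ'N hQ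
        intro h
        have hQN : Q' = N := (hsupeq P Q' le_rfl hQ'N hQ h).2
        apply hNq
        have hNr : IsPGroup r N := hQN ▸ Q.isPGroup'.map N.subtype
        have : r = q := by
          obtain ⟨a, ha⟩ := IsPGroup.iff_card.mp hNr
          exact ((Nat.prime_dvd_prime_iff_eq hq hr).mp (hq.dvd_of_dvd_pow (ha ▸ hqN))).symm
        exact this ▸ hNr
      rw [← Q.card_eq_multiplicity, ← Subgroup.card_map_of_injective (K := (Q : Subgroup N)) N.subtype_injective]
      exact card_dvd_of_le (le_inf hQ'N hle)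
    have heq : N ⊓ centralizer (P : Set G) = N := by
      refine Subgroup.eq_of_le_of_card_ge inf_le_left (Nat.le_of_dvd Nat.card_pos ?_)
      rw [← Nat.factorization_le_iff_dvd Nat.card_pos.ne' Nat.card_pos.ne']
      intro r
      by_cases hr : r.Prime
      · exact (hr.pow_dvd_iff_le_factorization Nat.card_pos.ne').mp (hC r hr)
      · rw [Nat.factorization_eq_zero_of_not_prime _ hr]; exact Nat.zero_le _
    exact inf_eq_left.mp heq
  haveI : Group.IsSolvable N := by haveI := hNq.isNilpotent; infer_instance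
  haveI := hN.isMulCommutative
  obtain ⟨q', hq', hNel'⟩ := hN.exists_isElementaryAbelian
  obtain rfl : q' = q := by
    haveI := Fact.mk hq'
    obtain ⟨a, ha⟩ := IsPGroup.iff_card.mp (Fitting.isPGroup_of_isElementaryAbelian hNel')
    exact ((Nat.prime_dvd_prime_iff_eq hq hq').mp (hq.dvd_of_dvd_pow (ha ▸ hqN))).symm
  -- P is cyclic
  have hprop : ∀ P₀ : Subgroup G, P₀ < P → N ≤ centralizer (P₀ : Set G) := by
    intro P₀ h
    have hn : P₀ ≤ normalizer (N : Set G) := hnormN ▸ le_top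
    exact hcent P₀ N h.le le_rfl hn (fun ht => h.ne (hsupeq P₀ N h.le le_rfl hn ht).1)
  obtain ⟨g, hgP⟩ : ∃ g, P = zpowers g := by
    by_contra hcyc
    push Not at hcyc
    apply hnc
    intro x hx
    rw [mem_centralizer_iff]
    intro y hy
    exact mem_centralizer_iff.mp (hprop (zpowers y)
      (lt_of_le_of_ne (zpowers_le.mpr hy) (fun h => hcyc y h.symm)) hx) y (mem_zpowers y)
  have hgmem : g ∈ P := hgP ▸ mem_zpowers g
  have hlt : zpowers (g ^ p) < P := by
    rw [hgP]
    refine lt_of_le_of_ne (zpowers_le.mpr (pow_mem (mem_zpowers g) p)) fun h => ?_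
    obtain ⟨a, ha⟩ := IsPGroup.iff_orderOf.mp hP ⟨g, hgmem⟩
    rw [Subgroup.orderOf_mk] at ha
    have h1 : Nat.card (zpowers (g ^ p)) = Nat.card (zpowers g) := by rw [h]
    rw [Nat.card_zpowers, Nat.card_zpowers, orderOf_pow, ha] at h1
    rcases Nat.eq_zero_or_pos a with rfl | ha0
    · apply hnc
      rw [pow_zero, orderOf_eq_one_iff] at ha
      intro x _
      rw [mem_centralizer_iff]
      intro y hy
      rw [hgP, ha, zpowers_one_eq_bot] at hy
      rw [mem_bot.mp hy, one_mul, mul_one]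
    · rw [Nat.gcd_eq_right (dvd_pow_self p ha0.ne')] at h1
      exact absurd h1 (Nat.ne_of_lt (Nat.div_lt_self (pow_pos hp.out.pos a) hp.out.one_lt))
  have hcen := hprop _ hlt
  refine ⟨_, g, hq, hqp, hNel', hgP, ?_, hcen, fun hg => ?_⟩
  · rw [← normalizer_eq_top_iff, eq_top_iff, ← hPN]
    refine sup_le ?_ (hcen.trans (centralizer_le_normalizer _))
    rw [hgP, zpowers_le, mem_normalizer_iff]
    have hc : ∀ y ∈ zpowers (g ^ p), g * y * g⁻¹ = y := by
      intro y hy
      obtain ⟨i, rfl⟩ := mem_zpowers_iff.mp hy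
      rw [((Commute.refl g).pow_right p |>.zpow_right i).eq, mul_inv_cancel_right]
    intro y
    constructor
    · intro hy; rwa [hc y hy]
    · intro hy
      have h2 : g * (g * y * g⁻¹) * g⁻¹ = g * y * g⁻¹ := hc _ hy
      have : g * y * g⁻¹ = y := mul_left_cancel (mul_right_cancel h2)
      rwa [this] at hy
  · refine card_irreducible_prime_order hqp N hNel' hN.2.1 hg (fun a ha => hN.1.conj_mem a ha g)
      (fun B hB hBg => ?_) ?_
    · haveI hBn : B.Normal := by
        rw [← normalizer_eq_top_iff, eq_top_iff, ← hPN]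
        refine sup_le ?_ fun x hx => ?_
        · rw [hgP, zpowers_le]
          exact mem_normalizer_fintype' hBg
        · rw [mem_normalizer_iff]
          intro y
          constructor
          · intro hy
            rw [setLike_mul_comm hx (hB hy), mul_inv_cancel_right]; exact hy
          · intro hy
            have hyN : y ∈ N := by
              have := N.mul_mem (N.mul_mem (N.inv_mem hx) (hB hy)) hx
              simpa [mul_assoc] using this
            rwa [setLike_mul_comm hx hyN, mul_inv_cancel_right] at hy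
      exact hN.2.2 B hBn hB
    · by_contra hall
      push Not at hall
      apply hnc
      intro x hx
      rw [mem_centralizer_iff]
      intro y hy
      rw [hgP] at hy
      obtain ⟨i, rfl⟩ := mem_zpowers_iff.mp hy
      exact (((show Commute g x from hall x hx)).zpow_left i).eq

end Cfsg.Agent.FG38
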