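import Cfsg.Agent.FG38.MinNonClosed
import Mathlib.GroupTheory.Frattini

/-!
The five statements on minimal non-`p`-closed and non-`p`-exponent-closed groups.
-/

set_option autoImplicit false

namespace Cfsg.Agent.FG38

open Subgroup
open scoped commutatorElement Pointwise

variable {G : Type*} [Group G] [Finite G] {p : ℕ} [hp : Fact p.Prime]

theorem sylow_normal_in (hsub : ∀ H : Subgroup G, H ≠ ⊤ → Cfsg.IsPClosed p ↥H) {H : Subgroup G}
    (hH : H ≠ ⊤) (P : Sylow p G) (hP : (P : Subgroup G) ≤ H) :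
    H ≤ normalizer ((P : Subgroup G) : Set G) := by
  have hn := hsub H hH (P.subtype hP)
  rw [Sylow.coe_subtype] at hn
  exact (normal_subgroupOf_iff_le_normalizer hP).mp hn

/-- A subgroup containing a prime-to-`p` normal subgroup with `P₀ ⊔ Q` proper. -/
theorem normalizes_of_closed (hsub : ∀ H : Subgroup G, H ≠ ⊤ → Cfsg.IsPClosed p ↥H)
    {P₀ Q : Subgroup G} (hP₀ : IsPGroup p P₀) (hQp : ¬ p ∣ Nat.card Q)
    (hn : P₀ ≤ normalizer (Q : Set G)) (hne : P₀ ⊔ Q ≠ ⊤) : Q ≤ normalizer (P₀ : Set G) := by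
  set H := P₀ ⊔ Q
  have hc := hsub H hne
  have hidx : ¬ p ∣ (P₀.subgroupOf H).index := by
    intro hd
    have hinf : P₀ ⊓ Q = ⊥ := inf_eq_bot_of_coprime (by
      obtain ⟨a, ha⟩ := IsPGroup.iff_card.mp hP₀
      rw [ha]
      exact Nat.Coprime.pow_left _ (hp.out.coprime_iff_not_dvd.mpr hQp))
    apply hQp
    have hcard : Nat.card H = Nat.card P₀ * Nat.card Q := by
      rw [← Nat.card_prod]
      refine (Nat.card_eq_of_bijective (fun x : P₀ × Q => (⟨(x.1 : G) * x.2,
        mul_mem (le_sup_left (b := Q) x.1.2) (le_sup_right (a := P₀) x.2.2)⟩ : H)) ⟨?_, ?_⟩).symm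
      · rintro ⟨a, b⟩ ⟨c, d⟩ h
        have := mul_injective_of_disjoint (disjoint_iff.mpr hinf) (a₁ := (a, b)) (a₂ := (c, d))
          (congrArg Subtype.val h)
        exact this
      · rintro ⟨x, hx⟩
        have h5 : (↑(P₀ ⊔ Q) : Set G) = (P₀ : Set G) * (Q : Set G) :=
          coe_mul_of_left_le_normalizer_right _ _ hn
        have hxm : x ∈ (P₀ : Set G) * (Q : Set G) := by rw [← h5]; exact hx
        obtain ⟨a, ha, b, hb, rfl⟩ := hxm
        exact ⟨(⟨a, ha⟩, ⟨b, hb⟩), rfl⟩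
    have h2 := card_mul_index (P₀.subgroupOf H)
    rw [Nat.card_congr (subgroupOfEquivOfLe (le_sup_left : P₀ ≤ H)).toEquiv, hcard] at h2
    rwa [Nat.eq_of_mul_eq_mul_left Nat.card_pos h2] at hd
  have hnorm := hc ((hP₀.comap_subtype (K := H)).toSylow hidx)
  change (P₀.subgroupOf H).Normal at hnorm
  exact le_sup_right.trans ((normal_subgroupOf_iff_le_normalizer le_sup_left).mp hnorm)

theorem nonclosed_structure (hnc : ¬ Cfsg.IsPClosed p G)
    (hsub : ∀ H : Subgroup G, H ≠ ⊤ → Cfsg.IsPClosed p ↥H)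
    (hquo : ∀ (N : Subgroup G) [N.Normal], N ≠ ⊥ → Cfsg.IsPClosed p (G ⧸ N)) (hns : ¬ IsSimpleGroup G) :
    ∃ q : ℕ, q.Prime ∧ q ≠ p ∧ Nat.card G = p * q ^ orderOf (q : ZMod p) ∧
      ∃ A : Subgroup G, A.Normal ∧ Nat.card ↥A = q ^ orderOf (q : ZMod p) ∧ Cfsg.IsElementaryAbelian q A ∧
        ∀ B : Subgroup G, B.Normal → B ≤ A → B = ⊥ ∨ B = A := by
  haveI : Nontrivial G := by
    by_contra h
    rw [not_nontrivial_iff_subsingleton] at h
    exact hnc fun P => by
      rw [Subsingleton.elim (P : Subgroup G) ⊤]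
      infer_instance
  obtain ⟨M, hM⟩ := Fitting.exists_isMinNormal (G := G)
  haveI := hM.1
  have hMtop : M ≠ ⊤ := by
    intro h
    exact hns ⟨fun K hK => h ▸ hM.2.2 K hK (h ▸ le_top)⟩
  have hpM : ¬ p ∣ Nat.card M := by
    intro hd
    obtain ⟨S⟩ := (inferInstance : Nonempty (Sylow p M))
    haveI := hsub M hMtop S
    haveI := Sylow.characteristic_of_normal S inferInstance
    rcases hM.2.2 ((S : Subgroup M).map M.subtype) inferInstance (map_subtype_le _) with h | h
    · rw [map_eq_bot_iff_of_injective _ M.subtype_injective] at h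
      exact S.ne_bot_of_dvd_card hd h
    · exact hnc (closed_of_pgroup_normal M (h ▸ S.isPGroup'.map M.subtype) (hquo M hM.2.1))
  obtain ⟨P⟩ := (inferInstance : Nonempty (Sylow p G))
  have hPn : ¬ (P : Subgroup G).Normal := fun h => hnc (closed_iff_exists.mpr ⟨P, h⟩)
  have hPM : (P : Subgroup G) ⊔ M = ⊤ := by
    by_contra hne
    apply hPn
    haveI hK : ((P : Subgroup G) ⊔ M).Normal := by
      have hn := hquo M hM.2.1 (P.mapSurjective (QuotientGroup.mk'_surjective M))
      rw [Sylow.coe_mapSurjective] at hn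
      have h2 := hn.comap (QuotientGroup.mk' M)
      rwa [comap_map_eq, QuotientGroup.ker_mk'] at h2
    have hS := hsub _ hne (P.subtype le_sup_left)
    haveI := Sylow.characteristic_of_normal (P.subtype (le_sup_left : (P : Subgroup G) ≤ (P : Subgroup G) ⊔ M)) hS
    have hmap : (((P.subtype (le_sup_left : (P : Subgroup G) ≤ (P : Subgroup G) ⊔ M)) :
        Sylow p ↥((P : Subgroup G) ⊔ M)) : Subgroup ↥((P : Subgroup G) ⊔ M)).map
          ((P : Subgroup G) ⊔ M).subtype = (P : Subgroup G) := by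
      rw [Sylow.coe_subtype, subgroupOf_map_subtype, inf_eq_left.mpr le_sup_left]
    rw [← hmap]
    infer_instance
  obtain ⟨q, g, hq, hqp, hel, hPg, hgn, -, hcard⟩ := structure_semidirect M hM hpM (P : Subgroup G)
    P.isPGroup' hPM (fun P₀ Q h1 h2 h3 h4 => normalizes_of_closed hsub (P.isPGroup'.to_le h1)
      (fun hd => hpM (hd.trans (card_dvd_of_le h2))) h3 h4) (by
      intro hc
      apply hPn
      rw [← normalizer_eq_top_iff, eq_top_iff, ← hPM]
      exact sup_le le_normalizer (hc.trans (centralizer_le_normalizer _)))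
  have hg1 : g ^ p = 1 := by
    by_contra hne
    haveI := hgn
    apply hnc
    refine closed_of_pgroup_normal (zpowers (g ^ p)) (P.isPGroup'.to_le ?_) (hquo _ ?_)
    · rw [hPg]; exact zpowers_le.mpr (pow_mem (mem_zpowers g) p)
    · rw [Ne, zpowers_eq_bot]; exact hne
  have hgne : g ≠ 1 := by
    intro h
    apply hPn
    rw [hPg, h, zpowers_one_eq_bot]
    infer_instance
  refine ⟨q, hq, hqp, ?_, M, hM.1, hcard hg1, hel, hM.2.2⟩
  have hdisj : (P : Subgroup G) ⊓ M = ⊥ := inf_eq_bot_of_coprime (by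
    rw [P.card_eq_multiplicity]
    exact Nat.Coprime.pow_left _ (hp.out.coprime_iff_not_dvd.mpr hpM))
  have hcompl : IsComplement' (P : Subgroup G) M := by
    apply isComplement'_of_disjoint_and_mul_eq_univ (disjoint_iff.mpr hdisj)
    rw [← mul_normal, hPM]; rfl
  rw [← hcompl.card_mul, hcard hg1, hPg, Nat.card_zpowers, orderOf_eq_prime hg1 hgne]

theorem ti_of_min_nonclosed [IsSimpleGroup G] (hnc : ¬ Cfsg.IsPClosed p G)
    (hsub : ∀ H : Subgroup G, H ≠ ⊤ → Cfsg.IsPClosed p ↥H) :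
    (∀ P Q : Sylow p G, P ≠ Q → (P : Subgroup G) ⊓ (Q : Subgroup G) = ⊥) ∧
      ∀ (P : Sylow p G) (R : Subgroup G), R ≤ P → R ≠ ⊥ →
        Subgroup.normalizer (R : Set G) ≤ Subgroup.normalizer ((P : Subgroup G) : Set G) := by
  have hnontriv : ∀ R : Subgroup G, IsPGroup p R → R ≠ ⊥ → normalizer (R : Set G) ≠ ⊤ := by
    intro R hR hR0 h
    haveI := normalizer_eq_top_iff.mp h
    rcases (inferInstance : R.Normal).eq_bot_or_eq_top with h1 | h1
    · exact hR0 h1
    · apply hnc
      intro P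
      have hP : (P : Subgroup G) = R :=
        le_antisymm (h1 ▸ le_top) (hR.le_sylow_of_normal P)
      rw [hP]; infer_instance
  -- the normaliser of a non-trivial p-subgroup has a unique Sylow
  have huniq : ∀ (D : Subgroup G), IsPGroup p D → D ≠ ⊥ → ∃ S : Subgroup G, IsPGroup p S ∧
      ∀ R : Subgroup G, R ≤ normalizer (D : Set G) → IsPGroup p R → R ≤ S := by
    intro D hD hD0
    obtain ⟨S⟩ := (inferInstance : Nonempty (Sylow p (normalizer (D : Set G))))
    haveI := hsub _ (hnontriv D hD hD0) S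
    refine ⟨(S : Subgroup _).map (normalizer (D : Set G)).subtype, S.isPGroup'.map _, fun R hR hRp => ?_⟩
    intro x hx
    obtain ⟨T, hT⟩ := IsPGroup.exists_le_sylow (hRp.comap_subtype (K := normalizer (D : Set G)))
    haveI : Subsingleton (Sylow p (normalizer (D : Set G))) :=
      (Sylow.unique_of_normal S inferInstance).instSubsingleton
    rw [Subsingleton.elim T S] at hT
    exact ⟨⟨x, hR hx⟩, hT (show (⟨x, hR hx⟩ : normalizer (D : Set G)) ∈ R.subgroupOf _ from hx), rfl⟩
  have hgrow : ∀ (D S : Subgroup G), IsPGroup p S → D < S → D < S ⊓ normalizer (D : Set G) := by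
    intro D S hS hlt
    haveI := hS.isNilpotent
    have hne : D.subgroupOf S < ⊤ := lt_top_iff_ne_top.mpr fun h => hlt.not_ge (subgroupOf_eq_top.mp h)
    have := (normalizerCondition_of_isNilpotent (G := S)) _ hne
    obtain ⟨y, hy, hyD⟩ := SetLike.exists_of_lt this
    refine lt_of_le_of_ne (le_inf hlt.le le_normalizer) fun h => hyD ?_
    change (y : G) ∈ D
    rw [h]
    refine ⟨y.2, ?_⟩
    change (y : G) ∈ normalizer (D : Set G)
    rw [mem_normalizer_iff]
    intro x
    constructor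
    · intro hx
      exact (mem_normalizer_iff.mp hy ⟨x, hlt.le hx⟩).mp hx
    · intro hx
      have hxS : x ∈ S := by
        have := S.mul_mem (S.mul_mem (S.inv_mem y.2) (hlt.le hx)) y.2
        simpa [mul_assoc] using this
      exact (mem_normalizer_iff.mp hy ⟨x, hxS⟩).mpr hx
  have hTI : ∀ P Q : Sylow p G, P ≠ Q → (P : Subgroup G) ⊓ (Q : Subgroup G) = ⊥ := by
    by_contra hne
    push Not at hne
    obtain ⟨P₀, Q₀, hPQ₀, hne₀⟩ := hne
    obtain ⟨D, -, hD⟩ := (Set.toFinite {D : Subgroup G | ∃ P Q : Sylow p G, P ≠ Q ∧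
      (P : Subgroup G) ⊓ (Q : Subgroup G) = D ∧ D ≠ ⊥}).exists_le_maximal
        (a := (P₀ : Subgroup G) ⊓ (Q₀ : Subgroup G)) ⟨P₀, Q₀, hPQ₀, rfl, hne₀⟩
    obtain ⟨P, Q, hPQ, hDeq, hD0⟩ := hD.1
    have hDP : D < (P : Subgroup G) := by
      refine lt_of_le_of_ne (hDeq ▸ inf_le_left) fun h => hPQ (Sylow.ext ?_)
      exact (P.3 Q.isPGroup' (h ▸ hDeq ▸ inf_le_right)).symm
    have hDQ : D < (Q : Subgroup G) := by
      refine lt_of_le_of_ne (hDeq ▸ inf_le_right) fun h => hPQ (Sylow.ext ?_)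
      exact Q.3 P.isPGroup' (h ▸ hDeq ▸ inf_le_left)
    obtain ⟨S, hS, hSu⟩ := huniq D (P.isPGroup'.to_le hDP.le) hD0
    obtain ⟨T, hT⟩ := hS.exists_le_sylow
    have key : ∀ R : Sylow p G, D < (R : Subgroup G) → R = T := by
      intro R hR
      by_contra hne
      have h1 : (R : Subgroup G) ⊓ normalizer (D : Set G) ≤ (R : Subgroup G) ⊓ (T : Subgroup G) :=
        le_inf inf_le_left ((hSu _ inf_le_right (R.isPGroup'.to_le inf_le_left)).trans hT)
      have h2 : D < (R : Subgroup G) ⊓ (T : Subgroup G) := (hgrow D R R.isPGroup' hR).trans_le h1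
      exact h2.not_ge (hD.2 ⟨R, T, hne, rfl, fun h => hD0 (le_bot_iff.mp (h ▸ h2.le))⟩ h2.le)
    exact hPQ ((key P hDP).trans (key Q hDQ).symm)
  refine ⟨hTI, fun P R hRP hR0 g hg => ?_⟩
  refine Sylow.smul_eq_iff_mem_normalizer.mp ?_
  by_contra hne
  apply hR0
  rw [eq_bot_iff, ← hTI _ _ hne]
  refine le_inf ?_ hRP
  intro x hx
  have hx' : g⁻¹ * x * g ∈ R := (mem_normalizer_iff.mp hg _).mpr (by simpa [mul_assoc] using hx)
  exact ⟨g⁻¹ * x * g, hRP hx', by simp [mul_assoc]⟩

theorem nonclosed_of_irreducible {q : ℕ} (hq : q.Prime) (hpq : q ≠ p) (hna : ¬ IsMulCommutative G)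
    (A : Subgroup G) [A.Normal] (hA : Cfsg.IsElementaryAbelian q A) (hidx : A.index = p)
    (hmin : ∀ B : Subgroup G, B.Normal → B ≤ A → B = ⊥ ∨ B = A) :
    Nat.card ↥A = q ^ orderOf (q : ZMod p) ∧ ¬ Cfsg.IsPClosed p G ∧
      (∀ H : Subgroup G, H ≠ ⊤ → Cfsg.IsPClosed p ↥H) ∧
      ∀ (N : Subgroup G) [N.Normal], N ≠ ⊥ → Cfsg.IsPClosed p (G ⧸ N) := by
  haveI := Fact.mk hq
  haveI := hA.1
  have hAc : ∀ x ∈ A, ∀ y ∈ A, x * y = y * x := fun x hx y hy => setLike_mul_comm hx hy
  have hgen : ∀ g, g ∉ A → A ⊔ zpowers g = ⊤ := by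
    intro g hg
    have hlt : A < A ⊔ zpowers g :=
      lt_of_le_of_ne le_sup_left fun h => hg (h ▸ le_sup_right (a := A) (mem_zpowers g))
    rcases (Nat.dvd_prime hp.out).mp (hidx ▸ index_dvd_of_le hlt.le) with h | h
    · exact index_eq_one.mp h
    · exfalso
      apply hlt.ne
      refine Subgroup.eq_of_le_of_card_ge hlt.le (le_of_eq ?_)
      have e1 := card_mul_index A
      have e2 := card_mul_index (A ⊔ zpowers g)
      rw [hidx] at e1
      rw [h] at e2
      exact Nat.eq_of_mul_eq_mul_right hp.out.pos (e2.trans e1.symm)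
  have hcA : ∀ g, g ∉ A → ∃ a ∈ A, g * a ≠ a * g := by
    intro g hg
    by_contra hall
    push Not at hall
    apply hna
    have hgen' : closure ((A : Set G) ∪ {g}) = ⊤ := by
      rw [Subgroup.closure_union, closure_eq, ← zpowers_eq_closure, hgen g hg]
    have := isMulCommutative_closure (k := (A : Set G) ∪ {g}) (by
      rintro x (hx | hx) y (hy | hy)
      · exact hAc x hx y hy
      · rw [Set.mem_singleton_iff.mp hy]; exact (hall x hx).symm
      · rw [Set.mem_singleton_iff.mp hx]; exact hall y hy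
      · rw [Set.mem_singleton_iff.mp hx, Set.mem_singleton_iff.mp hy])
    rw [hgen'] at this
    exact ⟨⟨fun x y => congrArg Subtype.val
      (this.is_comm.comm (⟨x, mem_top x⟩ : (⊤ : Subgroup G)) ⟨y, mem_top y⟩)⟩⟩
  have hirr : ∀ g, g ∉ A → ∀ B : Subgroup G, B ≤ A → (∀ b ∈ B, g * b * g⁻¹ ∈ B) → B = ⊥ ∨ B = A := by
    intro g hg B hB hBg
    refine hmin B ?_ hB
    rw [← normalizer_eq_top_iff, eq_top_iff, ← hgen g hg]
    refine sup_le (fun x hx => mem_normalizer_fintype' fun b hb => ?_)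
      (zpowers_le.mpr (mem_normalizer_fintype' hBg))
    rw [hAc x hx b (hB hb), mul_inv_cancel_right]; exact hb
  have hA1 : A ≠ ⊥ := by
    intro h
    obtain ⟨g, -, hg⟩ := SetLike.exists_of_lt (lt_top_iff_ne_top.mpr
      (fun ht : A = ⊤ => hp.out.one_lt.ne' (by rw [← hidx, ht, index_top])))
    obtain ⟨a, ha, hne⟩ := hcA g hg
    rw [h, mem_bot] at ha
    exact hne (by rw [ha, mul_one, one_mul])
  have hAp : ¬ p ∣ Nat.card A := by
    obtain ⟨e, he⟩ := IsPGroup.iff_card.mp (Fitting.isPGroup_of_isElementaryAbelian hA)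
    rw [he]
    exact fun hd => hpq ((Nat.prime_dvd_prime_iff_eq hp.out hq).mp (hp.out.dvd_of_dvd_pow hd)).symm
  have hcardG : Nat.card G = Nat.card A * p := by rw [← hidx, card_mul_index]
  obtain ⟨g, hg⟩ := exists_prime_orderOf_dvd_card' (G := G) p (hcardG ▸ dvd_mul_left p _)
  have hgA : g ∉ A := fun h => hAp (by
    have hd := orderOf_dvd_natCard (G := A) ⟨g, h⟩
    rwa [Subgroup.orderOf_mk, hg] at hd)
  refine ⟨card_irreducible_prime_order hpq A hA hA1 (by rw [← hg, pow_orderOf_eq_one])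
    (fun a ha => ‹A.Normal›.conj_mem a ha g) (hirr g hgA) (hcA g hgA), ?_, ?_, ?_⟩
  · intro hc
    have hidx' : ¬ p ∣ (zpowers g).index := by
      intro hd
      have h := card_mul_index (zpowers g)
      rw [Nat.card_zpowers, hg, hcardG, mul_comm (Nat.card A)] at h
      exact hAp (Nat.eq_of_mul_eq_mul_left hp.out.pos h ▸ hd)
    have hgp : IsPGroup p (zpowers g) := IsPGroup.of_card (n := 1) (by rw [Nat.card_zpowers, hg, pow_one])
    have hn := hc (hgp.toSylow hidx')
    rw [IsPGroup.toSylow_coe] at hn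
    obtain ⟨a, ha, hne⟩ := hcA g hgA
    apply hne
    have h1 : g * a * g⁻¹ * a⁻¹ ∈ A ⊓ zpowers g :=
      ⟨A.mul_mem (‹A.Normal›.conj_mem a ha g) (A.inv_mem ha), by
        have := (zpowers g).mul_mem (mem_zpowers g) (hn.conj_mem _ (inv_mem (mem_zpowers g)) a)
        simpa [mul_assoc] using this⟩
    rw [inf_eq_bot_of_coprime (by
      rw [Nat.card_zpowers, hg]; exact (hp.out.coprime_iff_not_dvd.mpr hAp).symm), mem_bot,
      mul_inv_eq_one, mul_inv_eq_iff_eq_mul] at h1
    exact h1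
  · intro H hH S
    have hS : (S : Subgroup H) = ⊥ ∨ (S : Subgroup H) = ⊤ := by
      by_cases hHA : H ≤ A
      · left
        have hd : ¬ p ∣ Nat.card (S : Subgroup H) := fun hd =>
          hAp (hd.trans ((card_subgroup_dvd_card _).trans (card_dvd_of_le hHA)))
        obtain ⟨e, he⟩ := IsPGroup.iff_card.mp S.isPGroup'
        rcases Nat.eq_zero_or_pos e with h0 | h0
        · exact card_eq_one.mp (by rw [he, h0, pow_zero])
        · exact absurd (he ▸ dvd_pow_self p h0.ne') hd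
      · obtain ⟨x, hxH, hxA⟩ := SetLike.not_le_iff_exists.mp hHA
        rcases hirr x hxA (H ⊓ A) inf_le_right (fun b hb =>
          ⟨H.mul_mem (H.mul_mem hxH hb.1) (H.inv_mem hxH), ‹A.Normal›.conj_mem b hb.2 x⟩) with h | h
        · right
          have hHp : IsPGroup p H := by
            intro y
            refine ⟨1, Subtype.ext ?_⟩
            have h1 : (y : G) ^ p ∈ H ⊓ A := ⟨H.pow_mem y.2 p, hidx ▸ A.pow_index_mem (y : G)⟩
            rw [h, mem_bot] at h1
            simpa using h1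
          exact (S.3 (hHp.to_subgroup ⊤) le_top).symm
        · exfalso
          apply hH
          rw [eq_top_iff, ← hgen x hxA]
          exact sup_le (h ▸ inf_le_left) (zpowers_le.mpr hxH)
    rcases hS with h | h <;> rw [h] <;> infer_instance
  · intro N _ hN P
    have hAN : A ≤ N := by
      rcases hmin (N ⊓ A) inferInstance inf_le_right with h | h
      · exfalso
        obtain ⟨x, hxN, hx1⟩ := (Subgroup.bot_or_exists_ne_one N).resolve_left hN
        have hxA : x ∉ A := fun hxA => hx1 (by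
          have : x ∈ N ⊓ A := ⟨hxN, hxA⟩
          rwa [h, mem_bot] at this)
        obtain ⟨a, ha, hne⟩ := hcA x hxA
        have hmem : x * a * x⁻¹ * a⁻¹ ∈ N ⊓ A :=
          ⟨by simpa [mul_assoc] using N.mul_mem hxN (‹N.Normal›.conj_mem _ (N.inv_mem hxN) a),
            A.mul_mem (‹A.Normal›.conj_mem a ha x) (A.inv_mem ha)⟩
        rw [h, mem_bot, mul_inv_eq_one, mul_inv_eq_iff_eq_mul] at hmem
        exact hne hmem
      · exact h ▸ inf_le_left
    have hp' : IsPGroup p (G ⧸ N) := by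
      have hd : Nat.card (G ⧸ N) ∣ p ^ 1 := by
        rw [pow_one, ← index_eq_card, ← hidx]; exact index_dvd_of_le hAN
      obtain ⟨i, -, hi⟩ := (Nat.dvd_prime_pow hp.out).mp hd
      exact IsPGroup.of_card hi
    rw [(P.3 (hp'.to_subgroup ⊤) le_top).symm]
    infer_instance

section ExpClosed

omit hp in
theorem exists_omega_iff {H : Type*} [Group H] :
    (∃ K : Subgroup H, (K : Set H) = {g : H | g ^ p = 1}) ↔ ∀ x y : H, x ^ p = 1 → y ^ p = 1 → (x * y) ^ p = 1 := by
  constructor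
  · rintro ⟨K, hK⟩ x y hx hy
    have h1 : x ∈ (K : Set H) := hK ▸ hx
    have h2 : y ∈ (K : Set H) := hK ▸ hy
    exact (hK ▸ K.mul_mem h1 h2 : x * y ∈ {g : H | g ^ p = 1})
  · intro h
    exact ⟨{ carrier := {g : H | g ^ p = 1}
             one_mem' := one_pow _
             mul_mem' := fun ha hb => h _ _ ha hb
             inv_mem' := fun {a} ha => by
              change a⁻¹ ^ p = 1
              rw [inv_pow, show a ^ p = 1 from ha, inv_one] }, rfl⟩

theorem omega_sub (hsub : ∀ K : Subgroup G, K ≠ ⊤ → (∃ H : Subgroup ↥K, (H : Set ↥K) = {g : ↥K | g ^ p = 1}))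
    {K : Subgroup G} (hK : K ≠ ⊤) {x y : G} (hx : x ∈ K) (hy : y ∈ K) (hxp : x ^ p = 1) (hyp : y ^ p = 1) :
    (x * y) ^ p = 1 := by
  have := exists_omega_iff.mp (hsub K hK) ⟨x, hx⟩ ⟨y, hy⟩ (Subtype.ext hxp) (Subtype.ext hyp)
  exact congrArg Subtype.val this

theorem omega_pow_normal (hquo : ∀ (N : Subgroup G) [N.Normal], N ≠ ⊥ →
      (∃ H : Subgroup (G ⧸ N), (H : Set (G ⧸ N)) = {g : (G ⧸ N) | g ^ p = 1}))
    (N : Subgroup G) [N.Normal] (hN : N ≠ ⊥) {x y : G} (hx : x ^ p ∈ N) (hy : y ^ p ∈ N) :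
    (x * y) ^ p ∈ N := by
  have h1 := exists_omega_iff.mp (hquo N hN) (x : G ⧸ N) (y : G ⧸ N)
    (by rw [← QuotientGroup.mk_pow, QuotientGroup.eq_one_iff]; exact hx)
    (by rw [← QuotientGroup.mk_pow, QuotientGroup.eq_one_iff]; exact hy)
  rwa [← QuotientGroup.mk_mul, ← QuotientGroup.mk_pow, QuotientGroup.eq_one_iff] at h1

theorem expclosed_structure
    (hnc : ¬ (∃ H : Subgroup G, (H : Set G) = {g : G | g ^ p = 1}))
    (hsub : ∀ K : Subgroup G, K ≠ ⊤ → (∃ H : Subgroup ↥K, (H : Set ↥K) = {g : ↥K | g ^ p = 1}))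
    (hquo : ∀ (N : Subgroup G) [N.Normal], N ≠ ⊥ → (∃ H : Subgroup (G ⧸ N), (H : Set (G ⧸ N)) = {g : (G ⧸ N) | g ^ p = 1}))
    (hns : ¬ IsSimpleGroup G) (hnp : ¬ IsPGroup p G) :
    ∃ q : ℕ, q.Prime ∧ q ≠ p ∧ Nat.card G = p * q ^ orderOf (q : ZMod p) ∧
      ∃ A : Subgroup G, A.Normal ∧ Nat.card ↥A = q ^ orderOf (q : ZMod p) ∧ Cfsg.IsElementaryAbelian q A ∧
        ∀ B : Subgroup G, B.Normal → B ≤ A → B = ⊥ ∨ B = A := by
  haveI : Nontrivial G := by
    by_contra h
    rw [not_nontrivial_iff_subsingleton] at h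
    exact hnc (exists_omega_iff.mpr fun x y _ _ => Subsingleton.elim _ _)
  obtain ⟨M, hM⟩ := Fitting.exists_isMinNormal (G := G)
  haveI := hM.1
  have hMtop : M ≠ ⊤ := by
    intro h
    exact hns ⟨fun K hK => h ▸ hM.2.2 K hK (h ▸ le_top)⟩
  -- the preimage of the elements of order dividing `p` in the quotient
  obtain ⟨Ω, hΩ⟩ := hquo M hM.2.1
  set L := Ω.comap (QuotientGroup.mk' M) with hL
  have hLmem : ∀ x : G, x ∈ L ↔ x ^ p ∈ M := by
    intro x
    rw [hL, mem_comap, ← SetLike.mem_coe, hΩ]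
    change (x : G ⧸ M) ^ p = 1 ↔ _
    rw [← QuotientGroup.mk_pow, QuotientGroup.eq_one_iff]
  have hLtop : L = ⊤ := by
    by_contra hne
    apply hnc
    rw [exists_omega_iff]
    intro x y hx hy
    exact omega_sub hsub hne ((hLmem x).mpr (hx ▸ M.one_mem)) ((hLmem y).mpr (hy ▸ M.one_mem)) hx hy
  have hpM : ¬ p ∣ Nat.card M := by
    intro hd
    apply hnp
    obtain ⟨z, hz⟩ := exists_prime_orderOf_dvd_card' (G := M) p hd
    let K : Subgroup G :=
      { carrier := {g | g ∈ M ∧ g ^ p = 1}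
        one_mem' := ⟨M.one_mem, one_pow _⟩
        mul_mem' := fun {a b} ha hb => ⟨M.mul_mem ha.1 hb.1, omega_sub hsub hMtop ha.1 hb.1 ha.2 hb.2⟩
        inv_mem' := fun {a} ha => ⟨M.inv_mem ha.1, by rw [inv_pow, ha.2, inv_one]⟩ }
    have hK : K.Normal := ⟨fun a ha g => ⟨hM.1.conj_mem a ha.1 g, by
      rw [conj_pow, ha.2, mul_one, mul_inv_cancel]⟩⟩
    rcases hM.2.2 K hK (fun a ha => ha.1) with h | h
    · exfalso
      have h1 : (z : G) ∈ K := ⟨z.2, by rw [← coe_pow, ← hz, pow_orderOf_eq_one, coe_one]⟩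
      rw [h, mem_bot] at h1
      rw [Subtype.ext (h1.trans (coe_one M).symm), orderOf_one] at hz
      exact hp.out.one_lt.ne hz
    · intro x
      refine ⟨2, ?_⟩
      rw [pow_two, pow_mul]
      exact (h.ge ((hLmem x).mp (hLtop ▸ mem_top x))).2
  obtain ⟨P⟩ := (inferInstance : Nonempty (Sylow p G))
  have hdisj : (P : Subgroup G) ⊓ M = ⊥ := inf_eq_bot_of_coprime (by
    rw [P.card_eq_multiplicity]
    exact Nat.Coprime.pow_left _ (hp.out.coprime_iff_not_dvd.mpr hpM))
  have hexp : ∀ x ∈ (P : Subgroup G), x ^ p = 1 := fun x hx => by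
    have : x ^ p ∈ (P : Subgroup G) ⊓ M := ⟨pow_mem hx p, (hLmem x).mp (hLtop ▸ mem_top x)⟩
    rwa [hdisj, mem_bot] at this
  have hPM : (P : Subgroup G) ⊔ M = ⊤ := by
    have hQ : IsPGroup p (G ⧸ M) := by
      intro x
      obtain ⟨x, rfl⟩ := QuotientGroup.mk_surjective x
      refine ⟨1, ?_⟩
      rw [pow_one, ← QuotientGroup.mk_pow, QuotientGroup.eq_one_iff]
      exact (hLmem x).mp (hLtop ▸ mem_top x)
    have h := (P.mapSurjective (QuotientGroup.mk'_surjective M)).3 (hQ.to_subgroup ⊤) le_top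
    rw [Sylow.coe_mapSurjective] at h
    have h2 := congrArg (Subgroup.comap (QuotientGroup.mk' M)) h.symm
    rwa [comap_map_eq, QuotientGroup.ker_mk', comap_top] at h2
  have hcl : ∀ P₀ Q : Subgroup G, P₀ ≤ P → Q ≤ M → P₀ ≤ normalizer (Q : Set G) → P₀ ⊔ Q ≠ ⊤ →
      Q ≤ normalizer (P₀ : Set G) := by
    intro P₀ Q h1 h2 h3 h4 x hx
    let K : Subgroup G :=
      { carrier := {g | g ∈ P₀ ⊔ Q ∧ g ^ p = 1}
        one_mem' := ⟨one_mem _, one_pow _⟩
        mul_mem' := fun {a b} ha hb => ⟨mul_mem ha.1 hb.1, omega_sub hsub h4 ha.1 hb.1 ha.2 hb.2⟩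
        inv_mem' := fun {a} ha => ⟨inv_mem ha.1, by rw [inv_pow, ha.2, inv_one]⟩ }
    have hP₀K : P₀ ≤ K := fun a ha => ⟨le_sup_left (b := Q) ha, hexp a (h1 ha)⟩
    have hKP : K ≤ P₀ := by
      intro a ha
      have h5 : (↑(P₀ ⊔ Q) : Set G) = (P₀ : Set G) * (Q : Set G) :=
        coe_mul_of_left_le_normalizer_right _ _ h3
      have hxm : a ∈ (P₀ : Set G) * (Q : Set G) := by rw [← h5]; exact ha.1
      obtain ⟨b, hb, c, hc, rfl⟩ := hxm
      have hcK : c ∈ K := by simpa using K.mul_mem (K.inv_mem (hP₀K hb)) ha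
      have hcp : orderOf c ∣ p := orderOf_dvd_of_pow_eq_one hcK.2
      rcases (Nat.dvd_prime hp.out).mp hcp with h | h
      · rw [orderOf_eq_one_iff.mp h]
        simpa using hb
      · exact absurd (h ▸ (Subgroup.orderOf_mk c (h2 hc) ▸ orderOf_dvd_natCard (G := M) ⟨c, h2 hc⟩)) hpM
    refine mem_normalizer_fintype' fun a ha => hKP ⟨?_, ?_⟩
    · exact mul_mem (mul_mem (le_sup_right (a := P₀) hx) (le_sup_left (b := Q) ha))
        (inv_mem (le_sup_right (a := P₀) hx))
    · rw [conj_pow, hexp a (h1 ha), mul_one, mul_inv_cancel]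
  have hncent : ¬ M ≤ centralizer ((P : Subgroup G) : Set G) := by
    intro hc
    apply hnc
    refine ⟨(P : Subgroup G), Set.ext fun x => ⟨fun hx => hexp x hx, fun hx => ?_⟩⟩
    obtain ⟨a, ha, b, hb, rfl⟩ := (mem_sup_of_normal_right (s := (P : Subgroup G)) (t := M)).mp
      (hPM.symm ▸ mem_top x)
    have hcomm : Commute a b := mem_centralizer_iff.mp (hc hb) a ha
    have hbp : b ^ p = 1 := by
      have := hx
      rw [Set.mem_setOf_eq, hcomm.mul_pow, hexp a ha, one_mul] at this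
      exact this
    rcases (Nat.dvd_prime hp.out).mp (orderOf_dvd_of_pow_eq_one hbp) with h | h
    · rw [orderOf_eq_one_iff.mp h, mul_one]; exact ha
    · exact absurd (h ▸ (Subgroup.orderOf_mk b hb ▸ orderOf_dvd_natCard (G := M) ⟨b, hb⟩)) hpM
  obtain ⟨q, g, hq, hqp, hel, hPg, -, -, hcard⟩ :=
    structure_semidirect M hM hpM (P : Subgroup G) P.isPGroup' hPM hcl hncent
  have hg1 : g ^ p = 1 := hexp g (hPg ▸ mem_zpowers g)
  have hgne : g ≠ 1 := by
    intro h
    apply hncent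
    intro x _
    rw [mem_centralizer_iff]
    intro y hy
    rw [hPg, h, zpowers_one_eq_bot] at hy
    rw [mem_bot.mp hy, one_mul, mul_one]
  refine ⟨q, hq, hqp, ?_, M, hM.1, hcard hg1, hel, hM.2.2⟩
  have hcompl : IsComplement' (P : Subgroup G) M := by
    apply isComplement'_of_disjoint_and_mul_eq_univ (disjoint_iff.mpr hdisj)
    rw [← mul_normal, hPM]; rfl
  rw [← hcompl.card_mul, hcard hg1, hPg, Nat.card_zpowers, orderOf_eq_prime hg1 hgne]

theorem isCyclic_of_small_kernel {Z : Type*} [Group Z] [Finite Z] (hZ : IsPGroup p Z) (z₀ : Z)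
    (hz₀ : orderOf z₀ = p) (hker : ∀ z : Z, z ^ p = 1 → z ∈ zpowers z₀) [IsMulCommutative Z] :
    IsCyclic Z := by
  classical
  haveI := Fintype.ofFinite Z
  open scoped IsMulCommutative in
  refine isCyclic_of_card_pow_eq_one_le fun n hn => ?_
  obtain ⟨K, hK⟩ := IsPGroup.iff_card.mp hZ
  obtain ⟨j, -, hj⟩ := (Nat.dvd_prime_pow hp.out).mp (Nat.gcd_dvd_right n (p ^ K))
  have hset : ∀ z : Z, z ^ n = 1 ↔ z ^ (p ^ j) = 1 := by
    intro z
    rw [← hj, ← hK]
    exact ⟨fun h => pow_gcd_eq_one.mpr ⟨h, pow_card_eq_one'⟩, fun h => by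
      obtain ⟨c, hc⟩ := Nat.gcd_dvd_left n (Nat.card Z)
      rw [hc, pow_mul, h, one_pow]⟩
  have hbound : ∀ i : ℕ, Nat.card {z : Z // z ^ (p ^ i) = 1} ≤ p ^ i := by
    intro i
    induction i with
    | zero =>
      haveI : Subsingleton {z : Z // z ^ (p ^ 0) = 1} :=
        ⟨fun a b => Subtype.ext (by
          have ha : a.1 = 1 := by simpa using a.2
          have hb : b.1 = 1 := by simpa using b.2
          rw [ha, hb])⟩
      exact (Finite.card_le_one_iff_subsingleton.mpr inferInstance).trans_eq (pow_zero p).symm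
    | succ i ih =>
      let φ : Z →* Z := powMonoidHom p
      let f : {z : Z // z ^ (p ^ (i + 1)) = 1} → {z : Z // z ^ (p ^ i) = 1} := fun z =>
        ⟨φ z.1, by change (z.1 ^ p) ^ p ^ i = 1; rw [← pow_mul, ← pow_succ']; exact z.2⟩
      haveI : Fintype {z : Z // z ^ (p ^ i) = 1} := Fintype.ofFinite _
      haveI : Fintype {z : Z // z ^ (p ^ (i + 1)) = 1} := Fintype.ofFinite _
      rw [Nat.card_eq_fintype_card] at ih ⊢
      refine le_trans (Finset.card_le_mul_card_image (f := f) Finset.univ p fun b _ => ?_) ?_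
      · rcases Finset.eq_empty_or_nonempty (Finset.univ.filter fun z => f z = b) with he | ⟨w, hw⟩
        · rw [he]; simp
        · simp only [Finset.mem_filter, Finset.mem_univ, true_and] at hw
          haveI := Fintype.ofFinite (zpowers z₀)
          have hz : Fintype.card (zpowers z₀) = p := by
            rw [← Nat.card_eq_fintype_card, Nat.card_zpowers, hz₀]
          refine le_of_le_of_eq ?_ hz
          refine Finset.card_le_card_of_injOn (t := Finset.univ) (fun z =>
            if h : (w.1)⁻¹ * z.1 ∈ zpowers z₀ then (⟨_, h⟩ : zpowers z₀) else 1)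
            (fun z _ => Finset.mem_univ _) ?_
          intro a ha b' hb' hab
          simp only [Finset.coe_filter, Finset.mem_univ, true_and, Set.mem_setOf_eq] at ha hb'
          have hmem : ∀ a, f a = b → (w.1)⁻¹ * a.1 ∈ zpowers z₀ := fun a ha => hker _ (by
            have h1 : φ a.1 = φ w.1 := congrArg Subtype.val (ha.trans hw.symm)
            change φ ((w.1)⁻¹ * a.1) = 1
            rw [map_mul, map_inv, h1, inv_mul_cancel])
          simp only [dif_pos (hmem a ha), dif_pos (hmem b' hb')] at hab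
          exact Subtype.ext (mul_left_cancel (congrArg Subtype.val hab))
      · calc p * (Finset.univ.image f).card ≤ p * Fintype.card {z : Z // z ^ (p ^ i) = 1} :=
              Nat.mul_le_mul_left _ (Finset.card_le_univ _)
          _ ≤ p * p ^ i := Nat.mul_le_mul_left _ ih
          _ = p ^ (i + 1) := (pow_succ' p i).symm
  have h1 := hbound j
  rw [Nat.card_eq_fintype_card, Fintype.card_subtype] at h1
  refine le_trans (le_of_eq ?_) (h1.trans (Nat.le_of_dvd hn (hj ▸ Nat.gcd_dvd_left _ _)))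
  congr 1
  ext z
  simp [hset z]

theorem card_lower_bound {H : Type*} [Group H] [Finite H] (hH : IsPGroup p H)
    (hcl : (⊤ : Subgroup H).lowerCentralSeries (p - 1) ≠ ⊥) : p ^ (p + 1) ≤ Nat.card H := by
  haveI := hH.isNilpotent
  obtain ⟨n, hn⟩ := IsPGroup.iff_card.mp hH
  obtain ⟨c, hc⟩ := Subgroup.nilpotent_iff_lowerCentralSeries.mp (inferInstance : Group.IsNilpotent H)
  set L := (⊤ : Subgroup H).lowerCentralSeries
  have hstrict : ∀ i, L i ≠ ⊥ → L (i + 1) < L i := by
    intro i hi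
    refine lt_of_le_of_ne (Subgroup.lowerCentralSeries_antitone _ (Nat.le_succ i)) fun h => hi ?_
    have : ∀ k, L (i + k) = L i := by
      intro k
      induction k with
      | zero => rfl
      | succ k ih =>
        change ⁅L (i + k), (⊤ : Subgroup H)⁆ = L i
        rw [ih]; exact h
    rw [← this c, ← le_bot_iff, ← hc]
    exact Subgroup.lowerCentralSeries_antitone (⊤ : Subgroup H) (Nat.le_add_left c i)
  have hdrop : ∀ A B : Subgroup H, A < B → p * Nat.card A ≤ Nat.card B := by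
    intro A B hAB
    obtain ⟨a, ha⟩ := IsPGroup.iff_card.mp (hH.to_subgroup A)
    obtain ⟨b, hb⟩ := IsPGroup.iff_card.mp (hH.to_subgroup B)
    have hab : Nat.card A < Nat.card B := by
      by_contra h
      exact hAB.ne (Subgroup.eq_of_le_of_card_ge hAB.le (not_lt.mp h))
    rw [ha, hb] at hab ⊢
    rw [← pow_succ']
    exact Nat.pow_le_pow_right hp.out.pos ((Nat.pow_lt_pow_iff_right hp.out.one_lt).mp hab)
  have hne : ∀ i, i ≤ p - 1 → L i ≠ ⊥ := fun i hi h =>
    hcl (le_bot_iff.mp (h ▸ Subgroup.lowerCentralSeries_antitone _ hi))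
  have hiter : ∀ i, 1 ≤ i → i ≤ p - 1 → p ^ (p - i) ≤ Nat.card (L i) := by
    intro i hi1 hi
    obtain ⟨d, hd⟩ := Nat.exists_eq_add_of_le hi
    clear hi1
    induction d generalizing i with
    | zero =>
      have h1 : ⊥ < L i := bot_lt_iff_ne_bot.mpr (hne i hi)
      have := hdrop _ _ h1
      rw [card_bot, mul_one] at this
      have hp1 : p - i = 1 := by have := hp.out.one_lt; omega
      rwa [hp1, pow_one]
    | succ d ih =>
      have h1 := ih (i + 1) (by omega) (by omega)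
      calc p ^ (p - i) = p * p ^ (p - (i + 1)) := by rw [← pow_succ']; congr 1; omega
        _ ≤ p * Nat.card (L (i + 1)) := Nat.mul_le_mul_left _ h1
        _ ≤ _ := hdrop _ _ (hstrict i (hne i hi))
  have hp2 := hp.out.two_le
  have h1 := hiter 1 le_rfl (by omega)
  have hidx : p ^ 2 ≤ (L 1).index := by
    by_contra hlt
    obtain ⟨e, he⟩ := (Nat.dvd_prime_pow hp.out).mp (hn ▸ (L 1).index_dvd_card)
    have he1 : e ≤ 1 := by
      by_contra h
      exact hlt (he.2 ▸ Nat.pow_le_pow_right hp.out.pos (by omega))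
    have hL1 : L 1 = _root_.commutator H := Subgroup.top_lowerCentralSeries_one
    haveI : (_root_.commutator H).Normal := inferInstance
    have hcycq : IsCyclic (H ⧸ _root_.commutator H) := by
      rcases Nat.le_one_iff_eq_zero_or_eq_one.mp he1 with h0 | h0
      · haveI : Subsingleton (H ⧸ _root_.commutator H) :=
          Finite.card_le_one_iff_subsingleton.mp (by
            rw [← index_eq_card, ← hL1, he.2, h0, pow_zero])
        infer_instance
      · exact isCyclic_of_prime_card (p := p) (by rw [← index_eq_card, ← hL1, he.2, h0, pow_one])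
    obtain ⟨u, hu⟩ := hcycq.exists_generator
    obtain ⟨u, rfl⟩ := QuotientGroup.mk_surjective u
    have hsup : zpowers u ⊔ frattini H = ⊤ := by
      rw [eq_top_iff]
      intro z _
      obtain ⟨i, hi⟩ := mem_zpowers_iff.mp (hu (z : H ⧸ _root_.commutator H))
      rw [← QuotientGroup.mk_zpow, QuotientGroup.eq] at hi
      have hle : _root_.commutator H ≤ frattini H := by
        rw [frattini, Order.radical]
        simp only [le_iInf_iff]
        intro M hM
        haveI : M.Normal := NormalizerCondition.normal_of_coatom M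
          (normalizerCondition_of_isNilpotent (G := H)) hM
        obtain ⟨v, -, hv⟩ := SetLike.exists_of_lt (lt_top_iff_ne_top.mpr hM.1)
        exact Normal.commutator_le_of_self_sup_commutative_eq_top
          (hM.2 _ (lt_of_le_of_ne le_sup_left fun h => hv (h ▸ le_sup_right (a := M) (mem_zpowers v))))
          inferInstance
      have := mul_mem (le_sup_left (b := frattini H) (zpow_mem (mem_zpowers u) i))
        (le_sup_right (a := zpowers u) (hle hi))
      rwa [mul_inv_cancel_left] at this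
    have htop := frattini_nongenerating hsup
    have hbot : L 1 = ⊥ := by
      rw [hL1, commutator_eq_bot_iff]
      refine ⟨⟨fun a b => ?_⟩⟩
      obtain ⟨i, rfl⟩ := mem_zpowers_iff.mp (htop.symm ▸ mem_top a : a ∈ zpowers u)
      obtain ⟨j, rfl⟩ := mem_zpowers_iff.mp (htop.symm ▸ mem_top b : b ∈ zpowers u)
      exact zpow_mul_comm _ i j
    exact hne 1 (by omega) hbot
  calc p ^ (p + 1) = p ^ (p - 1) * p ^ 2 := by rw [← pow_add]; congr 1; omega
    _ ≤ Nat.card (L 1) * (L 1).index := Nat.mul_le_mul h1 hidx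
    _ = Nat.card H := card_mul_index _


theorem expclosed_pgroup (hG : IsPGroup p G)
    (hnc : ¬ (∃ H : Subgroup G, (H : Set G) = {g : G | g ^ p = 1}))
    (hsub : ∀ K : Subgroup G, K ≠ ⊤ → (∃ H : Subgroup ↥K, (H : Set ↥K) = {g : ↥K | g ^ p = 1}))
    (hquo : ∀ (N : Subgroup G) [N.Normal], N ≠ ⊥ → (∃ H : Subgroup (G ⧸ N), (H : Set (G ⧸ N)) = {g : (G ⧸ N) | g ^ p = 1})) :
    (∃ x y : G, Subgroup.closure ({x, y} : Set G) = ⊤) ∧ (⊤ : Subgroup G).lowerCentralSeries (p - 1) ≠ ⊥ ∧
      Monoid.exponent G = p ^ 2 ∧ IsCyclic ↥(Subgroup.center G) ∧ p ^ (p + 1) ≤ Nat.card G := by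
  rw [exists_omega_iff] at hnc
  push Not at hnc
  obtain ⟨x, y, hx, hy, hxy⟩ := hnc
  haveI := hG.isNilpotent
  have hgen : Subgroup.closure ({x, y} : Set G) = ⊤ := by
    by_contra hne
    exact hxy (omega_sub hsub hne (Subgroup.subset_closure (Or.inl rfl))
      (Subgroup.subset_closure (Or.inr rfl)) hx hy)
  have hxne : zpowers x ≠ ⊤ := by
    intro h
    obtain ⟨i, rfl⟩ := mem_zpowers_iff.mp (h.symm ▸ mem_top y : y ∈ zpowers x)
    apply hxy
    rw [((Commute.refl x).zpow_right i).mul_pow, hx, hy, one_mul]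
  obtain ⟨M, hM, hxM⟩ := (eq_top_or_exists_le_coatom (zpowers x)).resolve_left hxne
  haveI : M.Normal := NormalizerCondition.normal_of_coatom M (normalizerCondition_of_isNilpotent (G := G)) hM
  set A := normalClosure ({x} : Set G) with hAdef
  have hAM : A ≤ M := normalClosure_le_normal (Set.singleton_subset_iff.mpr (hxM (mem_zpowers x)))
  have hA : ∀ z ∈ A, z ^ p = 1 := by
    intro z hz
    let K : Subgroup G :=
      { carrier := {g | g ∈ M ∧ g ^ p = 1}
        one_mem' := ⟨M.one_mem, one_pow _⟩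
        mul_mem' := fun {a b} ha hb => ⟨M.mul_mem ha.1 hb.1, omega_sub hsub hM.1 ha.1 hb.1 ha.2 hb.2⟩
        inv_mem' := fun {a} ha => ⟨M.inv_mem ha.1, by rw [inv_pow, ha.2, inv_one]⟩ }
    haveI hK : K.Normal := ⟨fun a ha g => ⟨‹M.Normal›.conj_mem a ha.1 g, by
      rw [conj_pow, ha.2, mul_one, mul_inv_cancel]⟩⟩
    have hle : A ≤ K := normalClosure_le_normal (Set.singleton_subset_iff.mpr ⟨hxM (mem_zpowers x), hx⟩)
    exact (hle hz).2
  have hcommA : _root_.commutator G ≤ A := by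
    haveI : IsMulCommutative (G ⧸ A) := by
      have hcyc : ∀ u : G ⧸ A, u ∈ zpowers (y : G ⧸ A) := by
        intro u
        obtain ⟨u, rfl⟩ := QuotientGroup.mk_surjective u
        have hle : closure ({x, y} : Set G) ≤ (zpowers (y : G ⧸ A)).comap (QuotientGroup.mk' A) := by
          rw [closure_le]
          intro z hz
          rcases hz with hz | hz
          · rw [hz, SetLike.mem_coe, mem_comap, QuotientGroup.mk'_apply,
              (QuotientGroup.eq_one_iff x).mpr (subset_normalClosure (Set.mem_singleton x))]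
            exact one_mem _
          · rw [Set.mem_singleton_iff.mp hz]; exact mem_zpowers _
        exact hle (hgen.symm ▸ mem_top u)
      refine ⟨⟨fun u v => ?_⟩⟩
      obtain ⟨i, rfl⟩ := mem_zpowers_iff.mp (hcyc u)
      obtain ⟨j, rfl⟩ := mem_zpowers_iff.mp (hcyc v)
      exact zpow_mul_comm _ i j
    exact Normal.quotient_commutative_iff_commutator_le.mp inferInstance
  have hclass : (⊤ : Subgroup G).lowerCentralSeries (p - 1) ≠ ⊥ :=
    fun h => hxy (mul_pow_prime_eq_one hp.out h (fun z hz => hA z (hcommA hz)) hx hy)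
  have hpow : ∀ (N : Subgroup G) [N.Normal], N ≠ ⊥ → ∀ z : G, z ^ p ∈ N := by
    intro N _ hN z
    let K : Subgroup G :=
      { carrier := {g | g ^ p ∈ N}
        one_mem' := by rw [Set.mem_setOf_eq, one_pow]; exact N.one_mem
        mul_mem' := fun {a b} ha hb => omega_pow_normal hquo N hN ha hb
        inv_mem' := fun {a} ha => by rw [Set.mem_setOf_eq, inv_pow]; exact N.inv_mem ha }
    have hle : closure ({x, y} : Set G) ≤ K := by
      rw [closure_le]
      rintro w (rfl | rfl)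
      · change w ^ p ∈ N; rw [hx]; exact N.one_mem
      · change w ^ p ∈ N; rw [hy]; exact N.one_mem
    exact hle (hgen.symm ▸ mem_top z)
  set c := (x * y) ^ p with hc
  have hcen : ∀ z ∈ center G, (zpowers z).Normal := fun z hz => ⟨fun u hu g => by
    obtain ⟨i, rfl⟩ := mem_zpowers_iff.mp hu
    rw [mem_center_iff.mp (zpow_mem hz i) g, mul_inv_cancel_right]
    exact zpow_mem (mem_zpowers z) i⟩
  have hmin : ∀ z ∈ center G, z ^ p = 1 → z ≠ 1 → c ∈ zpowers z ∧ ∀ w : G, w ^ p ∈ zpowers z := by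
    intro z hz _ hz1
    haveI := hcen z hz
    have hne : zpowers z ≠ ⊥ := by rw [Ne, zpowers_eq_bot]; exact hz1
    exact ⟨hpow _ hne _, hpow _ hne⟩
  haveI : Nontrivial G := ⟨⟨x * y, 1, fun h => hxy (by rw [hc, h, one_pow])⟩⟩
  haveI := hG.center_nontrivial
  obtain ⟨z₀, hz₀⟩ := exists_prime_orderOf_dvd_card' (G := center G) p (by
    obtain ⟨n, hn⟩ := IsPGroup.iff_card.mp (hG.to_subgroup (center G))
    have h1 : 1 < Nat.card (center G) := Finite.one_lt_card
    rw [hn] at h1 ⊢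
    exact dvd_pow_self p fun h0 => by simp [h0] at h1)
  have hz₀' : (z₀ : G) ^ p = 1 := by rw [← coe_pow, ← hz₀, pow_orderOf_eq_one, coe_one]
  have hz₀1 : (z₀ : G) ≠ 1 := fun h => hp.out.one_lt.ne' (by
    rw [← hz₀, ← Subgroup.orderOf_coe, h, orderOf_one])
  have hexp2 : ∀ w : G, w ^ (p ^ 2) = 1 := by
    intro w
    obtain ⟨i, hi⟩ := mem_zpowers_iff.mp ((hmin z₀ z₀.2 hz₀' hz₀1).2 w)
    rw [pow_two, pow_mul, ← hi, ← zpow_natCast, ← zpow_mul, mul_comm, zpow_mul, zpow_natCast, hz₀',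
      one_zpow]
  have hexp : Monoid.exponent G = p ^ 2 := by
    obtain ⟨i, hi2, hi⟩ := (Nat.dvd_prime_pow hp.out).mp (Monoid.exponent_dvd_of_forall_pow_eq_one hexp2)
    rcases Nat.lt_or_ge i 2 with h | h
    · exfalso
      apply hxy
      rw [← orderOf_dvd_iff_pow_eq_one]
      refine (Monoid.order_dvd_exponent (x * y)).trans ?_
      rw [hi]
      exact (pow_dvd_pow p (show i ≤ 1 by omega)).trans (by rw [pow_one])
    · rw [hi, show i = 2 by omega]
  have hker : ∀ z : center G, z ^ p = 1 → z ∈ zpowers z₀ := by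
    intro z hz
    by_cases h1 : z = 1
    · exact h1 ▸ one_mem _
    have hz' : (z : G) ^ p = 1 := by rw [← coe_pow, hz, coe_one]
    have hz1 : (z : G) ≠ 1 := fun h => h1 (Subtype.ext h)
    have hc1 : c ≠ 1 := hxy
    have key : ∀ u : G, u ^ p = 1 → u ≠ 1 → c ∈ zpowers u → zpowers u = zpowers c := by
      intro u hu hu1 hcu
      refine (Subgroup.eq_of_le_of_card_ge (zpowers_le.mpr hcu) ?_).symm
      rw [Nat.card_zpowers, Nat.card_zpowers, orderOf_eq_prime hu hu1]
      obtain ⟨i, hi⟩ := mem_zpowers_iff.mp hcu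
      have hcp : c ^ p = 1 := by
        rw [← hi, ← zpow_natCast, ← zpow_mul, mul_comm, zpow_mul, zpow_natCast, hu, one_zpow]
      rw [orderOf_eq_prime hcp hc1]
    have h2 : (z : G) ∈ zpowers (z₀ : G) := by
      rw [key _ hz₀' hz₀1 (hmin z₀ z₀.2 hz₀' hz₀1).1, ← key _ hz' hz1 (hmin z z.2 hz' hz1).1]
      exact mem_zpowers _
    obtain ⟨i, hi⟩ := mem_zpowers_iff.mp h2
    exact mem_zpowers_iff.mpr ⟨i, Subtype.ext (by simpa using hi)⟩
  have hcyc : IsCyclic ↥(center G) := isCyclic_of_small_kernel (hG.to_subgroup _) z₀ hz₀ hker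
  refine ⟨⟨x, y, hgen⟩, hclass, hexp, hcyc, ?_⟩
  exact card_lower_bound hG hclass


end ExpClosed

end Cfsg.Agent.FG38
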