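import Mathlib.GroupTheory.Sylow
import Mathlib.GroupTheory.Commutator.Basic
import Mathlib.GroupTheory.Abelianization.Defs
import Mathlib.GroupTheory.Exponent

/-!
Three elementary facts: the commutator map of a cyclic extension of an abelian group, Sylow numbers
for two disjoint normal subgroups, abelian groups with a partition.
-/

set_option autoImplicit false

namespace Cfsg.Agent.FG38

open Subgroup

theorem commutator_map {G : Type*} [Group G] [Finite G] (A : Subgroup G) [A.Normal]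
    (hA : IsMulCommutative A) (x : G) (hgen : A ⊔ Subgroup.zpowers x = ⊤) :
    (∀ a ∈ A, x * a * x⁻¹ * a⁻¹ ∈ _root_.commutator G) ∧
    (∀ c ∈ _root_.commutator G, ∃ a ∈ A, x * a * x⁻¹ * a⁻¹ = c) ∧
    (∀ a ∈ A, ∀ b ∈ A, x * (a * b) * x⁻¹ * (a * b)⁻¹ = (x * a * x⁻¹ * a⁻¹) * (x * b * x⁻¹ * b⁻¹)) ∧
    Nat.card (_root_.commutator G) * Nat.card ↥(A ⊓ Subgroup.centralizer ({x} : Set G)) = Nat.card A := by
  have hc : ∀ a ∈ A, ∀ b ∈ A, a * b = b * a := fun a ha b hb =>
    congrArg Subtype.val (hA.is_comm.comm ⟨a, ha⟩ ⟨b, hb⟩)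
  have hconjA : ∀ a ∈ A, x * a * x⁻¹ ∈ A := fun a ha => ‹A.Normal›.conj_mem a ha x
  have hfA : ∀ a ∈ A, x * a * x⁻¹ * a⁻¹ ∈ A := fun a ha => mul_mem (hconjA a ha) (inv_mem ha)
  have h3 : ∀ a ∈ A, ∀ b ∈ A,
      x * (a * b) * x⁻¹ * (a * b)⁻¹ = (x * a * x⁻¹ * a⁻¹) * (x * b * x⁻¹ * b⁻¹) := by
    intro a ha b hb
    calc x * (a * b) * x⁻¹ * (a * b)⁻¹ = (x * a * x⁻¹) * ((x * b * x⁻¹ * b⁻¹) * a⁻¹) := by group
      _ = (x * a * x⁻¹) * (a⁻¹ * (x * b * x⁻¹ * b⁻¹)) := by rw [hc _ (hfA b hb) _ (inv_mem ha)]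
      _ = _ := by group
  let f : A →* G := MonoidHom.mk' (fun a => x * (a : G) * x⁻¹ * (a : G)⁻¹)
    (fun a b => h3 a a.2 b b.2)
  have hfapp : ∀ a : A, f a = x * (a : G) * x⁻¹ * (a : G)⁻¹ := fun _ => rfl
  have h1 : ∀ a ∈ A, x * a * x⁻¹ * a⁻¹ ∈ _root_.commutator G := fun a ha => by
    have := Subgroup.commutator_mem_commutator (mem_top x) (mem_top a)
    simpa [commutatorElement_def, _root_.commutator] using this
  haveI hnorm : f.range.Normal := by
    rw [← normalizer_eq_top_iff, eq_top_iff, ← hgen]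
    refine sup_le (fun a ha => ?_) ?_
    · rw [mem_normalizer_iff]
      intro y
      constructor
      · rintro ⟨b, rfl⟩
        refine ⟨b, ?_⟩
        rw [hfapp, hc a ha _ (hfA b b.2), mul_inv_cancel_right]
      · rintro ⟨b, hb⟩
        rw [hfapp] at hb
        have hy : y = a⁻¹ * (x * (b : G) * x⁻¹ * (b : G)⁻¹) * a := by rw [hb]; group
        rw [hy, hc _ (inv_mem ha) _ (hfA b b.2), inv_mul_cancel_right]
        exact ⟨b, rfl⟩
    · rw [zpowers_le, mem_normalizer_iff]
      intro y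
      constructor
      · rintro ⟨b, rfl⟩
        exact ⟨⟨_, hconjA b b.2⟩, by simp only [hfapp]; group⟩
      · rintro ⟨b, hb⟩
        refine ⟨⟨x⁻¹ * (b : G) * x, by simpa using ‹A.Normal›.conj_mem b b.2 x⁻¹⟩, ?_⟩
        rw [hfapp] at hb ⊢
        have hy : y = x⁻¹ * (x * (b : G) * x⁻¹ * (b : G)⁻¹) * x := by rw [hb]; group
        rw [hy]; group
  haveI : IsMulCommutative (G ⧸ f.range) := by
    refine ⟨⟨fun u v => ?_⟩⟩
    obtain ⟨u, rfl⟩ := QuotientGroup.mk_surjective u
    obtain ⟨v, rfl⟩ := QuotientGroup.mk_surjective v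
    obtain ⟨a, ha, z, hz, rfl⟩ := (mem_sup_of_normal_left (s := A)).mp (hgen.symm ▸ mem_top u)
    obtain ⟨b, hb, w, hw, rfl⟩ := (mem_sup_of_normal_left (s := A)).mp (hgen.symm ▸ mem_top v)
    obtain ⟨i, rfl⟩ := mem_zpowers_iff.mp hz
    obtain ⟨j, rfl⟩ := mem_zpowers_iff.mp hw
    have hx : ∀ a ∈ A, Commute (x : G ⧸ f.range) (a : G ⧸ f.range) := by
      intro a ha
      have : ((x * a * x⁻¹ * a⁻¹ : G) : G ⧸ f.range) = 1 :=
        (QuotientGroup.eq_one_iff _).mpr ⟨⟨a, ha⟩, rfl⟩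
      rw [QuotientGroup.mk_mul, QuotientGroup.mk_mul, QuotientGroup.mk_mul, QuotientGroup.mk_inv,
        QuotientGroup.mk_inv, mul_inv_eq_one, mul_inv_eq_iff_eq_mul] at this
      exact this
    have hab : Commute (a : G ⧸ f.range) (b : G ⧸ f.range) := by
      change _ = _
      rw [← QuotientGroup.mk_mul, ← QuotientGroup.mk_mul, hc a ha b hb]
    simp only [QuotientGroup.mk_mul, QuotientGroup.mk_zpow]
    exact ((hab.mul_right ((hx a ha).symm.zpow_right j)).mul_left
      (((hx b hb).zpow_left i).mul_right (Commute.zpow_zpow_self _ i j))).eq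
  have hle : _root_.commutator G ≤ f.range := Normal.quotient_commutative_iff_commutator_le.mp inferInstance
  have heq : _root_.commutator G = f.range := by
    refine le_antisymm hle ?_
    rintro _ ⟨a, rfl⟩
    exact h1 a a.2
  refine ⟨h1, fun c hcc => ?_, h3, ?_⟩
  · obtain ⟨a, ha⟩ := hle hcc
    exact ⟨a, a.2, ha⟩
  · have hker : Nat.card f.ker = Nat.card ↥(A ⊓ Subgroup.centralizer ({x} : Set G)) := by
      rw [← Subgroup.card_map_of_injective (K := f.ker) A.subtype_injective]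
      congr 2
      ext y
      constructor
      · rintro ⟨a, ha, rfl⟩
        rw [SetLike.mem_coe, MonoidHom.mem_ker, hfapp, mul_inv_eq_one, mul_inv_eq_iff_eq_mul] at ha
        exact ⟨a.2, mem_centralizer_singleton_iff.mpr ha.symm⟩
      · rintro ⟨hy1, hy2⟩
        refine ⟨⟨y, hy1⟩, ?_, rfl⟩
        rw [SetLike.mem_coe, MonoidHom.mem_ker, hfapp, mul_inv_eq_one, mul_inv_eq_iff_eq_mul]
        exact (mem_centralizer_singleton_iff.mp hy2).symm
    rw [← hker, heq, ← Nat.card_congr (QuotientGroup.quotientKerEquivRange f).toEquiv]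
    exact (card_eq_card_quotient_mul_card_subgroup f.ker).symm

theorem card_sylow_quotient {G : Type*} [Group G] [Finite G] {p : ℕ} [Fact p.Prime] (P : Sylow p G)
    (N : Subgroup G) [N.Normal] :
    Nat.card (Sylow p (G ⧸ N)) = (normalizer (((P : Subgroup G) ⊔ N : Subgroup G) : Set G)).index := by
  set f := QuotientGroup.mk' N
  have hs : Function.Surjective f := QuotientGroup.mk'_surjective N
  rw [(P.mapSurjective hs).card_eq_index_normalizer]
  have : (normalizer (((P.mapSurjective hs : Sylow p (G ⧸ N)) : Subgroup (G ⧸ N)) : Set (G ⧸ N))).comap f =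
      normalizer (((P : Subgroup G) ⊔ N : Subgroup G) : Set G) := by
    rw [Sylow.coe_mapSurjective, comap_normalizer_eq_of_surjective _ hs, comap_map_eq,
      QuotientGroup.ker_mk']
  rw [← this, index_comap_of_surjective _ hs]
  rfl

theorem sylow_count {G : Type*} [Group G] [Finite G] (p : ℕ) [Fact p.Prime] (M N : Subgroup G)
    [M.Normal] [N.Normal] (hMN : M ⊓ N = ⊥) :
    Nat.card (Sylow p G) * Nat.card (Sylow p (G ⧸ (M ⊔ N))) =
      Nat.card (Sylow p (G ⧸ M)) * Nat.card (Sylow p (G ⧸ N)) := by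
  obtain ⟨P⟩ := (inferInstance : Nonempty (Sylow p G))
  rw [P.card_eq_index_normalizer, card_sylow_quotient P, card_sylow_quotient P, card_sylow_quotient P]
  set A := normalizer ((P : Subgroup G) : Set G) with hA
  have hmono : ∀ (K : Subgroup G) [K.Normal], ∀ g, g ∈ A →
      g ∈ normalizer (((P : Subgroup G) ⊔ K : Subgroup G) : Set G) := by
    intro K _ g hg
    rw [mem_normalizer_iff_map_conj_eq, Subgroup.map_sup, mem_normalizer_iff_map_conj_eq.mp hg,
      Normal.map_conj_eq]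
  have hK : ∀ (K : Subgroup G) [K.Normal],
      normalizer (((P : Subgroup G) ⊔ K : Subgroup G) : Set G) = K ⊔ A := by
    intro K _
    apply le_antisymm
    · intro g hg
      set L := (P : Subgroup G) ⊔ K
      have hle : ((g • P : Sylow p G) : Subgroup G) ≤ L := by
        rintro _ ⟨y, hy, rfl⟩
        exact (mem_normalizer_iff.mp hg y).mp (le_sup_left (b := K) hy)
      obtain ⟨m, hm⟩ := MulAction.exists_smul_eq L ((g • P).subtype hle) (P.subtype le_sup_left)
      rw [Sylow.smul_subtype] at hm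
      have hm' : (m : G) • (g • P) = P := Sylow.subtype_injective hm
      rw [← mul_smul] at hm'
      have h1 : (m : G) * g ∈ A := Sylow.smul_eq_iff_mem_normalizer.mp hm'
      have h2 : (m : G) ∈ K ⊔ A := (sup_le (le_normalizer.trans le_sup_right) le_sup_left : L ≤ K ⊔ A) m.2
      have := mul_mem (inv_mem h2) ((le_sup_right : A ≤ K ⊔ A) h1)
      simpa using this
    · exact sup_le (le_sup_right.trans le_normalizer) (fun g hg => hmono K g hg)
  have hinf : ∀ g, g ∈ normalizer (((P : Subgroup G) ⊔ M : Subgroup G) : Set G) →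
      g ∈ normalizer (((P : Subgroup G) ⊔ N : Subgroup G) : Set G) → g ∈ A := by
    intro g hgM hgN
    set L := ((P : Subgroup G) ⊔ M) ⊓ ((P : Subgroup G) ⊔ N)
    have hPL : (P : Subgroup G) ≤ L := le_inf le_sup_left le_sup_left
    have hLp : IsPGroup p L := by
      intro x
      have hxN : (QuotientGroup.mk' N) (x : G) ∈ (P : Subgroup G).map (QuotientGroup.mk' N) := by
        have h1 := mem_map_of_mem (QuotientGroup.mk' N) x.2.2
        rw [Subgroup.map_sup, QuotientGroup.map_mk'_self, sup_bot_eq] at h1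
        exact h1
      have hxM : (QuotientGroup.mk' M) (x : G) ∈ (P : Subgroup G).map (QuotientGroup.mk' M) := by
        have h1 := mem_map_of_mem (QuotientGroup.mk' M) x.2.1
        rw [Subgroup.map_sup, QuotientGroup.map_mk'_self, sup_bot_eq] at h1
        exact h1
      obtain ⟨a, ha⟩ := (P.isPGroup'.map (QuotientGroup.mk' N)) ⟨_, hxN⟩
      obtain ⟨b, hb⟩ := (P.isPGroup'.map (QuotientGroup.mk' M)) ⟨_, hxM⟩
      refine ⟨a + b, Subtype.ext ?_⟩
      have ha' : (x : G) ^ p ^ a ∈ N := by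
        have := congrArg Subtype.val ha
        rwa [SubgroupClass.coe_pow, ← map_pow, OneMemClass.coe_one, QuotientGroup.mk'_apply,
          QuotientGroup.eq_one_iff] at this
      have hb' : (x : G) ^ p ^ b ∈ M := by
        have := congrArg Subtype.val hb
        rwa [SubgroupClass.coe_pow, ← map_pow, OneMemClass.coe_one, QuotientGroup.mk'_apply,
          QuotientGroup.eq_one_iff] at this
      have hmem : (x : G) ^ p ^ (a + b) ∈ M ⊓ N :=
        ⟨by rw [pow_add, mul_comm, pow_mul]; exact M.pow_mem hb' _,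
         by rw [pow_add, pow_mul]; exact N.pow_mem ha' _⟩
      rw [hMN, mem_bot] at hmem
      simpa using hmem
    have hL : L = (P : Subgroup G) := P.3 hLp hPL
    rw [hA, ← hL, mem_normalizer_iff]
    intro y
    simp only [L, mem_inf, ← mem_normalizer_iff.mp hgM y, ← mem_normalizer_iff.mp hgN y]
  have hrel : A.relIndex M = (N ⊔ A).relIndex M := by
    unfold relIndex
    congr 1
    ext ⟨m, hm⟩
    rw [mem_subgroupOf, mem_subgroupOf]
    refine ⟨fun h => le_sup_right (a := N) h, fun h => hinf m (le_normalizer (le_sup_right (a := (P : Subgroup G)) hm)) ?_⟩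
    rw [hK N]; exact h
  have hsup : ∀ B : Subgroup G, B.relIndex (M ⊔ B) = B.relIndex M := by
    intro B
    apply Nat.eq_of_mul_eq_mul_left (show 0 < Nat.card B from Nat.card_pos)
    have e2 := card_mul_index (M.subgroupOf (M ⊔ B))
    have e3 := card_mul_index (B.subgroupOf M)
    have e4 := card_mul_index (B.subgroupOf (M ⊔ B))
    have e5 := card_mul_index (M.subgroupOf B)
    have e1 : M.relIndex (M ⊔ B) = M.relIndex B := relIndex_sup_left B M
    have c1 : Nat.card (M.subgroupOf (M ⊔ B)) = Nat.card M :=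
      Nat.card_congr (subgroupOfEquivOfLe le_sup_left).toEquiv
    have c2 : Nat.card (B.subgroupOf (M ⊔ B)) = Nat.card B :=
      Nat.card_congr (subgroupOfEquivOfLe le_sup_right).toEquiv
    have c3 : Nat.card (M.subgroupOf B) = Nat.card (B.subgroupOf M) := by
      rw [← Subgroup.card_map_of_injective B.subtype_injective,
        ← Subgroup.card_map_of_injective (K := B.subgroupOf M) M.subtype_injective,
        subgroupOf_map_subtype, subgroupOf_map_subtype, inf_comm]
    change _ * M.relIndex (M ⊔ B) = _ at e2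
    change _ * B.relIndex M = _ at e3
    change _ * B.relIndex (M ⊔ B) = _ at e4
    change _ * M.relIndex B = _ at e5
    rw [c1, e1] at e2
    rw [c2] at e4
    rw [c3] at e5
    calc Nat.card B * B.relIndex (M ⊔ B) = Nat.card M * M.relIndex B := by rw [e4, e2]
      _ = (Nat.card (B.subgroupOf M) * M.relIndex B) * B.relIndex M := by rw [← e3]; ring
      _ = Nat.card B * B.relIndex M := by rw [e5]
  change A.index * _ = _
  rw [hK (M ⊔ N), hK M, hK N, sup_assoc,
    ← relIndex_mul_index (le_sup_right : A ≤ M ⊔ A),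
    ← relIndex_mul_index (le_sup_right : N ⊔ A ≤ M ⊔ (N ⊔ A)), hsup, hsup, hrel]
  ring

theorem exponent_prime_of_partition {G : Type*} [CommGroup G] [Finite G] (𝓑 : Set (Subgroup G))
    (hprop : ∀ B ∈ 𝓑, B ≠ ⊤) (hcov : ∀ g : G, ∃ B ∈ 𝓑, g ∈ B)
    (hdisj : ∀ B ∈ 𝓑, ∀ C ∈ 𝓑, B ≠ C → B ⊓ C = ⊥) : (Monoid.exponent G).Prime := by
  have hsep : ∀ B ∈ 𝓑, ∀ C ∈ 𝓑, ∀ g, g ≠ 1 → g ∈ B → g ∈ C → B = C := by
    intro B hB C hC g hg hgB hgC
    by_contra hne
    have : g ∈ B ⊓ C := ⟨hgB, hgC⟩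
    rw [hdisj B hB C hC hne, mem_bot] at this
    exact hg this
  have hdvd : ∀ B ∈ 𝓑, ∀ g ∈ B, g ≠ 1 → ∀ h, h ∉ B → orderOf h ∣ orderOf g := by
    intro B hB g hgB hg h hh
    obtain ⟨C, hC, hhC⟩ := hcov h
    obtain ⟨D, hD, hD'⟩ := hcov (g * h)
    have hCD : C ≠ D := by
      rintro rfl
      have : g ∈ C := by simpa using C.mul_mem hD' (C.inv_mem hhC)
      exact hh (hsep B hB C hC g hg hgB this ▸ hhC)
    apply orderOf_dvd_of_pow_eq_one
    have h1 : (g * h) ^ orderOf g = h ^ orderOf g := by rw [mul_pow, pow_orderOf_eq_one, one_mul]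
    have h2 : h ^ orderOf g ∈ C ⊓ D := ⟨C.pow_mem hhC _, h1 ▸ D.pow_mem hD' _⟩
    rw [hdisj C hC D hD hCD, mem_bot] at h2
    exact h2
  have heq : ∀ B ∈ 𝓑, ∀ g ∈ B, g ≠ 1 → ∀ h, h ∉ B → orderOf h = orderOf g := by
    intro B hB g hgB hg h hh
    obtain ⟨C, hC, hhC⟩ := hcov h
    have hh1 : h ≠ 1 := fun e => hh (e ▸ B.one_mem)
    have hgC : g ∉ C := fun e => hh (hsep B hB C hC g hg hgB e ▸ hhC)
    exact Nat.dvd_antisymm (hdvd B hB g hgB hg h hh) (hdvd C hC h hhC hh1 g hgC)
  have hall : ∀ g h : G, g ≠ 1 → h ≠ 1 → orderOf g = orderOf h := by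
    intro g h hg hh
    obtain ⟨B, hB, hgB⟩ := hcov g
    by_cases hhB : h ∈ B
    · obtain ⟨k, -, hk⟩ := SetLike.exists_of_lt (lt_top_iff_ne_top.mpr (hprop B hB))
      rw [← heq B hB g hgB hg k hk, heq B hB h hhB hh k hk]
    · exact (heq B hB g hgB hg h hhB).symm
  haveI : Nontrivial G := by
    obtain ⟨B, hB, -⟩ := hcov 1
    obtain ⟨k, -, hk⟩ := SetLike.exists_of_lt (lt_top_iff_ne_top.mpr (hprop B hB))
    exact ⟨⟨k, 1, fun e => hk (e ▸ B.one_mem)⟩⟩
  obtain ⟨p, hp, hpd⟩ := Nat.exists_prime_and_dvd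
    (show Nat.card G ≠ 1 from (Finite.one_lt_card (α := G)).ne')
  haveI := Fact.mk hp
  obtain ⟨g, hg⟩ := exists_prime_orderOf_dvd_card' (G := G) p hpd
  have hg1 : g ≠ 1 := fun e => hp.one_lt.ne' (by rw [← hg, e, orderOf_one])
  have h1 : Monoid.exponent G ∣ p := Monoid.exponent_dvd_of_forall_pow_eq_one fun x => by
    by_cases hx : x = 1
    · simp [hx]
    · rw [← hg, ← hall x g hx hg1, pow_orderOf_eq_one]
  have h2 : p ∣ Monoid.exponent G := hg ▸ Monoid.order_dvd_exponent g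
  rwa [Nat.dvd_antisymm h1 h2]

end Cfsg.Agent.FG38
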