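import Mathlib.GroupTheory.Sylow
import Mathlib.GroupTheory.Nilpotent
import Mathlib.GroupTheory.SpecificGroups.Cyclic

/-!
Minimal covers by nilpotent subgroups and abelian Sylow subgroups.
-/

set_option autoImplicit false

namespace Cfsg.Agent.FG38

open Subgroup

/-- A smallest cover by proper subgroups, all of whose members are nilpotent. -/
def NilMinCover {G : Type*} [Group G] (𝓐 : Finset (Subgroup G)) : Prop :=
  ((∀ A ∈ 𝓐, A ≠ ⊤) ∧ (∀ g : G, ∃ A ∈ 𝓐, g ∈ A)) ∧ (∀ 𝓑 : Finset (Subgroup G), (∀ A ∈ 𝓑, A ≠ ⊤) ∧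
    (∀ g : G, ∃ A ∈ 𝓑, g ∈ A) → 𝓐.card ≤ 𝓑.card) ∧ (∀ A ∈ 𝓐, Group.IsNilpotent ↥A)

variable {G : Type*} [Group G] {𝓐 : Finset (Subgroup G)}

/-- At most one member lies in a given proper subgroup. -/
theorem NilMinCover.eq_of_le (h : NilMinCover 𝓐) {H A B : Subgroup G} (hH : H ≠ ⊤) (hA : A ∈ 𝓐)
    (hB : B ∈ 𝓐) (hAH : A ≤ H) (hBH : B ≤ H) : A = B := by
  classical
  by_contra hne
  have h1 := h.2.1 (insert H (𝓐.filter fun C => ¬ C ≤ H)) ⟨?_, ?_⟩
  · have h2 : (𝓐.filter fun C => ¬ C ≤ H) ⊆ (𝓐.erase A).erase B := by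
      intro C hC
      rw [Finset.mem_filter] at hC
      rw [Finset.mem_erase, Finset.mem_erase]
      exact ⟨fun e => hC.2 (e ▸ hBH), fun e => hC.2 (e ▸ hAH), hC.1⟩
    have h3 := Finset.card_le_card h2
    rw [Finset.card_erase_of_mem (Finset.mem_erase.mpr ⟨Ne.symm hne, hB⟩), Finset.card_erase_of_mem hA] at h3
    have h4 := (Finset.card_insert_le H (𝓐.filter fun C => ¬ C ≤ H))
    have h5 : 1 < 𝓐.card := Finset.one_lt_card.mpr ⟨A, hA, B, hB, hne⟩
    omega
  · intro C hC
    rcases Finset.mem_insert.mp hC with rfl | hC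
    · exact hH
    · exact h.1.1 C (Finset.mem_filter.mp hC).1
  · intro g
    obtain ⟨C, hC, hg⟩ := h.1.2 g
    by_cases hCH : C ≤ H
    · exact ⟨H, Finset.mem_insert_self _ _, hCH hg⟩
    · exact ⟨C, Finset.mem_insert_of_mem (Finset.mem_filter.mpr ⟨hC, hCH⟩), hg⟩

variable [Finite G] {p : ℕ} [Fact p.Prime]

/-- A member containing a `p`-element centralises it, if the Sylow `p`-subgroups are abelian. -/
theorem le_centralizer_of_mem (hab : ∀ P : Sylow p G, IsMulCommutative ↥(P : Subgroup G)) {A : Subgroup G}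
    (hnil : Group.IsNilpotent ↥A) {z : G} (hzA : z ∈ A) (hz : IsPGroup p ↥(zpowers z)) :
    A ≤ centralizer {z} := by
  haveI := hnil
  suffices hle : (⊤ : Subgroup ↥A) ≤ centralizer {(⟨z, hzA⟩ : A)} by
    intro a ha
    have h := mem_centralizer_singleton_iff.mp (hle (mem_top (⟨a, ha⟩ : A)))
    exact mem_centralizer_singleton_iff.mpr (congrArg (fun t : A => (t : G)) h)
  have hz' : IsPGroup p ↥(zpowers (⟨z, hzA⟩ : A)) := by
    obtain ⟨n, hn⟩ := IsPGroup.iff_card.mp hz
    refine IsPGroup.of_card (n := n) ?_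
    rw [← hn, Nat.card_zpowers, Nat.card_zpowers, Subgroup.orderOf_mk]
  refine (eq_of_le_of_card_ge le_top (Nat.le_of_dvd Nat.card_pos ?_)).ge
  refine (Nat.dvd_iff_prime_pow_dvd_dvd _ _).mpr fun q k hq hk => ?_
  haveI := Fact.mk hq
  obtain ⟨Q⟩ := (inferInstance : Nonempty (Sylow q A))
  refine (Q.pow_dvd_card_of_pow_dvd_card (by rwa [card_top] at hk)).trans (card_dvd_of_le ?_)
  intro x hx
  rw [mem_centralizer_singleton_iff]
  by_cases hqp : q = p
  · subst hqp
    haveI : Subsingleton (Sylow q A) := (Sylow.unique_of_normal Q inferInstance).instSubsingleton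
    obtain ⟨T, hT⟩ := hz'.exists_le_sylow
    rw [Subsingleton.elim T Q] at hT
    obtain ⟨P, hP⟩ := (Q.isPGroup'.map A.subtype).exists_le_sylow
    have h := @mul_comm' _ _ (hab P) ⟨(x : G), hP (mem_map_of_mem _ hx)⟩ ⟨z, hP (mem_map_of_mem A.subtype (hT (mem_zpowers (⟨z, hzA⟩ : A))))⟩
    exact Subtype.ext (congrArg (fun t : ↥(P : Subgroup G) => (t : G)) h)
  · obtain ⟨T, hT⟩ := hz'.exists_le_sylow
    exact (commute_of_normal_of_disjoint _ _ inferInstance inferInstance
      (IsPGroup.disjoint_of_ne q p hqp _ _ Q.isPGroup' T.isPGroup') x _ hx (hT (mem_zpowers _))).eq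

/-- Cyclic and non-trivial, or of exponent larger than `p`. -/
def IsBigPGroup (p : ℕ) (P : Subgroup G) : Prop :=
  (IsCyclic ↥P ∧ P ≠ ⊥) ∨ ∃ x ∈ P, x ^ p ≠ 1

theorem isPGroup_zpowers_of_mem {P : Sylow p G} {z : G} (hz : z ∈ (P : Subgroup G)) :
    IsPGroup p ↥(zpowers z) := P.isPGroup'.to_le (zpowers_le.mpr hz)

/-- The member attached to a Sylow subgroup. -/
theorem NilMinCover.sylow (h : NilMinCover 𝓐) (hZ : center G = ⊥)
    (hab : ∀ P : Sylow p G, IsMulCommutative ↥(P : Subgroup G)) (P : Sylow p G) (hP : IsBigPGroup p (P : Subgroup G)) :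
    centralizer ((P : Subgroup G) : Set G) ∈ 𝓐 := by
  have hp : p.Prime := Fact.out
  have hC : ∀ z : G, z ≠ 1 → centralizer ({z} : Set G) ≠ ⊤ := fun z hz htop => by
    refine hz (mem_bot.mp (hZ ▸ (mem_center_iff.mpr fun g => ?_)))
    exact mem_centralizer_singleton_iff.mp (htop.ge (mem_top g))
  have huniq : ∀ {z : G}, z ≠ 1 → IsPGroup p ↥(zpowers z) → ∀ {A B : Subgroup G}, A ∈ 𝓐 → B ∈ 𝓐 →
      z ∈ A → z ∈ B → A = B := fun {z} hz1 hz {A B} hA hB hzA hzB =>
    h.eq_of_le (hC z hz1) hA hB (le_centralizer_of_mem hab (h.2.2 A hA) hzA hz)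
      (le_centralizer_of_mem hab (h.2.2 B hB) hzB hz)
  obtain ⟨x, hx, hx1, A, hA, hxA, hPA⟩ : ∃ x ∈ (P : Subgroup G), x ≠ 1 ∧ ∃ A ∈ 𝓐, x ∈ A ∧ (P : Subgroup G) ≤ A := by
    rcases hP with ⟨hc, hne⟩ | ⟨x, hx, hxp⟩
    · obtain ⟨⟨x, hx⟩, hgen⟩ := hc.exists_generator
      obtain ⟨A, hA, hxA⟩ := h.1.2 x
      refine ⟨x, hx, fun hx1 => hne ((eq_bot_iff_forall _).mpr fun y hy => ?_), A, hA, hxA, fun y hy => ?_⟩ <;>
        obtain ⟨i, hi⟩ := mem_zpowers_iff.mp (hgen ⟨y, hy⟩) <;>
        have hi' : x ^ i = y := congrArg Subtype.val hi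
      · rw [← hi', hx1, one_zpow]
      · exact hi' ▸ A.zpow_mem hxA i
    · obtain ⟨A, hA, hxA⟩ := h.1.2 x
      have hx1 : x ≠ 1 := fun e => hxp (by rw [e, one_pow])
      have hxpA : x ^ p ∈ A := A.pow_mem hxA p
      have hpPc : ∀ {u v : G}, u ∈ (P : Subgroup G) → v ∈ (P : Subgroup G) → Commute u v := fun {u v} hu hv =>
        congrArg (fun t : ↥(P : Subgroup G) => (t : G)) (@mul_comm' _ _ (hab P) ⟨u, hu⟩ ⟨v, hv⟩)
      have hsmall : ∀ y ∈ (P : Subgroup G), y ^ p = 1 → y ∈ A := by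
        intro y hy hyp
        obtain ⟨B, hB, hxy⟩ := h.1.2 (x * y)
        have h1 : (x * y) ^ p = x ^ p := by rw [(hpPc hx hy).mul_pow, hyp, mul_one]
        have := huniq hxp (isPGroup_zpowers_of_mem (pow_mem hx p)) hA hB hxpA (h1 ▸ B.pow_mem hxy p)
        subst this
        simpa using A.mul_mem (A.inv_mem hxA) hxy
      refine ⟨x, hx, hx1, A, hA, hxA, fun y hy => ?_⟩
      by_cases hy1 : y = 1
      · rw [hy1]; exact one_mem A
      obtain ⟨B, hB, hyB⟩ := h.1.2 y
      obtain ⟨k, hk⟩ := IsPGroup.iff_orderOf.mp P.isPGroup' ⟨y, hy⟩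
      rw [Subgroup.orderOf_mk] at hk
      obtain ⟨m, rfl⟩ : ∃ m, k = m + 1 := by
        rcases k with _ | m
        · rw [pow_zero, orderOf_eq_one_iff] at hk; exact absurd hk hy1
        · exact ⟨m, rfl⟩
      set w := y ^ p ^ m
      have hwp : w ^ p = 1 := by rw [← pow_mul, ← pow_succ, ← hk, pow_orderOf_eq_one]
      have hw1 : w ≠ 1 := fun e => by
        have := Nat.le_of_dvd (pow_pos hp.pos m) (hk ▸ orderOf_dvd_of_pow_eq_one e)
        exact absurd this (not_le.mpr (Nat.pow_lt_pow_right hp.one_lt (Nat.lt_succ_self m)))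
      rw [huniq hw1 (isPGroup_zpowers_of_mem (pow_mem hy _)) hA hB (hsmall w (pow_mem hy _) hwp) (B.pow_mem hyB _)]
      exact hyB
  have hle : A ≤ centralizer ((P : Subgroup G) : Set G) := fun a ha => mem_centralizer_iff.mpr fun y hy =>
    (mem_centralizer_singleton_iff.mp
      (le_centralizer_of_mem hab (h.2.2 A hA) (hPA hy) (isPGroup_zpowers_of_mem hy) ha)).symm
  suffices heq : A = centralizer ((P : Subgroup G) : Set G) from heq ▸ hA
  refine le_antisymm hle ?_
  set C := centralizer ((P : Subgroup G) : Set G)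
  suffices hCA : (⊤ : Subgroup ↥C) ≤ A.subgroupOf C from fun c hc => hCA (mem_top (⟨c, hc⟩ : C))
  refine (eq_of_le_of_card_ge le_top (Nat.le_of_dvd Nat.card_pos ?_)).ge
  refine (Nat.dvd_iff_prime_pow_dvd_dvd _ _).mpr fun q k hq hk => ?_
  haveI := Fact.mk hq
  obtain ⟨Q⟩ := (inferInstance : Nonempty (Sylow q C))
  refine (Q.pow_dvd_card_of_pow_dvd_card (by rwa [card_top] at hk)).trans (card_dvd_of_le ?_)
  intro c hc
  show (c : G) ∈ A
  by_cases hqp : q = p
  · subst hqp
    apply hPA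
    have hsup : IsPGroup q ↥((P : Subgroup G) ⊔ (Q : Subgroup ↥C).map C.subtype) :=
      P.isPGroup'.to_sup_of_normal_left' (Q.isPGroup'.map _)
        ((map_subtype_le _).trans (centralizer_le_normalizer _))
    have := P.3 hsup le_sup_left
    exact this.le (mem_sup_right (mem_map_of_mem _ hc))
  · obtain ⟨B, hB, hxc⟩ := h.1.2 (x * c)
    have hcomm : Commute x (c : G) := mem_centralizer_iff.mp c.2 x hx
    obtain ⟨a, ha⟩ := IsPGroup.iff_orderOf.mp P.isPGroup' ⟨x, hx⟩
    obtain ⟨b, hb⟩ := IsPGroup.iff_orderOf.mp Q.isPGroup' ⟨c, hc⟩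
    rw [Subgroup.orderOf_mk] at ha hb
    rw [← Subgroup.orderOf_coe] at hb
    -- some power of `x * c` generates `x`
    have hcop : (orderOf x).Coprime (orderOf (c : G)) := by
      rw [ha, hb]; exact Nat.Coprime.pow _ _ ((Nat.coprime_primes hp hq).mpr (Ne.symm hqp))
    have hxB : x ∈ B := by
      obtain ⟨m, hm⟩ := exists_pow_eq_self_of_coprime (x := x) hcop.symm
      rw [← hm]
      refine pow_mem ?_ m
      have e : (x * c) ^ orderOf (c : G) = x ^ orderOf (c : G) := by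
        rw [hcomm.mul_pow, pow_orderOf_eq_one, mul_one]
      exact e ▸ B.pow_mem hxc _
    rw [huniq hx1 (isPGroup_zpowers_of_mem hx) hA hB hxA hxB]
    simpa using B.mul_mem (B.inv_mem hxB) hxc

/-- Consequences for the normaliser. -/
theorem NilMinCover.normalizer (h : NilMinCover 𝓐) (hZ : center G = ⊥)
    (hab : ∀ P : Sylow p G, IsMulCommutative ↥(P : Subgroup G)) (P : Sylow p G) (hP : IsBigPGroup p (P : Subgroup G))
    (hnn : ¬ (P : Subgroup G).Normal) :
    centralizer ((P : Subgroup G) : Set G) ∈ 𝓐 ∧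
    (∀ M : Subgroup G, M ≠ ⊤ → centralizer ((P : Subgroup G) : Set G) ≤ M →
      M ≤ Subgroup.normalizer ((P : Subgroup G) : Set G)) ∧
    IsCoatom (Subgroup.normalizer ((P : Subgroup G) : Set G)) ∧
    (∀ g : G, g ∉ Subgroup.normalizer ((P : Subgroup G) : Set G) →
      ¬ p ∣ Nat.card ↥(Subgroup.normalizer ((P : Subgroup G) : Set G) ⊓
        (Subgroup.normalizer ((P : Subgroup G) : Set G)).map (MulAut.conj g).toMonoidHom)) := by
  have hPle : ∀ Q : Sylow p G, (Q : Subgroup G) ≤ centralizer ((Q : Subgroup G) : Set G) := fun Q => by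
    haveI := hab Q; exact le_centralizer _
  have hbig : ∀ g : G, IsBigPGroup p ((g • P : Sylow p G) : Subgroup G) := by
    intro g
    have e : ((g • P : Sylow p G) : Subgroup G) = (P : Subgroup G).map (MulAut.conj g).toMonoidHom := rfl
    rcases hP with ⟨hc, hne⟩ | ⟨x, hx, hxp⟩
    · refine Or.inl ⟨(P.equivSMul g).isCyclic.mp hc, fun hb => hne ?_⟩
      rw [e] at hb
      exact (map_eq_bot_iff_of_injective _ (MulAut.conj g).injective).mp hb
    · refine Or.inr ⟨MulAut.conj g x, e ▸ mem_map_of_mem _ hx, ?_⟩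
      rw [← map_pow]
      exact fun hh => hxp ((MulAut.conj g).injective (hh.trans (map_one (MulAut.conj g)).symm))
  have hA := h.sylow hZ hab P hP
  have hsame : ∀ g : G, centralizer (((g • P : Sylow p G) : Subgroup G) : Set G) =
      centralizer ((P : Subgroup G) : Set G) → g ∈ Subgroup.normalizer ((P : Subgroup G) : Set G) := by
    intro g hg
    haveI := h.2.2 _ hA
    have h1 : ((g • P : Sylow p G) : Subgroup G) ≤ centralizer ((P : Subgroup G) : Set G) := hg ▸ hPle (g • P)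
    haveI : Subsingleton (Sylow p ↥(centralizer ((P : Subgroup G) : Set G))) :=
      (Sylow.unique_of_normal ((P.subtype (hPle P))) inferInstance).instSubsingleton
    have h2 : (g • P).subtype h1 = P.subtype (hPle P) := Subsingleton.elim _ _
    have h3 := Sylow.subtype_injective h2
    rw [mem_normalizer_iff_map_conj_eq]
    exact congrArg (fun Q : Sylow p G => (Q : Subgroup G)) h3
  have hM : ∀ M : Subgroup G, M ≠ ⊤ → centralizer ((P : Subgroup G) : Set G) ≤ M →
      M ≤ Subgroup.normalizer ((P : Subgroup G) : Set G) := by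
    intro M hMt hle m hm
    refine hsame m (h.eq_of_le hMt (h.sylow hZ hab (m • P) (hbig m)) hA ?_ hle)
    intro c hc
    have hc' : m⁻¹ * c * m ∈ centralizer ((P : Subgroup G) : Set G) := by
      rw [mem_centralizer_iff]
      intro y hy
      have := mem_centralizer_iff.mp hc ((MulAut.conj m) y) ⟨y, hy, rfl⟩
      rw [MulAut.conj_apply] at this
      calc y * (m⁻¹ * c * m) = m⁻¹ * ((m * y * m⁻¹) * c) * m := by group
        _ = m⁻¹ * (c * (m * y * m⁻¹)) * m := by rw [this]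
        _ = m⁻¹ * c * m * y := by group
    have := M.mul_mem (M.mul_mem hm (hle hc')) (M.inv_mem hm)
    simpa [mul_assoc] using this
  have hCN : centralizer ((P : Subgroup G) : Set G) ≤ Subgroup.normalizer ((P : Subgroup G) : Set G) :=
    centralizer_le_normalizer _
  have hNt : Subgroup.normalizer ((P : Subgroup G) : Set G) ≠ ⊤ := fun e => hnn (normalizer_eq_top_iff.mp e)
  refine ⟨hA, hM, ⟨hNt, fun M hlt => ?_⟩, ?_⟩
  · by_contra hMt
    exact hlt.not_ge (hM M hMt (hCN.trans hlt.le))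
  intro g hg hd
  obtain ⟨⟨z, hzN, w, hw, hwz⟩, hz⟩ := exists_prime_orderOf_dvd_card' p hd
  replace hz : orderOf z = p := (Subgroup.orderOf_coe _).trans hz
  have hzp : IsPGroup p ↥(zpowers z) := IsPGroup.of_card (n := 1) (by rw [Nat.card_zpowers, hz, pow_one])
  have mem_of : ∀ v : G, v ∈ Subgroup.normalizer ((P : Subgroup G) : Set G) → IsPGroup p ↥(zpowers v) →
      v ∈ (P : Subgroup G) := fun v hv hvp => by
    have hsup := P.isPGroup'.to_sup_of_normal_left' hvp (zpowers_le.mpr hv)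
    exact (P.3 hsup le_sup_left).le (mem_sup_right (mem_zpowers v))
  have hwp : IsPGroup p ↥(zpowers w) := IsPGroup.of_card (n := 1) (by
    rw [Nat.card_zpowers, pow_one, ← orderOf_injective (MulAut.conj g).toMonoidHom (MulAut.conj g).injective w]
    exact (congrArg orderOf hwz).trans hz)
  have hzgP : z ∈ ((g • P : Sylow p G) : Subgroup G) := ⟨w, mem_of w hw hwp, hwz⟩
  have hzP : z ∈ (P : Subgroup G) := mem_of z hzN hzp
  have hz1 : z ≠ 1 := fun e => (Fact.out : p.Prime).ne_one (by rw [← hz, e, orderOf_one])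
  refine hg (hsame g (h.eq_of_le (fun htop => hz1 (mem_bot.mp (hZ ▸ mem_center_iff.mpr fun a => ?_)))
    (h.sylow hZ hab (g • P) (hbig g)) hA (H := centralizer {z}) ?_ ?_))
  · exact mem_centralizer_singleton_iff.mp (htop.ge (mem_top a))
  · exact centralizer_le (Set.singleton_subset_iff.mpr hzgP)
  · exact centralizer_le (Set.singleton_subset_iff.mpr hzP)

/-- A proper subgroup containing the centraliser of a Sylow subgroup but not normalising it excludes a
nilpotent minimal cover. -/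
theorem NilMinCover.false_of (h : NilMinCover 𝓐) (hZ : center G = ⊥)
    (hab : ∀ P : Sylow p G, IsMulCommutative ↥(P : Subgroup G)) (P : Sylow p G) (hP : IsBigPGroup p (P : Subgroup G))
    {M : Subgroup G} (hM : M ≠ ⊤) (hC : centralizer ((P : Subgroup G) : Set G) ≤ M) {t : G} (htM : t ∈ M)
    (ht : t ∉ Subgroup.normalizer ((P : Subgroup G) : Set G)) : False := by
  have hnn : ¬ (P : Subgroup G).Normal := fun hn => ht (by rw [normalizer_eq_top_iff.mpr hn]; trivial)
  exact ht ((h.normalizer hZ hab P hP hnn).2.1 M hM hC htM)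

omit [Finite G] [Fact p.Prime] in
/-- Nilpotent minimal covers are transported by isomorphisms. -/
theorem NilMinCover.map_equiv {H : Type*} [Group H] [DecidableEq (Subgroup H)] (h : NilMinCover 𝓐) (e : G ≃* H) :
    NilMinCover (𝓐.image fun A => A.map e.toMonoidHom) := by
  classical
  refine ⟨⟨?_, fun g => ?_⟩, fun 𝓑 hB => ?_, ?_⟩
  · intro A hA
    obtain ⟨A₀, hA₀, rfl⟩ := Finset.mem_image.mp hA
    intro htop
    refine h.1.1 A₀ hA₀ (map_injective e.injective (htop.trans ?_))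
    rw [map_top_of_surjective _ e.surjective]
  · obtain ⟨A, hA, hg⟩ := h.1.2 (e.symm g)
    exact ⟨_, Finset.mem_image_of_mem _ hA, ⟨e.symm g, hg, e.apply_symm_apply g⟩⟩
  · refine Finset.card_image_le.trans ((h.2.1 (𝓑.image fun B => B.map e.symm.toMonoidHom) ⟨?_, fun g => ?_⟩).trans
      Finset.card_image_le)
    · intro A hA
      obtain ⟨A₀, hA₀, rfl⟩ := Finset.mem_image.mp hA
      intro htop
      refine hB.1 A₀ hA₀ (map_injective e.symm.injective (htop.trans ?_))
      rw [map_top_of_surjective _ e.symm.surjective]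
    · obtain ⟨B, hB', hg⟩ := hB.2 (e g)
      exact ⟨_, Finset.mem_image_of_mem _ hB', ⟨e g, hg, e.symm_apply_apply g⟩⟩
  · intro A hA
    obtain ⟨A₀, hA₀, rfl⟩ := Finset.mem_image.mp hA
    haveI := h.2.2 A₀ hA₀
    exact Group.nilpotent_of_mulEquiv (A₀.equivMapOfInjective _ e.injective)

end Cfsg.Agent.FG38
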