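import Cfsg.Agent.FG38.NilpotentCover
import Mathlib.LinearAlgebra.Projectivization.Action
import Mathlib.LinearAlgebra.Projectivization.Cardinality
import Mathlib.LinearAlgebra.Matrix.GeneralLinearGroup.Projective
import Mathlib.FieldTheory.Finite.Extension
import Mathlib.RingTheory.Norm.Basic
import Mathlib.LinearAlgebra.Matrix.CharP

/-!
Groups between `PSL_n(q)` and `PGL_n(q)` acting on the points of projective space: nilpotent subgroups
containing elements with few fixed points.
-/

set_option autoImplicit false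

namespace Cfsg.Agent.FG38.PGLCover

open Subgroup

variable {n : ℕ} {F : Type*} [Field F]

/-- The quotient of `GL_n` by its centre. -/
abbrev Quot' (n : ℕ) (F : Type*) [Field F] := GL (Fin n) F ⧸ Subgroup.center (GL (Fin n) F)

/-- The points. -/
abbrev Pts (n : ℕ) (F : Type*) [Field F] := Projectivization F (Fin n → F)

/-- The projection. -/
noncomputable def proj : GL (Fin n) F →* Quot' n F := QuotientGroup.mk' _

/-- The image of `SL_n`. -/
noncomputable def psl (n : ℕ) (F : Type*) [Field F] : Subgroup (Quot' n F) :=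
  ((Matrix.SpecialLinearGroup.toGL : Matrix.SpecialLinearGroup (Fin n) F →* GL (Fin n) F).range).map proj

/-- The permutation action on the points. -/
noncomputable def act : Quot' n F →* Equiv.Perm (Pts n F) :=
  MulAction.toPermHom (Matrix.ProjGenLinGroup (Fin n) F) (Pts n F)

theorem act_fix_iff (g : GL (Fin n) F) (v : Fin n → F) (hv : v ≠ 0) :
    act (proj g) (Projectivization.mk F v hv) = Projectivization.mk F v hv ↔
      ∃ l : F, l • v = (g : Matrix (Fin n) (Fin n) F).mulVec v := by
  show Projectivization.mk F (g • v) _ = _ ↔ _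
  exact (Projectivization.mk_eq_mk_iff' F _ _ _ _).trans Iff.rfl

theorem proj_mem_psl {g : GL (Fin n) F} (h : (g : Matrix (Fin n) (Fin n) F).det = 1) : proj g ∈ psl n F :=
  ⟨g, ⟨⟨g, h⟩, Units.ext rfl⟩, rfl⟩

theorem exists_psl_apply (p₁ p₂ : Pts n F) : ∃ g ∈ psl n F, act g p₁ = p₂ := by
  haveI : MulAction.IsPretransitive (Matrix.SpecialLinearGroup (Fin n) F) (Pts n F) :=
    MulAction.isPretransitive_of_is_two_pretransitive
  obtain ⟨g, hg⟩ := MulAction.exists_smul_eq (Matrix.SpecialLinearGroup (Fin n) F) p₁ p₂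
  refine ⟨proj (Matrix.SpecialLinearGroup.toGL g), ⟨_, ⟨g, rfl⟩, rfl⟩, ?_⟩
  rw [← hg]
  induction p₁ using Projectivization.ind with | _ v hv => rfl

/-! ### Nilpotent subgroups and fixed points -/

section Nilpotent

variable {G : Type*} [Group G] [Finite G]

/-- Elements of coprime prime power orders in a nilpotent subgroup commute. -/
theorem commute_of_nilpotent {A : Subgroup G} (hA : Group.IsNilpotent ↥A) {p r : ℕ} [Fact p.Prime] [Fact r.Prime]
    (hpr : p ≠ r) {x y : G} (hx : x ∈ A) (hy : y ∈ A) (hxp : IsPGroup p ↥(zpowers x))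
    (hyr : IsPGroup r ↥(zpowers y)) : Commute x y := by
  haveI := hA
  have conv : ∀ {q : ℕ} {z : G} (hz : z ∈ A), IsPGroup q ↥(zpowers z) → IsPGroup q ↥(zpowers (⟨z, hz⟩ : A)) := by
    intro q z hz h
    refine (h.comap_of_injective A.subtype A.subtype_injective).to_le ?_
    rw [zpowers_le, mem_comap]
    exact mem_zpowers z
  obtain ⟨P, hP⟩ := (conv hx hxp).exists_le_sylow
  obtain ⟨R, hR⟩ := (conv hy hyr).exists_le_sylow
  have h := commute_of_normal_of_disjoint _ _ inferInstance inferInstance
    (IsPGroup.disjoint_of_ne p r hpr _ _ P.isPGroup' R.isPGroup') _ _ (hP (mem_zpowers _)) (hR (mem_zpowers _))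
  exact congrArg (fun t : A => (t : G)) h.eq

variable {α : Type*} (f : G →* Equiv.Perm α) (e : α)

/-- The stabiliser of `e`. -/
def fixer : Subgroup G := (MulAction.stabilizer (Equiv.Perm α) e).comap f

theorem mem_fixer {g : G} : g ∈ fixer f e ↔ f g e = e := MulAction.mem_stabilizer_iff

/-- A nilpotent subgroup containing a prime power element `y` fixes `e`, if the `r`-subgroups containing `y` and
the centraliser of `y` do. -/
theorem le_fixer {A : Subgroup G} (hA : Group.IsNilpotent ↥A) {r : ℕ} [Fact r.Prime] {y : G} (hy : y ∈ A)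
    (hyr : IsPGroup r ↥(zpowers y))
    (hR : ∀ R : Subgroup G, IsPGroup r ↥R → y ∈ R → R ≤ fixer f e)
    (hC : ∀ a : G, Commute a y → a ∈ fixer f e) : A ≤ fixer f e := by
  haveI := hA
  suffices h : (⊤ : Subgroup ↥A) ≤ (fixer f e).subgroupOf A from fun a ha => h (mem_top (⟨a, ha⟩ : A))
  refine (eq_of_le_of_card_ge le_top (Nat.le_of_dvd Nat.card_pos ?_)).ge
  refine (Nat.dvd_iff_prime_pow_dvd_dvd _ _).mpr fun q k hq hk => ?_
  haveI := Fact.mk hq
  obtain ⟨Q⟩ := (inferInstance : Nonempty (Sylow q A))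
  refine (Q.pow_dvd_card_of_pow_dvd_card (by rwa [card_top] at hk)).trans (card_dvd_of_le ?_)
  intro a ha
  show (a : G) ∈ fixer f e
  by_cases hqr : q = r
  · subst hqr
    have hy' : IsPGroup q ↥(zpowers (⟨y, hy⟩ : A)) := by
      refine (hyr.comap_of_injective A.subtype A.subtype_injective).to_le ?_
      rw [zpowers_le, mem_comap]
      exact mem_zpowers y
    obtain ⟨T, hT⟩ := hy'.exists_le_sylow
    haveI : Subsingleton (Sylow q A) := (Sylow.unique_of_normal Q inferInstance).instSubsingleton
    rw [Subsingleton.elim T Q] at hT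
    exact hR _ (Q.isPGroup'.map A.subtype) ⟨⟨y, hy⟩, hT (mem_zpowers _), rfl⟩ ⟨a, ha, rfl⟩
  · refine hC a (commute_of_nilpotent hA hqr a.2 hy ?_ hyr)
    refine IsPGroup.to_le (Q.isPGroup'.map A.subtype) (zpowers_le.mpr ⟨a, ha, rfl⟩)

/-- A nilpotent subgroup containing a prime power element with a unique fixed point, the number of points being
prime to `r`, fixes that point. -/
theorem le_fixer_of_unique [Finite α] {A : Subgroup G} (hA : Group.IsNilpotent ↥A) {r : ℕ} [Fact r.Prime] {y : G}
    (hy : y ∈ A) (hyr : IsPGroup r ↥(zpowers y)) (hcard : ¬ r ∣ Nat.card α) (hye : f y e = e)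
    (huniq : ∀ z, f y z = z → z = e) : A ≤ fixer f e := by
  refine le_fixer f e hA hy hyr (fun R hR hyR => ?_) (fun a hay => ?_)
  · letI : MulAction ↥R α := MulAction.compHom α (f.comp R.subtype)
    obtain ⟨z, hz⟩ := hR.nonempty_fixed_point_of_prime_not_dvd_card (α := α) hcard
    have hze : z = e := huniq z (hz ⟨y, hyR⟩)
    intro g hg
    rw [mem_fixer]
    exact hze ▸ hz ⟨g, hg⟩
  · rw [mem_fixer]
    refine huniq _ ?_
    rw [← Equiv.Perm.mul_apply, ← map_mul, ← hay.eq, map_mul, Equiv.Perm.mul_apply, hye]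

end Nilpotent

/-! ### Elements -/

variable [Fintype F]

/-- The nilpotent shift matrix. -/
def shift (n : ℕ) (F : Type*) [Field F] : Matrix (Fin n) (Fin n) F :=
  Matrix.of fun i j => if j.val = i.val + 1 then 1 else 0

omit [Fintype F] in
theorem shift_mulVec (v : Fin n → F) (i : Fin n) :
    (shift n F).mulVec v i = if h : i.val + 1 < n then v ⟨i.val + 1, h⟩ else 0 := by
  classical
  rw [Matrix.mulVec, dotProduct]
  split_ifs with h
  · rw [Finset.sum_eq_single ⟨i.val + 1, h⟩]
    · simp [shift]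
    · intro j _ hj
      have : j.val ≠ i.val + 1 := fun e => hj (Fin.ext e)
      simp [shift, this]
    · simp
  · refine Finset.sum_eq_zero fun j _ => ?_
    have : j.val ≠ i.val + 1 := by omega
    simp [shift, this]

omit [Fintype F] in
theorem shift_pow_eq_zero : (shift n F) ^ n = 0 := by
  classical
  have key : ∀ (k : ℕ) (v : Fin n → F) (i : Fin n), n ≤ i.val + k → ((shift n F) ^ k).mulVec v i = 0 := by
    intro k
    induction k with
    | zero => intro v i hi; omega
    | succ k ih =>
      intro v i hi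
      rw [pow_succ', ← Matrix.mulVec_mulVec, shift_mulVec]
      split_ifs with h
      · exact ih v _ (by simp only; omega)
      · rfl
  ext i j
  have := key n (Pi.single j 1) i (by omega)
  simpa using this

/-- A unipotent element of `SL_n` with exactly one fixed point. -/
theorem exists_unipotent (hn : 2 ≤ n) (p : ℕ) [Fact p.Prime] [CharP F p] :
    ∃ (X : GL (Fin n) F) (k : ℕ), (X : Matrix (Fin n) (Fin n) F).det = 1 ∧ X ^ p ^ k = 1 ∧
      ∃ e : Pts n F, ∀ z : Pts n F, act (proj X) z = z ↔ z = e := by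
  classical
  set M : Matrix (Fin n) (Fin n) F := 1 + shift n F with hM
  have hdet : M.det = 1 := by
    rw [Matrix.det_of_upperTriangular]
    · refine Finset.prod_eq_one fun i _ => ?_
      simp [hM, shift]
    · intro i j hij
      have h1 : j.val ≠ i.val + 1 := by simp only [id_eq] at hij; omega
      have h2 : i ≠ j := ne_of_gt hij
      simp [hM, shift, h1, h2]
  set X : GL (Fin n) F := Matrix.SpecialLinearGroup.toGL ⟨M, hdet⟩ with hX
  have hXval : (X : Matrix (Fin n) (Fin n) F) = M := rfl
  have hXfix : ∀ (v : Fin n → F), (∃ l : F, l • v = (X : Matrix (Fin n) (Fin n) F).mulVec v) →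
      ∀ i : Fin n, i.val ≠ 0 → v i = 0 := by
    rintro v ⟨l, hl⟩
    rw [hXval, hM, Matrix.add_mulVec, Matrix.one_mulVec] at hl
    by_contra hcon
    push Not at hcon
    obtain ⟨i₀, hi₀, hvi₀⟩ := hcon
    set S := Finset.univ.filter fun i : Fin n => v i ≠ 0 with hS
    have hne : S.Nonempty := ⟨i₀, by simp [hS, hvi₀]⟩
    set j := S.max' hne
    have hj : v j ≠ 0 := (Finset.mem_filter.mp (S.max'_mem hne)).2
    have hmax : ∀ i : Fin n, j < i → v i = 0 := fun i hi => by
      by_contra h
      exact absurd (S.le_max' i (by simp [hS, h])) (not_le.mpr hi)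
    have e1 := congrFun hl j
    rw [Pi.smul_apply, Pi.add_apply, shift_mulVec, smul_eq_mul] at e1
    have hl1 : l = 1 := by
      have hz : (if h : j.val + 1 < n then v ⟨j.val + 1, h⟩ else 0) = 0 := by
        split_ifs with h
        · exact hmax _ (Fin.lt_def.mpr (by simp))
        · rfl
      rw [hz, add_zero] at e1
      exact mul_left_eq_self₀.mp e1 |>.resolve_right hj
    have hjpos : 0 < j.val := lt_of_lt_of_le (Nat.pos_of_ne_zero hi₀)
      (Fin.le_def.mp (S.le_max' i₀ (by simp [hS, hvi₀])))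
    have e2 := congrFun hl ⟨j.val - 1, by omega⟩
    rw [Pi.smul_apply, Pi.add_apply, shift_mulVec, smul_eq_mul, hl1, one_mul, left_eq_add,
      dif_pos (show j.val - 1 + 1 < n by omega)] at e2
    exact hj (by convert e2 using 2; exact Fin.ext (by simp only; omega))
  haveI : Nonempty (Fin n) := ⟨⟨0, by omega⟩⟩
  set i0 : Fin n := ⟨0, by omega⟩
  have he0 : (Pi.single i0 (1 : F) : Fin n → F) ≠ 0 := fun h => by simpa using congrFun h i0
  refine ⟨X, n, hdet, ?_, Projectivization.mk F _ he0, fun z => ?_⟩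
  · apply Units.ext
    rw [Units.val_pow_eq_pow_val, hXval, hM, add_pow_char_pow_of_commute p n (Commute.one_left _), one_pow,
      pow_eq_zero_of_le (Nat.lt_pow_self (Fact.out : p.Prime).one_lt).le shift_pow_eq_zero, add_zero]
    rfl
  · induction z using Projectivization.ind with | _ v hv =>
    rw [act_fix_iff, Projectivization.mk_eq_mk_iff']
    constructor
    · intro h
      have hvz := hXfix v h
      refine ⟨v i0, ?_⟩
      ext i
      by_cases hi : i = i0
      · subst hi; simp
      · rw [Pi.smul_apply, Pi.single_eq_of_ne hi, smul_zero, hvz i (fun e => hi (Fin.ext e))]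
    · rintro ⟨c, rfl⟩
      refine ⟨1, ?_⟩
      rw [one_smul, hXval, hM, Matrix.add_mulVec, Matrix.one_mulVec, left_eq_add]
      ext i
      rw [shift_mulVec, Pi.zero_apply]
      split_ifs with h
      · rw [Pi.smul_apply, Pi.single_eq_of_ne (fun e => by simpa [i0] using congrArg Fin.val e), smul_zero]
      · rfl

/-! ### The algebra `F × K` -/

section Algebra

variable {K : Type*} [Field K] [Algebra F K] [FiniteDimensional F K] (B : Module.Basis (Fin n) F (F × K))

/-- The regular representation. -/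
noncomputable def reg : (F × K)ˣ →* GL (Fin n) F :=
  Units.map (Algebra.leftMulMatrix B : (F × K) →* Matrix (Fin n) (Fin n) F)

omit [Fintype F] [FiniteDimensional F K] in
theorem leftMul_mulVec (a z : F × K) :
    (Algebra.leftMulMatrix B a).mulVec (B.repr z) = B.repr (a * z) := by
  rw [Algebra.leftMulMatrix_apply, LinearMap.toMatrix_mulVec_repr]
  rfl

omit [Fintype F] [FiniteDimensional F K] in
theorem repr_ne_zero {z : F × K} (hz : z ≠ 0) : (B.repr z : Fin n → F) ≠ 0 := by
  intro h
  apply hz
  apply B.repr.injective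
  rw [map_zero]
  exact DFunLike.coe_injective h

omit [Fintype F] in
theorem det_reg (u : (F × K)ˣ) :
    (reg B u : Matrix (Fin n) (Fin n) F).det = (u : F × K).1 * Algebra.norm F (u : F × K).2 := by
  show (Algebra.leftMulMatrix B (u : F × K)).det = _
  rw [← Algebra.norm_eq_matrix_det, Algebra.norm_apply,
    show Algebra.lmul F (F × K) (u : F × K) = LinearMap.prodMap (Algebra.lmul F F (u : F × K).1)
      (Algebra.lmul F K (u : F × K).2) from LinearMap.ext fun x => rfl,
    LinearMap.det_prodMap, ← Algebra.norm_apply, ← Algebra.norm_apply, Algebra.norm_self]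
  rfl

/-- The point `(1, 0)`. -/
noncomputable def axisPt : Pts n F :=
  Projectivization.mk F (B.repr ((1, 0) : F × K) : Fin n → F) (repr_ne_zero B (by simp))

omit [Fintype F] [FiniteDimensional F K] in
theorem fix_cases (u : (F × K)ˣ) (hu : (u : F × K).2 ≠ algebraMap F K (u : F × K).1) {z : F × K} (hz : z ≠ 0)
    (h : act (proj (reg B u)) (Projectivization.mk F (B.repr z : Fin n → F) (repr_ne_zero B hz)) =
      Projectivization.mk F (B.repr z : Fin n → F) (repr_ne_zero B hz)) :
    z.2 = 0 ∨ (z.1 = 0 ∧ ∃ l : F, (u : F × K).2 = algebraMap F K l) := by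
  rw [act_fix_iff] at h
  obtain ⟨l, hl⟩ := h
  have hl' : l • z = (u : F × K) * z := by
    apply B.repr.injective
    apply DFunLike.coe_injective
    rw [map_smul, Finsupp.coe_smul, hl]
    exact leftMul_mulVec B _ z
  have h1 : l * z.1 = (u : F × K).1 * z.1 := congrArg Prod.fst hl'
  have h2 : l • z.2 = (u : F × K).2 * z.2 := congrArg Prod.snd hl'
  by_cases hz2 : z.2 = 0
  · exact Or.inl hz2
  refine Or.inr ⟨?_, l, ?_⟩
  · by_contra hz1
    apply hu
    rw [Algebra.smul_def] at h2
    rw [← mul_right_cancel₀ hz2 h2, mul_right_cancel₀ hz1 h1]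
  · rw [Algebra.smul_def] at h2
    exact (mul_right_cancel₀ hz2 h2).symm

omit [Fintype F] [FiniteDimensional F K] in
theorem act_axis (u : (F × K)ˣ) : act (proj (reg B u)) (axisPt B) = axisPt B := by
  rw [axisPt, act_fix_iff]
  refine ⟨(u : F × K).1, ?_⟩
  refine Eq.trans ?_ (leftMul_mulVec B (u : F × K) (1, 0)).symm
  rw [← Finsupp.coe_smul, ← map_smul]
  congr 2
  ext <;> simp

omit [Fintype F] [FiniteDimensional F K] in
theorem unique_fix (u : (F × K)ˣ) (hu : ∀ l : F, (u : F × K).2 ≠ algebraMap F K l) {q : Pts n F}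
    (h : act (proj (reg B u)) q = q) : q = axisPt B := by
  induction q using Projectivization.ind with | _ v hv =>
  obtain ⟨z, rfl⟩ : ∃ z : F × K, (B.repr z : Fin n → F) = v := ⟨B.equivFun.symm v, B.equivFun.apply_symm_apply v⟩
  have hz : z ≠ 0 := fun e => hv (by rw [e, map_zero]; rfl)
  rcases fix_cases B u (hu _) hz h with h2 | ⟨-, l, hl⟩
  · rw [axisPt, Projectivization.mk_eq_mk_iff']
    refine ⟨z.1, ?_⟩
    rw [← Finsupp.coe_smul, ← map_smul]
    congr 2
    ext <;> simp [h2]
  · exact absurd hl (hu l)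

omit [FiniteDimensional F K] in
/-- A `p`-element whose only fixed point is `(1, 0)` does not commute with `reg u` in `PGL`. -/
theorem not_commute (p : ℕ) [Fact p.Prime] [CharP F p] (X : GL (Fin n) F) (k : ℕ) (hX : X ^ p ^ k = 1)
    (hfix : ∀ q : Pts n F, act (proj X) q = q → q = axisPt B) (u : (F × K)ˣ)
    (hu : (u : F × K).2 ≠ algebraMap F K (u : F × K).1) : ¬ Commute (proj X) (proj (reg B u)) := by
  classical
  intro hc
  haveI : Nonempty (Fin n) := by
    by_contra hne
    rw [not_nonempty_iff] at hne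
    exact repr_ne_zero B (z := (1 : F × K)) one_ne_zero (Subsingleton.elim _ _)
  set Y := reg B u with hY
  have hmem : X * Y * X⁻¹ * Y⁻¹ ∈ Subgroup.center (GL (Fin n) F) := by
    rw [← QuotientGroup.ker_mk' (Subgroup.center (GL (Fin n) F)), MonoidHom.mem_ker]
    change proj (X * Y * X⁻¹ * Y⁻¹) = 1
    rw [map_mul, map_mul, map_mul, map_inv, map_inv, hc.eq, mul_inv_cancel_right, mul_inv_cancel]
  have hcen := Subgroup.mem_center_iff.mp hmem
  rw [Matrix.GeneralLinearGroup.center_eq_range_scalar] at hmem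
  obtain ⟨l, hl⟩ := hmem
  obtain ⟨c, hcdef⟩ : ∃ c, c = X * Y * X⁻¹ * Y⁻¹ := ⟨_, rfl⟩
  rw [← hcdef] at hcen hl
  have hiter : ∀ j : ℕ, X ^ j * Y * (X ^ j)⁻¹ = c ^ j * Y := by
    intro j
    induction j with
    | zero => simp
    | succ j ih =>
      have e1 : X * Y * X⁻¹ = c * Y := by rw [hcdef, inv_mul_cancel_right]
      have e2 : X * c ^ j * X⁻¹ = c ^ j := by
        rw [((Commute.pow_right (show Commute X c from hcen X) j)).eq, mul_inv_cancel_right]
      calc X ^ (j + 1) * Y * (X ^ (j + 1))⁻¹ = X * (X ^ j * Y * (X ^ j)⁻¹) * X⁻¹ := by rw [pow_succ']; group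
        _ = (X * c ^ j * X⁻¹) * (X * Y * X⁻¹) := by rw [ih]; group
        _ = c ^ (j + 1) * Y := by rw [e2, e1, pow_succ, mul_assoc]
  have hck : c ^ p ^ k = 1 := by
    have := hiter (p ^ k)
    rw [hX, inv_one, mul_one, one_mul] at this
    exact mul_eq_right.mp this.symm
  have hl1 : l = 1 := by
    have hinj : Function.Injective (Matrix.GeneralLinearGroup.scalar (Fin n) : Fˣ → GL (Fin n) F) := by
      intro a b hab
      apply Units.ext
      have := congrArg (fun M : GL (Fin n) F => (M : Matrix (Fin n) (Fin n) F)) hab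
      exact Matrix.scalar_inj.mp this
    have h1 : l ^ p ^ k = 1 := hinj (by rw [map_pow, map_one, hl, hck])
    apply Units.ext
    have h2 : ((l : F) - 1) ^ p ^ k = 0 := by
      rw [sub_pow_char_pow_of_commute p k (Commute.one_right _), one_pow, ← Units.val_pow_eq_pow_val, h1,
        Units.val_one, sub_self]
    exact sub_eq_zero.mp (eq_zero_of_pow_eq_zero h2)
  have hc1 : c = 1 := by rw [← hl, hl1, map_one]
  have hXY : Commute X Y := by
    have : X * Y * X⁻¹ = Y := by
      rw [hcdef] at hc1
      exact mul_inv_eq_one.mp hc1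
    exact mul_inv_eq_iff_eq_mul.mp this
  set d : F × K := (u : F × K) - algebraMap F (F × K) (u : F × K).1 with hd
  set Dm := Algebra.leftMulMatrix B d with hDm
  set Nm : Matrix (Fin n) (Fin n) F := (X : Matrix (Fin n) (Fin n) F) - 1 with hNm
  have hXD : Commute Nm Dm := by
    have h1 : Commute (X : Matrix (Fin n) (Fin n) F) (Y : Matrix (Fin n) (Fin n) F) :=
      congrArg (fun M : GL (Fin n) F => (M : Matrix (Fin n) (Fin n) F)) hXY.eq
    rw [hDm, hd, map_sub, AlgHom.commutes]
    exact (h1.sub_right (Algebra.commute_algebraMap_right _ _)).sub_left (Commute.one_left _)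
  have hNk : Nm ^ p ^ k = 0 := by
    rw [hNm, sub_pow_char_pow_of_commute p k (Commute.one_right _), one_pow, ← Units.val_pow_eq_pow_val, hX,
      Units.val_one, sub_self]
  set z0 : Fin n → F := ⇑(B.repr (1 : F × K))
  have hu0 : Dm.mulVec z0 = (B.repr d : Fin n → F) := by
    rw [hDm]; exact (leftMul_mulVec B d 1).trans (by rw [mul_one])
  have hd1 : d.1 = 0 := by simp [hd]
  have hd0 : d ≠ 0 := fun e => hu (by simpa [hd, sub_eq_zero] using congrArg Prod.snd e)
  have hex : ∃ i, (Nm ^ i).mulVec (Dm.mulVec z0) = 0 := ⟨p ^ k, by rw [hNk, Matrix.zero_mulVec]⟩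
  have hpos : Nat.find hex ≠ 0 := by
    intro h0
    have := Nat.find_spec hex
    rw [h0, pow_zero, Matrix.one_mulVec, hu0] at this
    exact repr_ne_zero B hd0 this
  obtain ⟨i, hi⟩ := Nat.exists_eq_succ_of_ne_zero hpos
  have hwne : (Nm ^ i).mulVec (Dm.mulVec z0) ≠ 0 := Nat.find_min hex (by omega)
  set w := (Nm ^ i).mulVec (Dm.mulVec z0) with hw
  have hXw : (X : Matrix (Fin n) (Fin n) F).mulVec w = w := by
    have := Nat.find_spec hex
    rw [hi, pow_succ', ← Matrix.mulVec_mulVec, hNm, Matrix.sub_mulVec, Matrix.one_mulVec, sub_eq_zero] at this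
    exact this
  have heq := hfix (Projectivization.mk F w hwne) ((act_fix_iff X w hwne).mpr ⟨1, by rw [one_smul, hXw]⟩)
  rw [axisPt, Projectivization.mk_eq_mk_iff'] at heq
  obtain ⟨s, hs⟩ := heq
  obtain ⟨z, hz⟩ : ∃ z : F × K, (B.repr z : Fin n → F) = (Nm ^ i).mulVec z0 :=
    ⟨B.equivFun.symm _, B.equivFun.apply_symm_apply _⟩
  have hwz : w = (B.repr (d * z) : Fin n → F) := by
    rw [hw, Matrix.mulVec_mulVec, (hXD.pow_left i).eq, ← Matrix.mulVec_mulVec, ← hz, hDm, leftMul_mulVec]
  rw [hwz, ← Finsupp.coe_smul, ← map_smul] at hs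
  have hs' := B.repr.injective (DFunLike.coe_injective hs)
  have hs0 : s = 0 := by
    have := congrArg Prod.fst hs'
    simpa [hd1] using this
  apply hwne
  rw [hwz, ← hs', hs0, zero_smul, map_zero]
  rfl

end Algebra

end Cfsg.Agent.FG38.PGLCover
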