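import Cfsg.Agent.FG38.RankTwoPCentral
import Cfsg.Agent.Lib.PGroup.NormalRankTwo
import Mathlib.NumberTheory.Multiplicity

/-!
# Blackburn's classification of `p`-groups of rank at most two, `p` odd

`E = ⟨y, e⟩` is normal elementary abelian of order `p ^ 2` with `e` central, `C = C_G(E)` is `p`-central and
`g ∉ C`.  Either every such `g` has `g ^ p` outside the agemo of `C` and the group is metacyclic, or the
commutator maps on the levels of `C` decide the isomorphism type.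
-/

set_option autoImplicit false

open Subgroup
open scoped commutatorElement

namespace Cfsg.Agent.FG38.RankTwo

variable {p : ℕ} [hp : Fact p.Prime] {G : Type*} [Group G] [Finite G]

/-- The standing configuration. -/
structure Frame (p : ℕ) {G : Type*} [Group G] (C : Subgroup G) (y e g : G) : Prop where
  hG : IsPGroup p G
  normal : C.Normal
  central : ∀ h : G, Commute e h
  order_e : orderOf e = p
  pow_y : y ^ p = 1
  y_notMem : y ∉ zpowers e
  y_mem : y ∈ C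
  e_mem : e ∈ C
  omega : ∀ x ∈ C, x ^ p = 1 → ∃ i j : ℤ, x = y ^ i * e ^ j
  comm_y : ∀ x ∈ C, Commute x y
  conj_y : ∃ k : ℤ, ¬ (p : ℤ) ∣ k ∧ g * y * g⁻¹ = y * e ^ k
  split : ∀ h : G, ∃ i : ℕ, ∃ c ∈ C, h = c * g ^ i
  g_notMem : g ∉ C

omit [Finite G] in
theorem zpow_congr_of_order {a : G} (ha : a ^ p = 1) {i j : ℤ} (h : (p : ℤ) ∣ i - j) : a ^ i = a ^ j := by
  have h2 : (a : G) ^ (i - j) = 1 :=
    orderOf_dvd_iff_zpow_eq_one.mp ((Int.natCast_dvd_natCast.mpr (orderOf_dvd_of_pow_eq_one ha)).trans h)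
  rwa [zpow_sub, mul_inv_eq_one] at h2

omit hp [Finite G] in
theorem iterate_formula {g u v w z : G} (h1 : g * u * g⁻¹ = u * v) (h2 : g * v * g⁻¹ = v * w)
    (h3 : g * w * g⁻¹ = w * z) (h4 : ∀ h, Commute z h) (hvw : Commute v w) :
    ∀ i : ℕ, g ^ i * u * (g ^ i)⁻¹ = u * v ^ i * w ^ i.choose 2 * z ^ i.choose 3 := by
  intro i
  induction i with
  | zero => simp
  | succ i ih =>
    have e : g ^ (i + 1) * u * (g ^ (i + 1))⁻¹ = g * (g ^ i * u * (g ^ i)⁻¹) * g⁻¹ := by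
      rw [pow_succ']; group
    rw [e, ih, ← conj_mul, ← conj_mul, ← conj_mul, ← conj_pow, ← conj_pow, ← conj_pow, h1, h2, h3,
      show g * z * g⁻¹ = z by rw [← (h4 g).eq, mul_inv_cancel_right],
      hvw.mul_pow, ((h4 w).symm).mul_pow, Nat.choose_succ_succ', Nat.choose_one_right,
      Nat.choose_succ_succ' i 2, pow_add w, pow_add z, pow_succ' v]
    simp only [mul_assoc]

variable {C : Subgroup G} {y e g : G}

theorem Frame.pcentral (F : Frame p C y e g) : PCentral p ↥C := by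
  intro x hx
  rw [mem_center_iff]
  intro c
  obtain ⟨i, j, hij⟩ := F.omega x x.2 (by rw [← SubmonoidClass.coe_pow, hx, OneMemClass.coe_one])
  apply Subtype.ext
  show (c : G) * x = x * c
  rw [hij]
  exact (((F.comm_y c c.2).zpow_right i).mul_right (((F.central c).symm).zpow_right j)).eq

theorem Frame.isPGroup (F : Frame p C y e g) : IsPGroup p ↥C := F.hG.to_subgroup C

/-- The central subgroup `⟨e⟩` seen in `C`. -/
theorem Frame.card_kill (F : Frame p C y e g) : Nat.card {x : ↥C // x ^ p = 1} ≤ p ^ 2 := by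
  have h : Function.Surjective (fun ij : ZMod p × ZMod p =>
      (⟨⟨y ^ ij.1.val * e ^ ij.2.val, mul_mem (pow_mem F.y_mem _) (pow_mem F.e_mem _)⟩, Subtype.ext (by
        show (y ^ ij.1.val * e ^ ij.2.val) ^ p = 1
        rw [(((F.central y).symm.pow_right _).pow_left _).mul_pow, ← pow_mul, ← pow_mul, mul_comm _ p,
          mul_comm _ p, pow_mul, pow_mul, F.pow_y, show e ^ p = 1 from F.order_e ▸ pow_orderOf_eq_one e,
          one_pow, one_pow, one_mul])⟩ : {x : ↥C // x ^ p = 1})) := by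
    rintro ⟨⟨x, hx⟩, hxp⟩
    obtain ⟨i, j, rfl⟩ := F.omega x hx (congrArg Subtype.val hxp)
    refine ⟨((i : ZMod p), (j : ZMod p)), Subtype.ext (Subtype.ext ?_)⟩
    show y ^ (i : ZMod p).val * e ^ (j : ZMod p).val = y ^ i * e ^ j
    have hval : ∀ k : ℤ, (p : ℤ) ∣ ((k : ZMod p).val : ℤ) - k := fun k => by
      rw [← ZMod.intCast_zmod_eq_zero_iff_dvd]
      simp
    rw [← zpow_natCast y, ← zpow_natCast e, zpow_congr_of_order F.pow_y (hval i),
      zpow_congr_of_order (F.order_e ▸ pow_orderOf_eq_one e) (hval j)]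
  refine (Nat.card_le_card_of_surjective _ h).trans ?_
  rw [Nat.card_prod, Nat.card_zmod, pow_two]

theorem Frame.e_pow (F : Frame p C y e g) : e ^ p = 1 := F.order_e ▸ pow_orderOf_eq_one e

theorem Frame.e_ne (F : Frame p C y e g) : e ≠ 1 := fun h => by
  have := F.order_e
  rw [h, orderOf_one] at this
  exact hp.out.ne_one this.symm

theorem Frame.zpow_e_eq_one (F : Frame p C y e g) {i : ℤ} : e ^ i = 1 ↔ (p : ℤ) ∣ i := by
  rw [← orderOf_dvd_iff_zpow_eq_one, F.order_e]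

theorem Frame.y_zpow_mem (F : Frame p C y e g) {i : ℤ} (h : y ^ i ∈ zpowers e) : (p : ℤ) ∣ i := by
  by_contra hd
  obtain ⟨u, v, huv⟩ : IsCoprime (p : ℤ) i := (Nat.prime_iff_prime_int.mp hp.out).coprime_iff_not_dvd.mpr hd
  refine F.y_notMem ?_
  have : y = (y ^ i) ^ v := by
    calc y = y ^ (u * (p : ℤ) + v * i) := by rw [huv, zpow_one]
      _ = _ := by rw [zpow_add, mul_comm u, zpow_mul, zpow_natCast, F.pow_y, one_zpow, one_mul, mul_comm,
        zpow_mul]
  rw [this]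
  exact zpow_mem h v

theorem Frame.conj_omega (F : Frame p C y e g) {k : ℤ} (hk : g * y * g⁻¹ = y * e ^ k) (i j : ℤ) :
    g * (y ^ i * e ^ j) * g⁻¹ = (y ^ i * e ^ j) * e ^ (k * i) := by
  rw [← conj_mul, ← conj_zpow, hk, ← ((F.central g).zpow_left j).eq, mul_inv_cancel_right,
    (((F.central y).zpow_left k).symm).mul_zpow, ← zpow_mul, mul_assoc, mul_assoc, ← zpow_add, ← zpow_add,
    add_comm]

/-- The commutator map. -/
def dl (g c : G) : G := c⁻¹ * (g * c * g⁻¹)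

omit hp [Finite G] in
theorem dl_mul (g c : G) : c * dl g c = g * c * g⁻¹ := mul_inv_cancel_left _ _

theorem Frame.dl_mem (F : Frame p C y e g) {c : G} (hc : c ∈ C) : dl g c ∈ C :=
  mul_mem (inv_mem hc) (F.normal.conj_mem c hc g)

omit hp [Finite G] in
theorem dl_iter_mem (g c : G) : ∀ m : ℕ, (dl g)^[m] c ∈ (⊤ : Subgroup G).lowerCentralSeries m := by
  intro m
  induction m with
  | zero => exact mem_top _
  | succ m ih =>
    rw [Function.iterate_succ_apply', Subgroup.lowerCentralSeries_succ]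
    have : dl g ((dl g)^[m] c) = ⁅((dl g)^[m] c)⁻¹, g⁆ := by rw [dl, commutatorElement_def]; group
    rw [this]
    exact commutator_mem_commutator (inv_mem ih) (mem_top g)

omit hp [Finite G] in
theorem lcs_ne_bot {g c : G} {m r : ℕ} (h : (dl g)^[m] c ≠ 1) (hr : r ≤ m) :
    (⊤ : Subgroup G).lowerCentralSeries r ≠ ⊥ := fun hb =>
  h (mem_bot.mp (hb ▸ (Subgroup.lowerCentralSeries_antitone _ hr) (dl_iter_mem g c m)))

theorem Frame.dl_pow (F : Frame p C y e g) (hp2 : p ≠ 2) {k : ℕ} {c : G} (hc : c ∈ C)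
    (h : (⁅(⟨dl g c, F.dl_mem hc⟩ : ↥C), (⟨c, hc⟩ : ↥C)⁆ : ↥C) ^ p ^ k = 1) :
    dl g c ^ p ^ k = dl g (c ^ p ^ k) := by
  have h1 := congrArg Subtype.val (mul_pow_ppow hp2 F.isPGroup F.pcentral k ⟨c, hc⟩ ⟨dl g c, F.dl_mem hc⟩ h)
  simp only [SubmonoidClass.coe_pow, Subgroup.coe_mul] at h1
  rw [dl_mul, conj_pow] at h1
  show _ = (c ^ p ^ k)⁻¹ * (g * c ^ p ^ k * g⁻¹)
  rw [h1, inv_mul_cancel_left]

theorem Frame.comm_kill (F : Frame p C y e g) (hp2 : p ≠ 2) {k : ℕ} {c : ↥C} (hc : c ^ p ^ (k + 1) = 1)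
    (d : ↥C) : ⁅d, c⁆ ^ p ^ k = 1 := by
  rw [← commutatorElement_inv, inv_pow, comm_pow_eq_one hp2 F.isPGroup F.pcentral hc, inv_one]

/-- The chain of levels: iterated commutators do not vanish early. -/
theorem Frame.chain (F : Frame p C y e g) (hp2 : p ≠ 2)
    (hQ : ∀ c ∈ C, c ^ p ∈ zpowers e → c ^ p ≠ 1 → dl g c ∉ zpowers e) :
    ∀ k : ℕ, (∀ c ∈ C, c ^ p ^ k ∈ zpowers e → c ^ p ^ k ≠ 1 → (dl g)^[2 * k] c ≠ 1) ∧
      ∀ c ∈ C, c ^ p ^ k ∉ zpowers e → c ^ p ^ (k + 1) = 1 → (dl g)^[2 * k + 1] c ≠ 1 := by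
  have top : ∀ k, (∀ c ∈ C, c ^ p ^ k ∈ zpowers e → c ^ p ^ k ≠ 1 → (dl g)^[2 * k] c ≠ 1) →
      ∀ c ∈ C, c ^ p ^ k ∉ zpowers e → c ^ p ^ (k + 1) = 1 → (dl g)^[2 * k + 1] c ≠ 1 := by
    intro k hbot c hc hne h1
    rw [Function.iterate_succ_apply]
    have hpow := F.dl_pow hp2 hc (k := k) (F.comm_kill hp2 (Subtype.ext h1) _)
    obtain ⟨i, j, hij⟩ := F.omega (c ^ p ^ k) (pow_mem hc _) (by rw [← pow_mul, ← pow_succ]; exact h1)
    obtain ⟨k', hk', hky⟩ := F.conj_y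
    have hval : dl g (c ^ p ^ k) = e ^ (k' * i) := by rw [dl, hij, F.conj_omega hky, inv_mul_cancel_left]
    refine hbot _ (F.dl_mem hc) ?_ ?_
    · rw [hpow, hval]; exact zpow_mem (mem_zpowers e) _
    · rw [hpow, hval]
      intro h0
      rcases (Nat.prime_iff_prime_int.mp hp.out).dvd_or_dvd (F.zpow_e_eq_one.mp h0) with hd | hd
      · exact hk' hd
      · refine hne ?_
        rw [hij, zpow_congr_of_order F.pow_y (j := 0) (by simpa using hd), zpow_zero, one_mul]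
        exact zpow_mem (mem_zpowers e) _
  intro k
  induction k with
  | zero =>
    have h0 : ∀ c ∈ C, c ^ p ^ 0 ∈ zpowers e → c ^ p ^ 0 ≠ 1 → (dl g)^[2 * 0] c ≠ 1 :=
      fun c _ _ h => by simpa using h
    exact ⟨h0, top 0 h0⟩
  | succ k ih =>
    have hb : ∀ c ∈ C, c ^ p ^ (k + 1) ∈ zpowers e → c ^ p ^ (k + 1) ≠ 1 →
        (dl g)^[2 * (k + 1)] c ≠ 1 := by
      intro c hc hmem hne
      obtain ⟨i, hi⟩ := mem_zpowers_iff.mp hmem
      have h2 : c ^ p ^ (k + 1 + 1) = 1 := by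
        rw [pow_succ p, pow_mul, ← hi, ← zpow_natCast, ← zpow_mul, F.zpow_e_eq_one]
        exact dvd_mul_left _ _
      have hpow1 := F.dl_pow hp2 hc (k := k + 1) (F.comm_kill hp2 (Subtype.ext h2) _)
      have hfix : dl g (c ^ p ^ (k + 1)) = 1 := by
        rw [dl, ← hi, ← ((F.central g).zpow_left i).eq, mul_inv_cancel_right, inv_mul_cancel]
      rw [hfix] at hpow1
      have hpow := F.dl_pow hp2 hc (k := k)
        (comm_pow_eq_one hp2 F.isPGroup F.pcentral (x := ⟨dl g c, F.dl_mem hc⟩) (Subtype.ext hpow1) _)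
      rw [show 2 * (k + 1) = (2 * k + 1) + 1 by ring, Function.iterate_succ_apply]
      refine ih.2 _ (F.dl_mem hc) ?_ hpow1
      rw [hpow]
      refine hQ _ (pow_mem hc _) ?_ ?_
      · rw [← pow_mul, ← pow_succ]; exact hmem
      · rw [← pow_mul, ← pow_succ]; exact hne
    exact ⟨hb, top (k + 1) hb⟩

theorem Frame.card_level_le (F : Frame p C y e g) (hp2 : p ≠ 2) (k : ℕ) (S : Set ↥C)
    (hS : ∀ x : ↥C, x ^ p ^ (k + 1) = 1 → x ^ p ^ k ∈ S) :
    Nat.card {x : ↥C // x ^ p ^ (k + 1) = 1} ≤ Nat.card S * Nat.card {x : ↥C // x ^ p ^ k = 1} := by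
  classical
  let s : ↥C → ↥C := fun v => if h : ∃ u : ↥C, u ^ p ^ k = v ∧ u ^ p ^ (k + 1) = 1 then h.choose else 1
  have hs : ∀ x : ↥C, x ^ p ^ (k + 1) = 1 → ((s (x ^ p ^ k))⁻¹ * x) ^ p ^ k = 1 := fun x hx => by
    have h : ∃ u : ↥C, u ^ p ^ k = x ^ p ^ k ∧ u ^ p ^ (k + 1) = 1 := ⟨x, rfl, hx⟩
    simp only [s, dif_pos h]
    rw [mul_pow_ppow hp2 F.isPGroup F.pcentral k _ _ (comm_pow_eq_one hp2 F.isPGroup F.pcentral hx _),
      inv_pow, h.choose_spec.1, inv_mul_cancel]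
  let Φ : {x : ↥C // x ^ p ^ (k + 1) = 1} → S × {x : ↥C // x ^ p ^ k = 1} := fun x =>
    (⟨x.1 ^ p ^ k, hS x.1 x.2⟩, ⟨(s (x.1 ^ p ^ k))⁻¹ * x.1, hs x.1 x.2⟩)
  have hΦ : Function.Injective Φ := fun a b hab => by
    simp only [Φ, Prod.mk.injEq, Subtype.mk.injEq] at hab
    obtain ⟨h1, h2⟩ := hab
    rw [h1] at h2
    exact Subtype.ext (mul_left_cancel h2)
  have h := Nat.card_le_card_of_injective Φ hΦ
  rwa [Nat.card_prod] at h

theorem Frame.card_kill_pow (F : Frame p C y e g) (hp2 : p ≠ 2) :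
    ∀ k : ℕ, Nat.card {x : ↥C // x ^ p ^ k = 1} ≤ p ^ (2 * k) := by
  intro k
  induction k with
  | zero =>
    have : Subsingleton {x : ↥C // x ^ p ^ 0 = 1} := ⟨fun a b => Subtype.ext (by
      exact (show (a : ↥C) = 1 by simpa using a.2).trans (show (b : ↥C) = 1 by simpa using b.2).symm)⟩
    exact Finite.card_le_one_iff_subsingleton.mpr this
  | succ k ih =>
    calc _ ≤ Nat.card {x : ↥C // x ^ p = 1} * Nat.card {x : ↥C // x ^ p ^ k = 1} :=
          F.card_level_le hp2 k {x : ↥C | x ^ p = 1} fun x hx => by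
            show (x ^ p ^ k) ^ p = 1
            rw [← pow_mul, ← pow_succ]; exact hx
      _ ≤ p ^ 2 * p ^ (2 * k) := Nat.mul_le_mul F.card_kill ih
      _ = _ := by rw [← pow_add]; ring_nf

theorem Frame.card_zpowers_e (F : Frame p C y e g) : Nat.card {x : ↥C | (x : G) ∈ zpowers e} ≤ p := by
  refine le_trans (Nat.card_le_card_of_injective (fun x => (⟨_, x.2⟩ : ↥(zpowers e))) ?_)
    (by rw [Nat.card_zpowers, F.order_e])
  intro a b hab
  exact Subtype.ext (Subtype.ext (Subtype.mk.inj hab))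

theorem card_eq_of_forall {k : ℕ} (h : ∀ c ∈ C, c ^ p ^ k = 1) :
    Nat.card {x : ↥C // x ^ p ^ k = 1} = Nat.card ↥C :=
  Nat.card_congr (Equiv.subtypeUnivEquiv fun x => Subtype.ext (h x x.2))

/-- The maximal class case. -/
theorem Frame.maxClass (F : Frame p C y e g) (hp2 : p ≠ 2) {n : ℕ} (hC : Nat.card ↥C = p ^ (n - 1))
    (hQ : ∀ c ∈ C, c ^ p ∈ zpowers e → c ^ p ≠ 1 → dl g c ∉ zpowers e) :
    (⊤ : Subgroup G).lowerCentralSeries (n - 2) ≠ ⊥ := by
  classical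
  have hex : ∃ M, ∀ c ∈ C, c ^ p ^ (M + 1) = 1 := by
    refine ⟨n, fun c hc => ?_⟩
    have : orderOf c ∣ p ^ (n + 1) := (Subgroup.orderOf_dvd_natCard C hc).trans
      (hC ▸ pow_dvd_pow p (by omega))
    exact orderOf_dvd_iff_pow_eq_one.mp this
  set M := Nat.find hex with hM
  have hMspec := Nat.find_spec hex
  have hle2 : Nat.card ↥C ≤ p ^ (2 * M + 2) := by
    rw [← card_eq_of_forall hMspec]; exact F.card_kill_pow hp2 (M + 1)
  by_cases htop : ∃ c ∈ C, c ^ p ^ M ∉ zpowers e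
  · obtain ⟨c, hc, hne⟩ := htop
    refine lcs_ne_bot ((F.chain hp2 hQ M).2 c hc hne (hMspec c hc)) ?_
    rw [hC] at hle2
    have := (Nat.pow_le_pow_iff_right hp.out.one_lt).mp hle2
    omega
  push Not at htop
  have hle1 : Nat.card ↥C ≤ p ^ (2 * M + 1) := by
    rw [← card_eq_of_forall hMspec]
    calc _ ≤ _ := F.card_level_le hp2 M {x : ↥C | (x : G) ∈ zpowers e} fun x _ => by
          show ((x ^ p ^ M : ↥C) : G) ∈ zpowers e
          rw [SubmonoidClass.coe_pow]; exact htop x x.2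
      _ ≤ p * p ^ (2 * M) := Nat.mul_le_mul F.card_zpowers_e (F.card_kill_pow hp2 M)
      _ = _ := (pow_succ' p (2 * M)).symm
  obtain ⟨c, hc, hne⟩ : ∃ c ∈ C, c ^ p ^ M ≠ 1 := by
    rcases Nat.eq_zero_or_pos M with h0 | hpos
    · exact ⟨e, F.e_mem, by rw [h0, pow_zero, pow_one]; exact F.e_ne⟩
    · have h := Nat.find_min hex (show M - 1 < M by omega)
      push Not at h
      obtain ⟨c, hc, hne⟩ := h
      exact ⟨c, hc, by rwa [Nat.sub_add_cancel hpos] at hne⟩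
  refine lcs_ne_bot ((F.chain hp2 hQ M).1 c hc (htop c hc) hne) ?_
  rw [hC] at hle1
  have := (Nat.pow_le_pow_iff_right hp.out.one_lt).mp hle1
  omega

/-- A level of rank two with `g ^ p` centralising it forces `p = 3` and the chain condition. -/
theorem Frame.two_level (F : Frame p C y e g) (hp2 : p ≠ 2) {u : G} (hu : u ∈ C) (hu2 : u ^ p ^ 2 = 1)
    (hup : u ^ p ∉ zpowers e) (hfix : Commute (g ^ p) u) :
    p = 3 ∧ ∀ c ∈ C, c ^ p ∈ zpowers e → c ^ p ≠ 1 → dl g c ∉ zpowers e := by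
  obtain ⟨i, j, hij⟩ := F.omega (u ^ p) (pow_mem hu _) (by rw [← pow_mul, ← pow_two]; exact hu2)
  obtain ⟨k, hk, hky⟩ := F.conj_y
  have hi : ¬ (p : ℤ) ∣ i := fun hd => hup (by
    rw [hij, zpow_congr_of_order F.pow_y (j := 0) (by simpa using hd), zpow_zero, one_mul]
    exact zpow_mem (mem_zpowers e) _)
  set v := dl g u with hv
  have hvm : v ∈ C := F.dl_mem hu
  have hv1 : v ^ p = e ^ (k * i) := by
    have h := F.dl_pow hp2 hu (k := 1) (F.comm_kill hp2 (Subtype.ext hu2) _)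
    rw [pow_one] at h
    rw [hv, h, dl, hij, F.conj_omega hky, inv_mul_cancel_left]
  have hki : ¬ (p : ℤ) ∣ k * i := fun hd =>
    ((Nat.prime_iff_prime_int.mp hp.out).dvd_or_dvd hd).elim hk hi
  have hv2 : v ^ p ^ 2 = 1 := by
    rw [pow_two, pow_mul, hv1, ← zpow_natCast, ← zpow_mul, F.zpow_e_eq_one]; exact dvd_mul_left _ _
  set w := dl g v with hw
  have hwm : w ∈ C := F.dl_mem hvm
  have hw1 : w ^ p = 1 := by
    have h := F.dl_pow hp2 hvm (k := 1) (F.comm_kill hp2 (Subtype.ext hv2) _)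
    rw [pow_one] at h
    rw [hw, h, dl, hv1, ← ((F.central g).zpow_left _).eq, mul_inv_cancel_right, inv_mul_cancel]
  obtain ⟨a, b, hab⟩ := F.omega w hwm hw1
  have hvw : Commute v w := by
    rw [hab]; exact ((F.comm_y v hvm).zpow_right a).mul_right ((F.central v).symm.zpow_right b)
  set z := e ^ (k * a) with hz
  have h3 : g * w * g⁻¹ = w * z := by rw [hab, F.conj_omega hky]
  have hit := iterate_formula (dl_mul g u).symm (dl_mul g v).symm h3 (fun h => (F.central h).zpow_left _)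
    hvw p
  rw [hfix.eq, mul_inv_cancel_right] at hit
  obtain ⟨q, hq⟩ := dvd_choose_two (p := p) hp2
  rw [← hw, ← hv, hq, pow_mul, hw1, one_pow, mul_one, mul_assoc, left_eq_mul, hv1, hz,
    ← zpow_natCast, ← zpow_mul, ← zpow_add, F.zpow_e_eq_one] at hit
  have hp3 : p = 3 := by
    by_contra h
    refine hki ?_
    have hlt : 3 < p := by have := hp.out.two_le; omega
    have : (p : ℤ) ∣ k * a * (p.choose 3 : ℤ) :=
      (Int.natCast_dvd_natCast.mpr (hp.out.dvd_choose_self (by norm_num) hlt)).mul_left _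
    have := dvd_sub hit this
    rwa [add_sub_cancel_right] at this
  refine ⟨hp3, fun c hc hmem hne hdl => ?_⟩
  have hka : ¬ (p : ℤ) ∣ a := fun hd => hki (by
    have := dvd_sub hit ((hd.mul_left k).mul_right (p.choose 3 : ℤ))
    rwa [add_sub_cancel_right] at this)
  obtain ⟨m, hm⟩ := mem_zpowers_iff.mp hmem
  obtain ⟨r, s, hrs⟩ : IsCoprime (p : ℤ) (k * i) :=
    (Nat.prime_iff_prime_int.mp hp.out).coprime_iff_not_dvd.mpr hki
  have hpm : ¬ (p : ℤ) ∣ m := fun hd => hne (hm ▸ F.zpow_e_eq_one.mpr hd)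
  have hcv : c ^ p = (v ^ (s * m)) ^ p := by
    rw [← zpow_natCast (v ^ (s * m)), ← zpow_mul, mul_comm (s * m), zpow_mul, zpow_natCast, hv1, ← zpow_mul,
      ← hm]
    refine zpow_congr_of_order F.e_pow ⟨r * m, ?_⟩
    linear_combination -m * hrs
  have heps := pow_quot_eq_one hp2 F.isPGroup F.pcentral
    (x := (⟨v ^ (s * m), zpow_mem hvm _⟩ : ↥C)) (y := ⟨c, hc⟩) (Subtype.ext hcv.symm)
  obtain ⟨i', j', hε⟩ := F.omega ((v ^ (s * m))⁻¹ * c) (mul_mem (inv_mem (zpow_mem hvm _)) hc)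
    (congrArg Subtype.val heps)
  rw [inv_mul_eq_iff_eq_mul] at hε
  have hwc : ∀ l : ℤ, Commute (y ^ i' * e ^ j') (w ^ l) := fun l =>
    (((F.comm_y w hwm).zpow_right i').mul_right ((F.central w).symm.zpow_right j')).symm.zpow_right l
  have hval : dl g c = w ^ (s * m) * e ^ (k * i') := by
    rw [dl, hε, ← conj_mul, ← conj_zpow, ← dl_mul g v, ← hw, hvw.mul_zpow, F.conj_omega hky, mul_inv_rev,
      mul_assoc, mul_assoc (v ^ (s * m)), inv_mul_cancel_left, ← mul_assoc (w ^ (s * m)),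
      ← (hwc (s * m)).eq, mul_assoc, inv_mul_cancel_left]
  rw [hval] at hdl
  have hwe : w ^ (s * m) ∈ zpowers e := (mul_mem_cancel_right (zpow_mem (mem_zpowers e) _)).mp hdl
  rw [hab, (((F.central y).zpow_left b).symm.zpow_left a).mul_zpow, ← zpow_mul, ← zpow_mul,
    mul_mem_cancel_right (zpow_mem (mem_zpowers e) _)] at hwe
  rcases (Nat.prime_iff_prime_int.mp hp.out).dvd_or_dvd (F.y_zpow_mem hwe) with hd | hd
  · exact hka hd
  rcases (Nat.prime_iff_prime_int.mp hp.out).dvd_or_dvd hd with hd | hd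
  · refine (Nat.prime_iff_prime_int.mp hp.out).not_unit (isUnit_of_dvd_one ?_)
    rw [← hrs]
    exact dvd_add (dvd_mul_left _ _) (hd.mul_right _)
  · exact hpm hd

end Cfsg.Agent.FG38.RankTwo
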