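import Cfsg.Agent.H40.PGroupBasic
import Cfsg.Agent.Lib.PGroup.Basic
import Cfsg.Agent.Lib.PGroup.Commutator
import Cfsg.Prelude

/-!
# `p`-central groups and Huppert's metacyclicity criterion

A finite `p`-group, `p` odd, all of whose elements of order `p` are central has regular-like power maps.
A finite `p`-group, `p` odd, whose `p`-th powers generate a subgroup of index at most `p ^ 2` is metacyclic.
-/

set_option autoImplicit false

open Subgroup
open scoped commutatorElement

namespace Cfsg.Agent.FG38.RankTwo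

variable {p : ℕ} [hp : Fact p.Prime]

/-- All elements of order `p` are central. -/
def PCentral (p : ℕ) (H : Type*) [Group H] : Prop := ∀ x : H, x ^ p = 1 → x ∈ center H

theorem dvd_choose_two (hp2 : p ≠ 2) : p ∣ p.choose 2 :=
  hp.out.dvd_choose_self two_ne_zero (lt_of_le_of_ne hp.out.two_le (Ne.symm hp2))

theorem PCentral.subgroup {H : Type*} [Group H] (hc : PCentral p H) (K : Subgroup H) : PCentral p ↥K :=
  fun x hx => mem_center_iff.mpr fun g => Subtype.ext
    (mem_center_iff.mp (hc x (by rw [← SubmonoidClass.coe_pow, hx, OneMemClass.coe_one])) g)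

/-- `x ^ p = y ^ p` forces `(x⁻¹ * y) ^ p = 1`. -/
theorem pow_quot_eq_one_aux (hp2 : p ≠ 2) (n : ℕ) : ∀ {H : Type*} [Group H] [Finite H], Nat.card H ≤ n →
    IsPGroup p H → PCentral p H → ∀ x y : H, x ^ p = y ^ p → (x⁻¹ * y) ^ p = 1 := by
  induction n with
  | zero => intro H _ _ h; exact absurd h (Nat.not_le.mpr Nat.card_pos)
  | succ n ih =>
    intro H _ _ hn hH hc x y hxy
    have rec_sub : ∀ (K : Subgroup H), K ≠ ⊤ → ∀ a ∈ K, ∀ b ∈ K, a ^ p = b ^ p → (a⁻¹ * b) ^ p = 1 := by
      intro K hK a ha b hb hab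
      have hlt : Nat.card K < Nat.card H := lt_of_le_of_ne (card_le_card_group K)
        fun e => hK (eq_top_of_card_eq K e)
      have := ih (by omega) (hH.to_subgroup K) (hc.subgroup K) ⟨a, ha⟩ ⟨b, hb⟩ (Subtype.ext hab)
      simpa using congrArg Subtype.val this
    by_cases hcom : Commute x y
    · rw [hcom.inv_left.mul_pow, inv_pow, hxy, inv_mul_cancel]
    by_cases htop : closure ({x, y} : Set H) = ⊤
    swap
    · exact rec_sub _ htop x (subset_closure (by simp)) y (subset_closure (by simp)) hxy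
    have hL : closure ({x, y * x * y⁻¹} : Set H) ≠ ⊤ := by
      intro h
      have hle : closure ({x, y * x * y⁻¹} : Set H) ≤ zpowers x ⊔ frattini H := by
        rw [closure_le]
        rintro a (rfl | rfl)
        · exact mem_sup_left (mem_zpowers _)
        · rw [show y * x * y⁻¹ = ⁅y, x⁆ * x by rw [commutatorElement_def]; group]
          exact mul_mem (mem_sup_right (PGroup.comm_mem_frattini hH y x)) (mem_sup_left (mem_zpowers _))
      have hz : zpowers x = ⊤ := frattini_nongenerating (top_le_iff.mp (h ▸ hle))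
      obtain ⟨k, hk⟩ := mem_zpowers_iff.mp (hz.ge (mem_top y))
      exact hcom (hk ▸ (Commute.refl x).zpow_right k)
    have hxc : ∀ g : H, Commute (x ^ p) g := by
      have hle : closure ({x, y} : Set H) ≤ centralizer ({x ^ p} : Set H) := by
        rw [closure_le]
        rintro a (rfl | rfl)
        · exact mem_centralizer_singleton_iff.mpr ((Commute.refl a).pow_right p).eq
        · exact mem_centralizer_singleton_iff.mpr (by rw [hxy]; exact ((Commute.refl a).pow_right p).eq)
      exact fun g => (mem_centralizer_singleton_iff.mp (hle (htop.ge (mem_top g)))).symm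
    have h1 := rec_sub _ hL x (subset_closure (by simp)) (y * x * y⁻¹) (subset_closure (by simp))
      (by rw [conj_pow, ← (hxc y).eq, mul_inv_cancel_right])
    have hcz : x⁻¹ * (y * x * y⁻¹) ∈ center H := hc _ h1
    have e : ⁅y, x⁻¹⁆ = (x⁻¹ * (y * x * y⁻¹))⁻¹ := by
      rw [commutatorElement_def]; group
    have hcen : ∀ g, Commute ⁅y, x⁻¹⁆ g := fun g => by
      rw [e]; exact PGroup.commute_of_mem_center (inv_mem hcz) g
    obtain ⟨k, hk⟩ := dvd_choose_two (p := p) hp2
    rw [PGroup.mul_pow_of_commute_commutator (hcen _) (hcen _), inv_pow, hxy, inv_mul_cancel, one_mul, hk,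
      pow_mul, e, inv_pow, h1, inv_one, one_pow]

variable {H : Type*} [Group H] [Finite H]

theorem pow_quot_eq_one (hp2 : p ≠ 2) (hH : IsPGroup p H) (hc : PCentral p H) {x y : H} (h : x ^ p = y ^ p) :
    (x⁻¹ * y) ^ p = 1 := pow_quot_eq_one_aux hp2 _ le_rfl hH hc x y h

/-- The elements killed by `p ^ k` form a normal subgroup, with higher quotients `p`-central. -/
theorem exists_omega (hp2 : p ≠ 2) (hH : IsPGroup p H) (hc : PCentral p H) (k : ℕ) :
    ∃ W : Subgroup H, W.Normal ∧ (∀ x, x ∈ W ↔ x ^ p ^ k = 1) ∧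
      ∀ x c : H, x ^ p ^ (k + 1) = 1 → ⁅x, c⁆ ∈ W := by
  induction k with
  | zero =>
    refine ⟨⊥, inferInstance, fun x => by simp, fun x c hx => ?_⟩
    rw [zero_add, pow_one] at hx
    rw [mem_bot, commutatorElement_eq_one_iff_mul_comm]
    exact (mem_center_iff.mp (hc x hx) c).symm
  | succ k ih =>
    obtain ⟨W, hW, hmem, hcom⟩ := ih
    let π := QuotientGroup.mk' W
    have hπ : ∀ x : H, π x = 1 ↔ x ^ p ^ k = 1 := fun x => (QuotientGroup.eq_one_iff x).trans (hmem x)
    have hQc : PCentral p (H ⧸ W) := by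
      intro q hq
      obtain ⟨x, rfl⟩ := QuotientGroup.mk'_surjective W q
      rw [mem_center_iff]
      intro r
      obtain ⟨c, rfl⟩ := QuotientGroup.mk'_surjective W r
      rw [← map_pow, hπ, ← pow_mul, ← pow_succ'] at hq
      rw [eq_comm, ← commutatorElement_eq_one_iff_mul_comm, ← map_commutatorElement]
      exact (QuotientGroup.eq_one_iff _).mpr (hcom x c hq)
    let Om : Subgroup (H ⧸ W) :=
      { carrier := {q | q ^ p = 1}
        one_mem' := one_pow p
        mul_mem' := fun {a b} ha hb => by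
          show (a * b) ^ p = 1
          rw [(PGroup.commute_of_mem_center (hQc a ha) b).mul_pow, ha, hb, one_mul]
        inv_mem' := fun {a} ha => by
          show a⁻¹ ^ p = 1
          rw [inv_pow, ha, inv_one] }
    have hOm : Om.Normal := H40.normal_of_le_center' fun q hq => hQc q hq
    refine ⟨Om.comap π, inferInstance, fun x => ?_, fun x c hx => ?_⟩
    · show π x ^ p = 1 ↔ _
      rw [← map_pow, hπ, ← pow_mul, ← pow_succ']
    · show π ⁅x, c⁆ ^ p = 1
      have h1 := hcom (x ^ p) c (by rw [← pow_mul, ← pow_succ']; exact hx)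
      rw [← QuotientGroup.eq_one_iff] at h1
      change π ⁅x ^ p, c⁆ = 1 at h1
      rw [map_commutatorElement, map_pow, commutatorElement_eq_one_iff_mul_comm] at h1
      have h2 : ((π x)⁻¹) ^ p = (π c * (π x)⁻¹ * (π c)⁻¹) ^ p := by
        have h3 : Commute (π x ^ p) (π c) := h1
        rw [conj_pow, inv_pow, ← (h3.inv_left).eq, mul_inv_cancel_right]
      have h4 := pow_quot_eq_one hp2 (hH.to_quotient W) hQc h2
      rw [map_commutatorElement, commutatorElement_def]
      rwa [inv_inv, ← mul_assoc, ← mul_assoc] at h4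

/-- A commutator with an element killed by `p ^ (k + 1)` is killed by `p ^ k`. -/
theorem comm_pow_eq_one (hp2 : p ≠ 2) (hH : IsPGroup p H) (hc : PCentral p H) {k : ℕ} {x : H}
    (hx : x ^ p ^ (k + 1) = 1) (c : H) : ⁅x, c⁆ ^ p ^ k = 1 := by
  obtain ⟨W, -, hmem, hcom⟩ := exists_omega hp2 hH hc k
  exact (hmem _).mp (hcom x c hx)

/-- The power maps are multiplicative modulo small commutators. -/
theorem mul_pow_ppow (hp2 : p ≠ 2) (hH : IsPGroup p H) (hc : PCentral p H) :
    ∀ (k : ℕ) (c d : H), ⁅d, c⁆ ^ p ^ k = 1 → (c * d) ^ p ^ k = c ^ p ^ k * d ^ p ^ k := by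
  intro k
  induction k with
  | zero => intro c d _; simp
  | succ k ih =>
    intro c d h
    obtain ⟨W, hW, hmem, hcom⟩ := exists_omega hp2 hH hc k
    let π := QuotientGroup.mk' W
    have hcen : ∀ g : H ⧸ W, Commute (π ⁅d, c⁆) g := by
      intro g
      obtain ⟨g, rfl⟩ := QuotientGroup.mk'_surjective W g
      show π ⁅d, c⁆ * π g = π g * π ⁅d, c⁆
      rw [← commutatorElement_eq_one_iff_mul_comm, ← map_commutatorElement]
      exact (QuotientGroup.eq_one_iff _).mpr (hcom _ g h)
    have hpW : π ⁅d, c⁆ ^ p = 1 := by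
      rw [← map_pow]
      exact (QuotientGroup.eq_one_iff _).mpr ((hmem _).mpr (by rw [← pow_mul, ← pow_succ']; exact h))
    rw [map_commutatorElement] at hcen hpW
    set r := (c ^ p * d ^ p)⁻¹ * (c * d) ^ p with hr
    have hrW : r ∈ W := by
      rw [← QuotientGroup.eq_one_iff]
      show π r = 1
      obtain ⟨j, hj⟩ := dvd_choose_two (p := p) hp2
      rw [hr, map_mul, map_inv, map_mul, map_pow, map_pow, map_pow, map_mul,
        PGroup.mul_pow_of_commute_commutator (hcen _) (hcen _), hj, pow_mul, hpW, one_pow, mul_one,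
        inv_mul_cancel]
    have hpp : ⁅d ^ p, c ^ p⁆ ∈ W := by
      rw [← QuotientGroup.eq_one_iff]
      show π ⁅d ^ p, c ^ p⁆ = 1
      have h1 : ⁅π d ^ p, π c⁆ = 1 := by rw [PGroup.commutatorElement_pow_left (hcen _), hpW]
      rw [map_commutatorElement, map_pow, map_pow, commutatorElement_eq_one_iff_mul_comm]
      exact (Commute.pow_right (commutatorElement_eq_one_iff_mul_comm.mp h1) p).eq
    have hrc : ⁅r, c ^ p * d ^ p⁆ ∈ W := by
      rw [commutatorElement_def, mul_assoc, mul_assoc]
      exact mul_mem hrW (by rw [← mul_assoc]; exact hW.conj_mem _ (inv_mem hrW) _)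
    have e : (c * d) ^ p = (c ^ p * d ^ p) * r := by rw [hr, mul_inv_cancel_left]
    rw [pow_succ', pow_mul, pow_mul, pow_mul, e, ih _ _ ((hmem _).mp hrc), (hmem r).mp hrW, mul_one,
      ih _ _ ((hmem _).mp hpp)]

/-- The subgroup generated by the `p`-th powers. -/
def agemo (p : ℕ) (H : Type*) [Group H] : Subgroup H := closure (Set.range fun x : H => x ^ p)

omit hp [Finite H] in
theorem pow_mem_agemo (x : H) : x ^ p ∈ agemo p H := subset_closure ⟨x, rfl⟩

instance agemo_characteristic {q : ℕ} {K : Type*} [Group K] : (agemo q K).Characteristic := by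
  rw [characteristic_iff_map_le]
  intro φ
  rw [agemo, MonoidHom.map_closure]
  refine closure_mono ?_
  rintro _ ⟨_, ⟨x, rfl⟩, rfl⟩
  exact ⟨φ x, (map_pow φ.toMonoidHom x q).symm⟩

/-- The agemo subgroup has index at most the number of solutions of `x ^ p = 1`. -/
theorem index_agemo_le (hp2 : p ≠ 2) (hH : IsPGroup p H) (hc : PCentral p H) :
    (agemo p H).index ≤ Nat.card {x : H // x ^ p = 1} := by
  classical
  let s : H → H := fun v => if h : ∃ u : H, u ^ p = v then h.choose else 1
  have hs : ∀ x : H, s (x ^ p) ^ p = x ^ p := fun x => by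
    have h : ∃ u : H, u ^ p = x ^ p := ⟨x, rfl⟩
    simp only [s, dif_pos h]
    exact h.choose_spec
  let F : H → ↥(agemo p H) × {x : H // x ^ p = 1} := fun x =>
    (⟨x ^ p, pow_mem_agemo x⟩, ⟨(s (x ^ p))⁻¹ * x, pow_quot_eq_one hp2 hH hc (hs x)⟩)
  have hF : Function.Injective F := fun a b hab => by
    simp only [F, Prod.mk.injEq, Subtype.mk.injEq] at hab
    obtain ⟨h1, h2⟩ := hab
    rw [h1] at h2
    exact mul_left_cancel h2
  have h := Nat.card_le_card_of_injective F hF
  rw [Nat.card_prod, ← card_mul_index (agemo p H)] at h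
  exact Nat.le_of_mul_le_mul_left h Nat.card_pos

omit hp in
theorem isMetacyclic_of_normal (A : Subgroup H) [A.Normal] [IsCyclic A] (b : H)
    (hb : A ⊔ zpowers b = ⊤) : Cfsg.IsMetacyclic H := by
  refine ⟨A, inferInstance, inferInstance, ⟨⟨(b : H ⧸ A), fun q => ?_⟩⟩⟩
  obtain ⟨g, rfl⟩ := QuotientGroup.mk_surjective q
  obtain ⟨a, ha, c, hc, rfl⟩ := mem_sup_of_normal_left.mp (hb.ge (mem_top g))
  obtain ⟨i, rfl⟩ := mem_zpowers_iff.mp hc
  refine ⟨i, ?_⟩
  show (b : H ⧸ A) ^ i = _
  rw [QuotientGroup.mk_mul, (QuotientGroup.eq_one_iff a).mpr ha, one_mul, QuotientGroup.mk_zpow]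

omit hp in
theorem isMetacyclic_of_isCyclic (h : IsCyclic H) : Cfsg.IsMetacyclic H :=
  haveI : IsCyclic ↥(⊤ : Subgroup H) := topEquiv.isCyclic.mpr h
  isMetacyclic_of_normal ⊤ 1 (by simp)

theorem card_mul_le_of_lt {A B : Subgroup H} (hH : IsPGroup p H) (h : A < B) :
    p * Nat.card A ≤ Nat.card B := by
  obtain ⟨a, ha⟩ := IsPGroup.iff_card.mp (hH.to_subgroup A)
  obtain ⟨b, hb⟩ := IsPGroup.iff_card.mp (hH.to_subgroup B)
  rw [ha, hb, ← pow_succ']
  refine Nat.pow_le_pow_right hp.out.pos (Nat.succ_le_of_lt ?_)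
  have : Nat.card A < Nat.card B := lt_of_le_of_ne (card_le_of_le h.le)
    fun e => h.ne (eq_of_le_of_card_ge h.le e.ge)
  rw [ha, hb] at this
  exact (Nat.pow_lt_pow_iff_right hp.out.one_lt).mp this

/-- Huppert: for odd `p`, index of the agemo subgroup at most `p ^ 2` gives a metacyclic group. -/
theorem isMetacyclic_of_agemo_aux (hp2 : p ≠ 2) (n : ℕ) : ∀ {G : Type*} [Group G] [Finite G],
    Nat.card G ≤ n → IsPGroup p G → (agemo p G).index ≤ p ^ 2 → Cfsg.IsMetacyclic G := by
  induction n with
  | zero => intro G _ _ h; exact absurd h (Nat.not_le.mpr Nat.card_pos)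
  | succ n ih =>
    intro G _ _ hn hG hidx
    by_cases hcyc : IsCyclic G
    · exact isMetacyclic_of_isCyclic hcyc
    have hle : agemo p G ≤ frattini G := by
      rw [agemo, closure_le]
      rintro _ ⟨x, rfl⟩
      exact PGroup.pow_mem_frattini hG x
    have hzne : ∀ a : G, frattini G ⊔ zpowers a ≠ ⊤ := fun a h =>
      hcyc ⟨⟨a, fun g => (frattini_nongenerating (sup_comm (frattini G) (zpowers a) ▸ h)).ge (mem_top g)⟩⟩
    have hfi : Nat.card G ≤ p * (p * Nat.card (frattini G)) := by
      rw [← mul_assoc, ← pow_two]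
      calc Nat.card G = Nat.card (agemo p G) * (agemo p G).index := (card_mul_index _).symm
        _ ≤ Nat.card (frattini G) * p ^ 2 := Nat.mul_le_mul (card_le_of_le hle) hidx
        _ = _ := mul_comm _ _
    have hgen : ∀ a : G, a ∉ frattini G → ∃ b, zpowers a ⊔ zpowers b = ⊤ := by
      intro a ha
      obtain ⟨b, hb⟩ : ∃ b, b ∉ frattini G ⊔ zpowers a := by
        by_contra hall
        push Not at hall
        exact hzne a (eq_top_iff.mpr fun g _ => hall g)
      refine ⟨b, frattini_nongenerating ?_⟩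
      rw [sup_comm, ← sup_assoc]
      have h1 : frattini G < frattini G ⊔ zpowers a := lt_of_le_of_ne le_sup_left
        fun e => ha (e ▸ mem_sup_right (mem_zpowers a))
      have h2 : frattini G ⊔ zpowers a < frattini G ⊔ zpowers a ⊔ zpowers b := lt_of_le_of_ne le_sup_left
        fun e => hb (e ▸ mem_sup_right (mem_zpowers b))
      refine eq_top_of_le_card _ ?_
      calc Nat.card G ≤ p * (p * Nat.card (frattini G)) := hfi
        _ ≤ p * Nat.card ↥(frattini G ⊔ zpowers a) := Nat.mul_le_mul_left _ (card_mul_le_of_lt hG h1)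
        _ ≤ _ := card_mul_le_of_lt hG h2
    obtain ⟨a0, ha0⟩ : ∃ a : G, a ∉ frattini G := by
      by_contra hall
      push Not at hall
      exact hzne 1 (eq_top_iff.mpr fun g _ => mem_sup_left (hall g))
    by_cases hab : commutator G = ⊥
    · obtain ⟨b, hb⟩ := hgen a0 ha0
      haveI : (zpowers a0).Normal := H40.normal_of_le_center' (zpowers_le.mpr (mem_center_iff.mpr fun g =>
        commutatorElement_eq_one_iff_mul_comm.mp
          (mem_bot.mp (hab ▸ PGroup.commutatorElement_mem_commutator g a0))))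
      exact isMetacyclic_of_normal (zpowers a0) b hb
    obtain ⟨e, hec, hez, heo⟩ := H40.exists_central_orderOf_eq hG (commutator G) hab
    set N := zpowers e with hN
    haveI : N.Normal := H40.normal_of_le_center' (zpowers_le.mpr hez)
    have hNcard : Nat.card N = p := by rw [hN, Nat.card_zpowers, heo]
    have hQ : Nat.card (G ⧸ N) ≤ n := by
      have h := card_eq_card_quotient_mul_card_subgroup N
      rw [hNcard] at h
      have hpos : 0 < Nat.card (G ⧸ N) := Nat.card_pos
      have hlt : Nat.card (G ⧸ N) * 1 < Nat.card (G ⧸ N) * p :=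
        Nat.mul_lt_mul_of_pos_left hp.out.one_lt hpos
      omega
    obtain ⟨A₀, hA₀, ⟨⟨α, hα⟩⟩, ⟨⟨β, hβ⟩⟩⟩ := ih hQ (hG.to_quotient N) (by
      refine le_trans ?_ hidx
      have hmap : (agemo p G).map (QuotientGroup.mk' N) ≤ agemo p (G ⧸ N) := by
        rw [agemo, MonoidHom.map_closure]
        refine closure_mono ?_
        rintro _ ⟨_, ⟨x, rfl⟩, rfl⟩
        exact ⟨QuotientGroup.mk' N x, (map_pow (QuotientGroup.mk' N) x p).symm⟩
      exact Nat.le_of_dvd (Nat.pos_of_ne_zero index_ne_zero_of_finite)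
        ((index_dvd_of_le hmap).trans (index_map_dvd _ (QuotientGroup.mk'_surjective N))))
    obtain ⟨a, ha⟩ := QuotientGroup.mk'_surjective N (α : G ⧸ N)
    obtain ⟨β', rfl⟩ := QuotientGroup.mk_surjective β
    obtain ⟨b, rfl⟩ := QuotientGroup.mk'_surjective N β'
    set A := A₀.comap (QuotientGroup.mk' N) with hA
    have haA : a ∈ A := by rw [hA, mem_comap, ha]; exact α.2
    have heA : e ∈ A := by
      rw [hA, mem_comap]
      rw [QuotientGroup.mk'_apply, (QuotientGroup.eq_one_iff e).mpr (mem_zpowers e)]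
      exact one_mem A₀
    have hAmem : ∀ g ∈ A, ∃ i j : ℤ, g = a ^ i * e ^ j := by
      intro g hg
      obtain ⟨i, hi⟩ := hα ⟨_, mem_comap.mp hg⟩
      have hi' : QuotientGroup.mk' N (a ^ i) = QuotientGroup.mk' N g := by
        rw [map_zpow, ha]; exact congrArg Subtype.val hi
      obtain ⟨j, hj⟩ := mem_zpowers_iff.mp (QuotientGroup.eq.mp hi')
      exact ⟨i, j, by rw [hj, mul_inv_cancel_left]⟩
    have hAb : A ⊔ zpowers b = ⊤ := by
      refine eq_top_iff.mpr fun g _ => ?_
      obtain ⟨i, hi⟩ := hβ (((QuotientGroup.mk' N g : G ⧸ N)) : (G ⧸ N) ⧸ A₀)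
      have h1 : (QuotientGroup.mk' N b ^ i)⁻¹ * QuotientGroup.mk' N g ∈ A₀ := by
        rw [← QuotientGroup.eq, QuotientGroup.mk_zpow]; exact hi
      have h2 : (b ^ i)⁻¹ * g ∈ A := by rwa [hA, mem_comap, map_mul, map_inv, map_zpow]
      have := mul_mem (mem_sup_right (S := A) (zpow_mem (mem_zpowers b) i)) (mem_sup_left (T := zpowers b) h2)
      rwa [mul_inv_cancel_left] at this
    have hec' : ∀ g : G, Commute e g := PGroup.commute_of_mem_center hez
    by_cases hea : e ∈ zpowers a
    · haveI : IsCyclic ↥A := by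
        have : A = zpowers a := le_antisymm (fun g hg => by
          obtain ⟨i, j, rfl⟩ := hAmem g hg
          exact mul_mem (zpow_mem (mem_zpowers a) i) (zpow_mem hea j)) (zpowers_le.mpr haA)
        rw [this]; infer_instance
      exact isMetacyclic_of_normal A b hAb
    obtain ⟨t, s, hts⟩ := hAmem ⁅b, a⁆ (by
      rw [commutatorElement_def]
      exact mul_mem ((inferInstance : A.Normal).conj_mem a haA b) (inv_mem haA))
    have hbab : b * a * b⁻¹ = a ^ (1 + t) * e ^ s := by
      rw [show b * a * b⁻¹ = ⁅b, a⁆ * a by rw [commutatorElement_def]; group, hts, mul_assoc,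
        ((hec' a).zpow_left s).eq, ← mul_assoc, add_comm, zpow_add_one]
    have hsplit : ∀ i k : ℤ, (a ^ i * e ^ s) ^ k = a ^ (i * k) * e ^ (s * k) := fun i k => by
      rw [((hec' (a ^ i)).zpow_left s).symm.mul_zpow, ← zpow_mul, ← zpow_mul]
    have hcb : b * ⁅b, a⁆ * b⁻¹ = ⁅b, a⁆ ^ (1 + t) := by
      have h1 : b * e ^ s * b⁻¹ = e ^ s := by rw [← ((hec' b).zpow_left s).eq, mul_inv_cancel_right]
      rw [hts, ← conj_mul, ← conj_zpow, h1, hbab, hsplit, hsplit, mul_assoc, ← zpow_add]
      congr 1
      · congr 1; ring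
      · congr 1; ring
    have hca : Commute ⁅b, a⁆ a := by
      rw [hts]; exact ((Commute.refl a).zpow_left t).mul_left ((hec' a).zpow_left s)
    have hgenG : ∀ S : Subgroup G, a ∈ S → e ∈ S → b ∈ S → S = ⊤ := fun S h1 h2 h3 =>
      top_le_iff.mp (hAb ▸ sup_le (fun g hg => by
        obtain ⟨i, j, rfl⟩ := hAmem g hg
        exact mul_mem (zpow_mem h1 i) (zpow_mem h2 j)) (zpowers_le.mpr h3))
    haveI hcN : (zpowers ⁅b, a⁆).Normal := by
      rw [← normalizer_eq_top_iff]
      have hcz : ∀ g : G, Commute ⁅b, a⁆ g → g ∈ centralizer (zpowers ⁅b, a⁆ : Set G) := fun g hg => by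
        rw [mem_centralizer_iff]
        rintro _ hk
        obtain ⟨k, rfl⟩ := mem_zpowers_iff.mp hk
        exact (hg.zpow_left k).eq
      apply hgenG
      · exact centralizer_le_normalizer _ (hcz a hca)
      · exact centralizer_le_normalizer _ (hcz e (hec' _).symm)
      · set K := zpowers ⁅b, a⁆ with hK
        have hmap : K.map (MulAut.conj b).toMonoidHom = K := by
          refine eq_of_le_of_card_ge ?_ (le_of_eq (card_map_of_injective (MulAut.conj b).injective).symm)
          rw [hK, MonoidHom.map_zpowers, zpowers_le]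
          show b * ⁅b, a⁆ * b⁻¹ ∈ _
          rw [hcb]
          exact zpow_mem (mem_zpowers _) _
        rw [mem_normalizer_iff]
        intro g
        conv_rhs => rw [← hmap]
        exact (mem_map_iff_mem (f := (MulAut.conj b).toMonoidHom) (MulAut.conj b).injective).symm
    have hcomle : commutator G ≤ zpowers ⁅b, a⁆ := by
      refine Normal.quotient_commutative_iff_commutator_le.mp ⟨⟨fun q r => ?_⟩⟩
      have hcq : ∀ u v : G, u ∈ ({a, e, b} : Set G) → v ∈ ({a, e, b} : Set G) →
          Commute (u : G ⧸ zpowers ⁅b, a⁆) v := by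
        have h1 : Commute (b : G ⧸ zpowers ⁅b, a⁆) a := by
          show _ * _ = _ * _
          rw [← commutatorElement_eq_one_iff_mul_comm]
          exact ((map_commutatorElement (QuotientGroup.mk' _) b a).symm.trans
            ((QuotientGroup.eq_one_iff _).mpr (mem_zpowers _)))
        have h2 : ∀ g : G, Commute (e : G ⧸ zpowers ⁅b, a⁆) g := fun g =>
          (hec' g).map (QuotientGroup.mk' (zpowers ⁅b, a⁆))
        rintro u v (rfl | rfl | rfl) (rfl | rfl | rfl)
        all_goals first
          | exact Commute.refl _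
          | exact h2 _
          | exact (h2 _).symm
          | exact h1
          | exact h1.symm
      have hall : ∀ u v : G, Commute (u : G ⧸ zpowers ⁅b, a⁆) v := by
        intro u v
        have step : ∀ w ∈ ({a, e, b} : Set G),
            u ∈ (centralizer ({(w : G ⧸ zpowers ⁅b, a⁆)} : Set _)).comap (QuotientGroup.mk' _) := by
          intro w hw
          refine (hgenG _ ?_ ?_ ?_).ge (mem_top u) <;>
            exact mem_centralizer_singleton_iff.mpr (hcq _ w (by simp) hw).eq
        refine ((hgenG ((centralizer ({(u : G ⧸ zpowers ⁅b, a⁆)} : Set _)).comap (QuotientGroup.mk' _))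
          ?_ ?_ ?_).ge (mem_top v) |> fun h => (mem_centralizer_singleton_iff.mp h : _ = _).symm) <;>
            exact mem_centralizer_singleton_iff.mpr (mem_centralizer_singleton_iff.mp (step _ (by simp))).symm
      induction q using QuotientGroup.induction_on with
      | _ u => induction r using QuotientGroup.induction_on with
        | _ v => exact hall u v
    obtain ⟨j, hj⟩ := mem_zpowers_iff.mp (hcomle hec)
    have hpe : ∀ i : ℤ, e ^ i = 1 ↔ (p : ℤ) ∣ i := fun i => by
      rw [← orderOf_dvd_iff_zpow_eq_one, heo]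
    rw [hts, hsplit] at hj
    have hatj : a ^ (t * j) = e ^ (1 - s * j) := by
      rw [zpow_sub, zpow_one]
      exact eq_mul_inv_of_mul_eq hj
    have hsj : (p : ℤ) ∣ 1 - s * j := by
      by_contra hd
      obtain ⟨u, v, huv⟩ : IsCoprime (p : ℤ) (1 - s * j) :=
        (Nat.prime_iff_prime_int.mp hp.out).coprime_iff_not_dvd.mpr hd
      refine hea ?_
      have : e = (a ^ (t * j)) ^ v := by
        rw [hatj, ← zpow_mul]
        calc e = e ^ (u * (p : ℤ) + v * (1 - s * j)) := by rw [huv, zpow_one]
          _ = _ := by rw [zpow_add, (hpe _).mpr (dvd_mul_left _ _), one_mul, mul_comm v]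
      rw [this]
      exact zpow_mem (zpow_mem (mem_zpowers a) _) _
    rw [(hpe _).mpr hsj] at hatj
    have hat : a ^ t = 1 := by
      have hpj : ¬ (p : ℤ) ∣ j := fun hd => by
        have := dvd_add hsj (hd.mul_left s)
        rw [sub_add_cancel] at this
        exact (Nat.prime_iff_prime_int.mp hp.out).not_unit (isUnit_of_dvd_one this)
      obtain ⟨m, hm⟩ := hG a
      have hcop : IsCoprime ((p : ℤ) ^ m) j :=
        ((Nat.prime_iff_prime_int.mp hp.out).coprime_iff_not_dvd.mpr hpj).pow_left
      have h1 : (orderOf a : ℤ) ∣ t * j := orderOf_dvd_iff_zpow_eq_one.mpr hatj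
      have h2 : (orderOf a : ℤ) ∣ (p : ℤ) ^ m := by exact_mod_cast orderOf_dvd_of_pow_eq_one hm
      exact orderOf_dvd_iff_zpow_eq_one.mp ((hcop.of_isCoprime_of_dvd_left h2).dvd_of_dvd_mul_right h1)
    rw [hat, one_mul] at hts
    have hcomN : commutator G ≤ N := hcomle.trans (zpowers_le.mpr (hts ▸ zpow_mem (mem_zpowers e) s))
    have hcl2 : commutator G ≤ center G := hcomN.trans (zpowers_le.mpr hez)
    have hexp : ∀ g h : G, ⁅g, h⁆ ^ p = 1 := fun g h => by
      obtain ⟨i, hi⟩ := mem_zpowers_iff.mp (hcomN (PGroup.commutatorElement_mem_commutator g h))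
      rw [← hi, ← zpow_natCast, ← zpow_mul]
      exact (hpe _).mpr (dvd_mul_left _ _)
    let f : G →* G :=
      { toFun := fun g => g ^ p
        map_one' := one_pow p
        map_mul' := fun g h => PGroup.mul_pow_prime_classTwo hcl2 hp.out hp2 (hexp h g) }
    have hag : agemo p G = f.range := by
      refine le_antisymm ((closure_le _).mpr ?_) ?_
      · rintro _ ⟨x, rfl⟩; exact ⟨x, rfl⟩
      · rintro _ ⟨x, rfl⟩; exact pow_mem_agemo x
    have hQcomm : commutator G ≤ agemo p G := by
      refine Normal.quotient_commutative_iff_commutator_le.mp ?_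
      obtain ⟨k, hk⟩ := IsPGroup.iff_card.mp (hG.to_quotient (agemo p G))
      have hk2 : p ^ k ≤ p ^ 2 := by rw [← hk, ← index_eq_card]; exact hidx
      have hk2' := (Nat.pow_le_pow_iff_right hp.out.one_lt).mp hk2
      interval_cases k
      · haveI : Subsingleton (G ⧸ agemo p G) := (Nat.card_eq_one_iff_unique.mp (by rw [hk, pow_zero])).1
        exact ⟨⟨fun _ _ => Subsingleton.elim _ _⟩⟩
      · exact ⟨⟨fun a b => (PGroup.commute_of_card_prime (p := p) (by rw [hk, pow_one]) a b).eq⟩⟩
      · exact ⟨⟨IsPGroup.commutative_of_card_eq_prime_sq hk⟩⟩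
    have hfr : agemo p G = frattini G := by
      refine eq_of_le_of_card_ge hle ?_
      obtain ⟨c, hc⟩ : ∃ c, c ∉ frattini G ⊔ zpowers a0 := by
        by_contra hall
        push Not at hall
        exact hzne a0 (eq_top_iff.mpr fun g _ => hall g)
      have h1 : frattini G < frattini G ⊔ zpowers a0 := lt_of_le_of_ne le_sup_left
        fun e => ha0 (e ▸ mem_sup_right (mem_zpowers a0))
      have h2 : frattini G ⊔ zpowers a0 < ⊤ := (hzne a0).lt_top
      have h3 : p * (p * Nat.card (frattini G)) ≤ Nat.card G := by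
        calc p * (p * Nat.card (frattini G)) ≤ p * Nat.card ↥(frattini G ⊔ zpowers a0) :=
              Nat.mul_le_mul_left _ (card_mul_le_of_lt hG h1)
          _ ≤ Nat.card ↥(⊤ : Subgroup G) := card_mul_le_of_lt hG h2
          _ = _ := card_top
      rw [← card_mul_index (agemo p G)] at h3
      refine Nat.le_of_mul_le_mul_left ?_ (pow_pos hp.out.pos 2)
      calc p ^ 2 * Nat.card (frattini G) = p * (p * Nat.card (frattini G)) := by ring
        _ ≤ Nat.card (agemo p G) * (agemo p G).index := h3
        _ ≤ Nat.card (agemo p G) * p ^ 2 := Nat.mul_le_mul_left _ hidx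
        _ = p ^ 2 * Nat.card (agemo p G) := mul_comm _ _
    classical
    set P : ℕ → Prop := fun r => ∃ d : G, d ^ p ^ r = e
    set r := Nat.findGreatest P (Nat.card G) with hr
    have hP1 : P 1 := by
      obtain ⟨d, hd⟩ := hag.le (hQcomm hec)
      exact ⟨d, by rw [pow_one]; exact hd⟩
    have hrP : P r := Nat.findGreatest_spec (show 1 ≤ Nat.card G from Nat.card_pos) hP1
    obtain ⟨d, hd⟩ := hrP
    have hdnot : d ∉ frattini G := by
      intro hmem
      obtain ⟨u, hu⟩ := hag.le (hfr.ge hmem)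
      have hu' : u ^ p ^ (r + 1) = e := by rw [pow_succ', pow_mul]; rw [← hd, ← hu]; rfl
      have hrle : r + 1 ≤ Nat.card G := by
        have hne : u ^ p ^ (r + 1) ≠ 1 := by
          rw [hu']; intro h1; rw [h1, orderOf_one] at heo; exact hp.out.ne_one heo.symm
        have hnd : ¬ orderOf u ∣ p ^ (r + 1) := fun h => hne (orderOf_dvd_iff_pow_eq_one.mp h)
        obtain ⟨k, hk⟩ := hG u
        obtain ⟨i, -, hi⟩ := (Nat.dvd_prime_pow hp.out).mp (orderOf_dvd_of_pow_eq_one hk)
        have h1 : r + 1 < i := by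
          by_contra hge
          exact hnd (hi ▸ pow_dvd_pow p (by omega))
        have h2 := Nat.lt_pow_self (n := i) hp.out.one_lt
        have h3 : orderOf u ≤ Nat.card G := orderOf_le_card (G := G)
        omega
      have := Nat.le_findGreatest hrle (show P (r + 1) from ⟨u, hu'⟩)
      omega
    obtain ⟨w, hw⟩ := hgen d hdnot
    have hND : N ≤ zpowers d := zpowers_le.mpr (hd ▸ pow_mem (mem_zpowers d) _)
    haveI : (zpowers d).Normal := ⟨fun g hg h => by
      rw [show h * g * h⁻¹ = ⁅h, g⁆ * g by rw [commutatorElement_def]; group]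
      exact mul_mem (hND (hcomN (PGroup.commutatorElement_mem_commutator h g))) hg⟩
    exact isMetacyclic_of_normal (zpowers d) w hw

theorem isMetacyclic_of_agemo (hp2 : p ≠ 2) (hH : IsPGroup p H) (h : (agemo p H).index ≤ p ^ 2) :
    Cfsg.IsMetacyclic H := isMetacyclic_of_agemo_aux hp2 _ le_rfl hH h

end Cfsg.Agent.FG38.RankTwo
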