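import Cfsg.Agent.Lib.Transfer.Frobenius
import Cfsg.Agent.Lib.Involution.BaerSuzuki
import Cfsg.Agent.Lib.Involution.Dihedral
import Cfsg.Agent.Lib.Thompson.Cores
import Cfsg.Agent.Lib.Coprime.Action

/-!
Real elements: basic facts, real elements of odd order and the Sylow 2-subgroup, central real
2-elements.
-/

set_option autoImplicit false

namespace Cfsg.Agent.FG38

open Subgroup

variable {G : Type*} [Group G] [Finite G]

theorem eq_one_of_real_of_odd_group (h : Odd (Nat.card G)) {x t : G} (ht : t * x * t⁻¹ = x⁻¹) :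
    x = 1 := by
  have ho : Odd (orderOf t) := h.of_dvd_nat (orderOf_dvd_natCard t)
  obtain ⟨k, hk⟩ := ho
  have h2 : Commute (t ^ 2) x := by
    have : t ^ 2 * x * (t ^ 2)⁻¹ = x := by
      calc t ^ 2 * x * (t ^ 2)⁻¹ = t * (t * x * t⁻¹) * t⁻¹ := by rw [pow_two]; group
        _ = t * x⁻¹ * t⁻¹ := by rw [ht]
        _ = (t * x * t⁻¹)⁻¹ := by group
        _ = x := by rw [ht, inv_inv]
    exact mul_inv_eq_iff_eq_mul.mp this
  have ht1 : Commute t x := by
    have : t = (t ^ 2) ^ (k + 1) := by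
      rw [← pow_mul, show 2 * (k + 1) = orderOf t + 1 by omega, pow_succ, pow_orderOf_eq_one, one_mul]
    rw [this]; exact h2.pow_left _
  rw [ht1.eq, mul_inv_cancel_right] at ht
  have hsq : x ^ 2 = 1 := by rw [pow_two]; nth_rewrite 1 [ht]; exact inv_mul_cancel x
  have hd1 : orderOf x ∣ 2 := orderOf_dvd_of_pow_eq_one hsq
  rcases (Nat.dvd_prime Nat.prime_two).mp hd1 with h1 | h1
  · exact orderOf_eq_one_iff.mp h1
  · exfalso
    have := h.of_dvd_nat (h1 ▸ orderOf_dvd_natCard x)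
    exact absurd this (by decide)

theorem exists_two_element_inverting {x : G} (hx : IsConj x x⁻¹) :
    ∃ t : G, (∃ j : ℕ, orderOf t = 2 ^ j) ∧ t * x * t⁻¹ = x⁻¹ := by
  obtain ⟨g, hg⟩ := isConj_iff.mp hx
  obtain ⟨j, m, hm, hjm⟩ := Nat.exists_eq_pow_mul_and_not_dvd (orderOf_pos g).ne' 2 (by norm_num)
  obtain ⟨k, hk⟩ : Odd m := Nat.not_even_iff_odd.mp (fun h => hm h.two_dvd)
  refine ⟨g ^ m, ⟨j, ?_⟩, ?_⟩
  · rw [orderOf_pow, hjm, Nat.gcd_mul_left_left, Nat.mul_div_cancel _ (by omega)]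
  · have h2 : Commute (g ^ 2) x := by
      have : g ^ 2 * x * (g ^ 2)⁻¹ = x := by
        calc g ^ 2 * x * (g ^ 2)⁻¹ = g * (g * x * g⁻¹) * g⁻¹ := by rw [pow_two]; group
          _ = g * x⁻¹ * g⁻¹ := by rw [hg]
          _ = (g * x * g⁻¹)⁻¹ := by group
          _ = x := by rw [hg, inv_inv]
      exact mul_inv_eq_iff_eq_mul.mp this
    have h3 : Commute ((g ^ 2) ^ k) x := h2.pow_left k
    calc g ^ m * x * (g ^ m)⁻¹ = g * ((g ^ 2) ^ k * x * ((g ^ 2) ^ k)⁻¹) * g⁻¹ := by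
          rw [hk, pow_succ', pow_mul]; group
      _ = g * x * g⁻¹ := by rw [h3.eq, mul_inv_cancel_right]
      _ = x⁻¹ := hg

theorem real_basic (x : G) (hx : IsConj x x⁻¹) :
    (∃ t : G, (∃ j : ℕ, orderOf t = 2 ^ j) ∧ t * x * t⁻¹ = x⁻¹) ∧
      (Odd (Subgroup.centralizer ({x} : Set G)).index → x ^ 2 = 1) ∧
      ∀ (N : Subgroup G) [N.Normal], Odd N.index →
        ∃ hxN : x ∈ N, IsConj (⟨x, hxN⟩ : N) (⟨x, hxN⟩ : N)⁻¹ := by
  obtain ⟨t, ⟨j, hj⟩, ht⟩ := exists_two_element_inverting hx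
  refine ⟨⟨t, ⟨j, hj⟩, ht⟩, fun hodd => ?_, fun N hN hNodd => ?_⟩
  · by_contra hx2
    set H : Subgroup G :=
      { carrier := {g | g * x * g⁻¹ = x ∨ g * x * g⁻¹ = x⁻¹}
        one_mem' := Or.inl (by group)
        mul_mem' := by
          intro a b ha hb
          have : a * b * x * (a * b)⁻¹ = a * (b * x * b⁻¹) * a⁻¹ := by group
          simp only [Set.mem_setOf_eq, this] at ha hb ⊢
          rcases hb with hb | hb <;> rw [hb]
          · exact ha
          · rw [show a * x⁻¹ * a⁻¹ = (a * x * a⁻¹)⁻¹ by group]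
            rcases ha with ha | ha <;> simp [ha]
        inv_mem' := by
          intro a ha
          simp only [Set.mem_setOf_eq, inv_inv] at ha ⊢
          rcases ha with ha | ha
          · left; nth_rewrite 1 [← ha]; group
          · right
            rw [show a⁻¹ * x * a = (a⁻¹ * x⁻¹ * a)⁻¹ by group]
            nth_rewrite 1 [← ha]; group }
    have hle : centralizer ({x} : Set G) ≤ H := fun c hc =>
      Or.inl (by rw [mem_centralizer_singleton_iff.mp hc, mul_inv_cancel_right])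
    have h2 : (centralizer ({x} : Set G)).relIndex H = 2 := by
      rw [relIndex, index_eq_two_iff']
      refine ⟨⟨t⁻¹, H.inv_mem (Or.inr ht)⟩, fun b => ?_⟩
      simp only [mem_subgroupOf, coe_mul, mem_centralizer_singleton_iff]
      have hne : x⁻¹ ≠ x := fun h => hx2 (by rw [pow_two]; nth_rewrite 1 [← h]; exact inv_mul_cancel x)
      have hiff : ∀ g : G, g * x = x * g ↔ g * x * g⁻¹ = x :=
        fun g => mul_inv_eq_iff_eq_mul.symm
      rw [hiff, hiff]
      have hc : t⁻¹ * (b : G) * x * (t⁻¹ * (b : G))⁻¹ = t⁻¹ * ((b : G) * x * (b : G)⁻¹) * t := by group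
      rw [hc]
      have e1 : t⁻¹ * x * t = x⁻¹ := by
        have h' : t * x⁻¹ * t⁻¹ = x := by
          rw [show t * x⁻¹ * t⁻¹ = (t * x * t⁻¹)⁻¹ by group, ht, inv_inv]
        nth_rewrite 1 [← h']; group
      have e2 : t⁻¹ * x⁻¹ * t = x := by nth_rewrite 1 [← ht]; group
      rcases b.2 with hb | hb <;> rw [hb]
      · simp [e1, hne]
      · simp [e2, hne]
    have := Subgroup.relIndex_mul_index hle
    rw [h2] at this
    obtain ⟨k, hk⟩ := hodd
    omega
  · haveI := hN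
    have hq : Odd (Nat.card (G ⧸ N)) := by rwa [← index_eq_card]
    have hmap : (t : G ⧸ N) * (x : G ⧸ N) * (t : G ⧸ N)⁻¹ = (x : G ⧸ N)⁻¹ := by
      rw [← QuotientGroup.mk_inv, ← QuotientGroup.mk_inv, ← QuotientGroup.mk_mul,
        ← QuotientGroup.mk_mul, ht]
    have hxN : x ∈ N := (QuotientGroup.eq_one_iff x).mp (eq_one_of_real_of_odd_group hq hmap)
    have htN : t ∈ N := by
      rw [← QuotientGroup.eq_one_iff, ← orderOf_eq_one_iff]
      have h1 : orderOf (t : G ⧸ N) ∣ 2 ^ j := hj ▸ orderOf_map_dvd (QuotientGroup.mk' N) t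
      obtain ⟨i, -, hi⟩ := (Nat.dvd_prime_pow Nat.prime_two).mp h1
      have h2 : Odd (orderOf (t : G ⧸ N)) := hq.of_dvd_nat (orderOf_dvd_natCard _)
      rw [hi] at h2 ⊢
      rcases Nat.eq_zero_or_pos i with rfl | hi0
      · rfl
      · exact absurd h2 (Nat.not_odd_iff_even.mpr ((Nat.even_pow' hi0.ne').mpr even_two))
    exact ⟨hxN, isConj_iff.mpr ⟨⟨t, htN⟩, Subtype.ext ht⟩⟩

theorem exists_conj_zpow_of_mem_sup {N : Subgroup G} [N.Normal]
    (hN : IsPGroup 2 N) {x y : G} (hx : Odd (orderOf x)) (hxy : orderOf y = orderOf x)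
    (hy : y ∈ N ⊔ zpowers x) : ∃ n ∈ N, n * y * n⁻¹ ∈ zpowers x := by
  have hcop : (Nat.card (zpowers y)).Coprime (Nat.card N) := by
    obtain ⟨e, he⟩ := IsPGroup.iff_card.mp hN
    rw [he, Nat.card_zpowers, hxy]
    exact Nat.Coprime.pow_right _ ((Nat.prime_two.coprime_iff_not_dvd.mpr
      (fun hd => (Nat.not_even_iff_odd.mpr hx) (even_iff_two_dvd.mpr hd))).symm)
  obtain ⟨n, hn, hle⟩ := Coprime.exists_conj_le_of_le_sup (zpowers y) N (zpowers x)
    (by rw [normalizer_eq_top_iff.mpr inferInstance]; exact le_top)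
    (by rw [normalizer_eq_top_iff.mpr inferInstance]; exact le_top)
    hcop (Or.inl inferInstance) (zpowers_le.mpr hy)
  exact ⟨n, hn, hle _ (mem_zpowers y)⟩

theorem exists_prime_real_of_not_normal (P : Sylow 2 G) (h : ¬ (P : Subgroup G).Normal) :
    ∃ x : G, x ≠ 1 ∧ Odd (orderOf x) ∧ IsConj x x⁻¹ := by
  set N := pCore 2 G with hNdef
  haveI : N.Normal := Thompson.instPCoreNormal
  have hN2 : IsPGroup 2 N := Thompson.isPGroup_pCore
  have hNP : N < (P : Subgroup G) := by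
    refine lt_of_le_of_ne (Thompson.pCore_le_sylow P) fun he => h ?_
    rw [← he]; infer_instance
  -- an involution in the quotient
  obtain ⟨y, hyP, hyN⟩ := SetLike.exists_of_lt hNP
  obtain ⟨k, hk⟩ := IsPGroup.iff_orderOf.mp (P.isPGroup'.map (QuotientGroup.mk' N)) ⟨_, mem_map_of_mem _ hyP⟩
  rw [Subgroup.orderOf_mk] at hk
  have hy1 : orderOf ((QuotientGroup.mk' N) y) ≠ 1 := by
    rw [Ne, orderOf_eq_one_iff]; exact fun he => hyN ((QuotientGroup.eq_one_iff y).mp he)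
  have hk0 : k ≠ 0 := fun he => hy1 (by rw [hk, he, pow_zero])
  set t := ((QuotientGroup.mk' N) y) ^ (2 ^ (k - 1)) with htdef
  have ht : orderOf t = 2 := by
    rw [htdef, orderOf_pow, hk, Nat.gcd_eq_right (Nat.pow_dvd_pow 2 (by omega)),
      Nat.pow_div (by omega) (by norm_num), show k - (k - 1) = 1 by omega, pow_one]
  -- Baer-Suzuki
  obtain ⟨g, hg⟩ : ∃ g : G ⧸ N, ¬ IsPGroup 2 (closure ({t, g * t * g⁻¹} : Set (G ⧸ N))) := by
    by_contra hall
    push Not at hall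
    obtain ⟨M, hM, hM2, htM⟩ := Involution.baerSuzuki (p := 2) t hall
    have hle : M ≤ pCore 2 (G ⧸ N) := Thompson.le_pCore hM hM2
    rw [Thompson.pCore_quotient_pCore] at hle
    exact Involution.ne_one_of_orderOf ht (mem_bot.mp (hle htM))
  set s := g * t * g⁻¹ with hsdef
  have ht2 := Involution.mul_self_of_orderOf ht
  have hs2 : s * s = 1 := by rw [hsdef]; calc _ = g * (t * t) * g⁻¹ := by group
                                          _ = 1 := by rw [ht2]; group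
  set d := t * s
  obtain ⟨q, hq, hqd, hq2⟩ : ∃ q, q.Prime ∧ q ∣ orderOf d ∧ q ≠ 2 := by
    by_contra hno
    push Not at hno
    apply hg
    obtain ⟨e, he⟩ : ∃ e, orderOf d = 2 ^ e :=
      ⟨_, Nat.eq_prime_pow_of_unique_prime_dvd (orderOf_pos d).ne' (fun {q} hq hqd => hno q hq hqd)⟩
    rintro ⟨z, hz⟩
    obtain ⟨i, hi | hi⟩ := (Involution.mem_closure_pair_involutions ht2 hs2).mp hz
    · refine ⟨e, Subtype.ext ?_⟩
      subst hi
      change (d ^ i) ^ 2 ^ e = 1
      rw [← he, ← zpow_natCast, ← zpow_mul, mul_comm, zpow_mul, zpow_natCast, pow_orderOf_eq_one,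
        one_zpow]
    · refine ⟨1, Subtype.ext ?_⟩
      subst hi
      change (t * d ^ i) ^ 2 ^ 1 = 1
      rw [pow_one, pow_two]
      exact Involution.left_mul_zpow_sq ht2 hs2 i
  haveI := Fact.mk hq
  set c := d ^ (orderOf d / q) with hcdef
  have hc : orderOf c = q := orderOf_pow_orderOf_div (orderOf_pos d).ne' hqd
  have hinv : t * c * t⁻¹ = c⁻¹ := by
    have h0 : t * d * t⁻¹ = d⁻¹ := Involution.inverts_mul ht2 hs2
    rw [hcdef, ← conj_pow, h0, inv_pow]
  -- lift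
  obtain ⟨c₀, hc₀⟩ := QuotientGroup.mk_surjective c
  obtain ⟨u, hu⟩ := QuotientGroup.mk_surjective t
  obtain ⟨i, m, hm, him⟩ := Nat.exists_eq_pow_mul_and_not_dvd (orderOf_pos c₀).ne' 2 (by norm_num)
  have hqodd : ¬ 2 ∣ q := fun hd => hq2 ((Nat.prime_dvd_prime_iff_eq Nat.prime_two hq).mp hd).symm
  obtain ⟨w, hw⟩ : ∃ w, 2 ^ i * w % q = 1 % q := by
    obtain ⟨w, hw⟩ := Nat.exists_mul_mod_eq_one_of_coprime
      (Nat.Coprime.pow_left i ((Nat.prime_two.coprime_iff_not_dvd).mpr hqodd)) hq.one_lt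
    exact ⟨w, by rw [hw.2, Nat.mod_eq_of_lt hq.one_lt]⟩
  set x := c₀ ^ (2 ^ i * w) with hxdef
  have hxc : (x : G ⧸ N) = c := by
    rw [hxdef, QuotientGroup.mk_pow, hc₀]
    have h1 : 2 ^ i * w ≡ 1 [MOD orderOf c] := by rw [hc]; exact hw
    calc c ^ (2 ^ i * w) = c ^ 1 := pow_eq_pow_iff_modEq.mpr h1
      _ = c := pow_one c
  have hxodd : Odd (orderOf x) := by
    have : orderOf x ∣ m := by
      apply orderOf_dvd_of_pow_eq_one
      rw [hxdef, ← pow_mul, show 2 ^ i * w * m = orderOf c₀ * w by rw [him]; ring, pow_mul,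
        pow_orderOf_eq_one, one_pow]
    exact (Nat.not_even_iff_odd.mp fun he => hm he.two_dvd).of_dvd_nat this
  refine ⟨x, fun h1 => hq.one_lt.ne' (by rw [← hc, ← hxc, h1, QuotientGroup.mk_one, orderOf_one]),
    hxodd, ?_⟩
  -- Schur-Zassenhaus by hand: the two complements `zpowers x`, `u (zpowers x) u⁻¹` of `N`
  set K := N ⊔ zpowers x with hK
  have hux : u * x * u⁻¹ ∈ K := by
    have : ((u * x * u⁻¹ * x : G) : G ⧸ N) = 1 := by
      rw [QuotientGroup.mk_mul, QuotientGroup.mk_mul, QuotientGroup.mk_mul, QuotientGroup.mk_inv,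
        hu, hxc, hinv, inv_mul_cancel]
    rw [QuotientGroup.eq_one_iff] at this
    have h2 := K.mul_mem (le_sup_left (b := zpowers x) this)
      (K.inv_mem (le_sup_right (a := N) (mem_zpowers x)))
    simpa using h2
  obtain ⟨n, hn, hconj⟩ := exists_conj_zpow_of_mem_sup hN2 hxodd (x := x) (y := u * x * u⁻¹)
    (by rw [orderOf_injective (MulAut.conj u).toMonoidHom (MulAut.conj u).injective x |>.symm]; rfl) hux
  obtain ⟨l, hl⟩ := mem_zpowers_iff.mp hconj
  refine isConj_iff.mpr ⟨n * u, ?_⟩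
  have hmem : n * u * x * (n * u)⁻¹ * x ∈ N ⊓ zpowers x := by
    refine ⟨?_, ?_⟩
    · change n * u * x * (n * u)⁻¹ * x ∈ N
      rw [← QuotientGroup.eq_one_iff]
      simp only [QuotientGroup.mk_mul, QuotientGroup.mk_inv, mul_inv_rev]
      rw [show (n : G ⧸ N) * u * x * ((u : G ⧸ N)⁻¹ * (n : G ⧸ N)⁻¹) =
        (n : G ⧸ N) * ((u : G ⧸ N) * x * (u : G ⧸ N)⁻¹) * (n : G ⧸ N)⁻¹ by group]
      rw [(QuotientGroup.eq_one_iff n).mpr hn]
      rw [hu, hxc, hinv]
      simp
    · change n * u * x * (n * u)⁻¹ * x ∈ zpowers x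
      rw [show n * u * x * (n * u)⁻¹ = n * (u * x * u⁻¹) * n⁻¹ by group, ← hl]
      exact mul_mem (zpow_mem (mem_zpowers x) l) (mem_zpowers x)
  have h1 : N ⊓ zpowers x = ⊥ := by
    apply inf_eq_bot_of_coprime
    obtain ⟨e, he⟩ := IsPGroup.iff_card.mp hN2
    rw [he, Nat.card_zpowers]
    exact Nat.Coprime.pow_left _ (Nat.prime_two.coprime_iff_not_dvd.mpr
      (fun hd => (Nat.not_even_iff_odd.mpr hxodd) (even_iff_two_dvd.mpr hd)))
  rw [h1, mem_bot] at hmem
  exact eq_inv_of_mul_eq_one_left hmem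
theorem no_real_odd_iff (P : Sylow 2 G) :
    (∀ x : G, x ≠ 1 → Odd (orderOf x) → ¬ IsConj x x⁻¹) ↔ (P : Subgroup G).Normal := by
  constructor
  · intro h
    by_contra hn
    obtain ⟨x, h1, h2, h3⟩ := exists_prime_real_of_not_normal P hn
    exact h x h1 h2 h3
  · intro hn x hx hodd hreal
    haveI := hn
    obtain ⟨-, -, hN⟩ := real_basic x hreal
    have hidx : Odd (P : Subgroup G).index :=
      Nat.not_even_iff_odd.mp fun he => P.not_dvd_index he.two_dvd
    obtain ⟨hxP, -⟩ := hN (P : Subgroup G) hidx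
    obtain ⟨k, hk⟩ := IsPGroup.iff_orderOf.mp P.isPGroup' ⟨x, hxP⟩
    rw [Subgroup.orderOf_mk] at hk
    rcases Nat.eq_zero_or_pos k with rfl | hk0
    · exact hx (orderOf_eq_one_iff.mp (by rw [hk, pow_zero]))
    · rw [hk] at hodd
      exact absurd hodd (Nat.not_odd_iff_even.mpr ((Nat.even_pow' hk0.ne').mpr even_two))

theorem commute_of_real_fixed (Q : Subgroup G) (hQ : IsPGroup 2 Q) {g : G}
    (hg : g ∈ normalizer (Q : Set G)) (hodd : Odd (orderOf g))
    (h : ∀ z ∈ Q, IsConj z z⁻¹ → Commute g z) : ∀ x ∈ Q, Commute g x := by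
  suffices key : ∀ n : ℕ, ∀ x ∈ Q, x ^ (2 ^ n) = 1 → Commute g x by
    intro x hx
    obtain ⟨n, hn⟩ := hQ ⟨x, hx⟩
    exact key n x hx (congrArg Subtype.val hn)
  intro n
  induction n with
  | zero => intro x _ hx; rw [pow_zero, pow_one] at hx; rw [hx]; exact Commute.one_right g
  | succ n ih =>
    intro x hxQ hx
    have hsq : Commute g (x ^ 2) := ih _ (Q.pow_mem hxQ 2) (by rw [← pow_mul, ← pow_succ', hx])
    set y := g * x * g⁻¹ with hy
    have hyQ : y ∈ Q := (mem_normalizer_iff.mp hg x).mp hxQ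
    have hy2 : y * y = x * x := by
      calc y * y = g * (x ^ 2) * g⁻¹ := by rw [hy, pow_two]; group
        _ = x * x := by rw [hsq.eq, mul_inv_cancel_right, pow_two]
    set z := x⁻¹ * y with hz
    have hzQ : z ∈ Q := Q.mul_mem (Q.inv_mem hxQ) hyQ
    have hreal : IsConj z z⁻¹ := by
      refine isConj_iff.mpr ⟨x, ?_⟩
      calc x * z * x⁻¹ = y⁻¹ * (y * y) * x⁻¹ := by rw [hz]; group
        _ = z⁻¹ := by rw [hy2, hz]; group
    have hgz : Commute g z := h z hzQ hreal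
    have hiter : ∀ k : ℕ, g ^ k * x * (g ^ k)⁻¹ = x * z ^ k := by
      intro k
      induction k with
      | zero => simp
      | succ k ihk =>
        have hzg : g * z ^ k * g⁻¹ = z ^ k := by
          rw [(hgz.pow_right k).eq, mul_inv_cancel_right]
        calc g ^ (k + 1) * x * (g ^ (k + 1))⁻¹
            = g * (g ^ k * x * (g ^ k)⁻¹) * g⁻¹ := by rw [pow_succ']; group
          _ = (g * x * g⁻¹) * (g * z ^ k * g⁻¹) := by rw [ihk]; group
          _ = x * z * z ^ k := by rw [hzg, hz, hy]; group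
          _ = x * z ^ (k + 1) := by rw [pow_succ']; group
    have hz1 : z ^ orderOf g = 1 := by
      have := hiter (orderOf g)
      rw [pow_orderOf_eq_one, one_mul, inv_one, mul_one] at this
      exact (left_eq_mul.mp this)
    obtain ⟨m, hm⟩ := IsPGroup.iff_orderOf.mp hQ ⟨z, hzQ⟩
    rw [Subgroup.orderOf_mk] at hm
    have hd : orderOf z ∣ orderOf g := orderOf_dvd_of_pow_eq_one hz1
    rcases Nat.eq_zero_or_pos m with rfl | hm0
    · have hz0 : z = 1 := orderOf_eq_one_iff.mp (by rw [hm, pow_zero])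
      have hxy : x = y := by rw [hz] at hz0; exact inv_mul_eq_one.mp hz0
      exact mul_inv_eq_iff_eq_mul.mp hxy.symm
    · have h2 := hodd.of_dvd_nat hd
      rw [hm] at h2
      exact absurd h2 (Nat.not_odd_iff_even.mpr ((Nat.even_pow' hm0.ne').mpr even_two))

theorem normalTwoComplement_of_real_central
    (h : ∀ x : G, (∃ j : ℕ, orderOf x = 2 ^ j) → IsConj x x⁻¹ → x ∈ Subgroup.center G) :
    Cfsg.HasNormalPComplement 2 G := by
  obtain ⟨P⟩ := (inferInstance : Nonempty (Sylow 2 G))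
  refine Transfer.hasNormalPComplement_of_normalizer_centralizer P fun Q hQ _ g hg hcop => ?_
  have hQ2 : IsPGroup 2 Q := P.isPGroup'.to_le hQ
  have hodd : Odd (orderOf g) := Nat.not_even_iff_odd.mp fun he =>
    absurd (Nat.eq_one_of_dvd_coprimes hcop he.two_dvd dvd_rfl) (by decide)
  rw [mem_centralizer_iff]
  intro x hx
  refine (commute_of_real_fixed Q hQ2 hg hodd (fun z hz hreal => ?_) x hx).symm.eq
  obtain ⟨j, hj⟩ := IsPGroup.iff_orderOf.mp hQ2 ⟨z, hz⟩
  rw [Subgroup.orderOf_mk] at hj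
  exact mem_center_iff.mp (h z ⟨j, hj⟩ hreal) g

end Cfsg.Agent.FG38
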